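import Cfsg.Agent.H5.U3D

/-! Point-transitive subgroups of `SU(3, q)` containing many transvections. -/

set_option autoImplicit false
set_option linter.unusedSectionVars false

namespace Cfsg.Agent.H5

open Module H1 MulAction Projectivization
open scoped LinearAlgebra.Projectivization

theorem invol_dihedral {G : Type*} [Group G] [Finite G] {a c : G} (ha : a * a = 1) (hc : c * c = 1) :
    ∃ k : ℕ, (a * c) ^ k * a = c * (a * c) ^ k ∨ (a * c) ^ k ≠ 1 ∧ (a * c) ^ k * (a * c) ^ k = 1 ∧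
      Commute a ((a * c) ^ k) ∧ Commute c ((a * c) ^ k) := by
  have h1 : ∀ k : ℕ, (a * c) ^ k * a * (a * c) ^ k = a := fun k => by
    induction k with
    | zero => simp
    | succ k ih =>
      calc _ = (a * c) ^ k * (a * (c * (a * a) * c)) * (a * c) ^ k := by
            nth_rw 1 [pow_succ]; rw [pow_succ']; simp only [mul_assoc]
        _ = a := by rw [ha, mul_one, hc, mul_one, ih]
  have h0 := orderOf_pos (a * c)
  have hp := pow_orderOf_eq_one (a * c)
  obtain ⟨k, hk | hk⟩ := Nat.even_or_odd' (orderOf (a * c))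
  · rw [hk, two_mul, pow_add] at hp
    have h2 : Commute a ((a * c) ^ k) := by
      have := congrArg ((a * c) ^ k * ·) (h1 k)
      simp only [← mul_assoc, hp, one_mul] at this
      exact this
    refine ⟨k, Or.inr ⟨pow_ne_one_of_lt_orderOf (by omega) (by omega), hp, h2, ?_⟩⟩
    simpa [← mul_assoc, ha] using h2.mul_left ((Commute.refl (a * c)).pow_right k)
  · refine ⟨k, Or.inl (mul_right_cancel (b := (a * c) ^ k) ?_)⟩
    rw [h1, mul_assoc, ← pow_add, eq_comm, ← mul_right_inj a, ← mul_assoc, ← pow_succ', ha,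
      ← two_mul, ← hk, hp]

variable {F : Type*} [Field F] {σ : F →+* F} {E : Type*} [AddCommGroup E] [Module F E]
  [FiniteDimensional F E] {B : Sesq σ E} {H : Subgroup (SUb B)} {e w f : E} [Fintype F] {q : ℕ}

/-- `H` is transitive on the isotropic points. -/
def Tr (H : Subgroup (SUb B)) : Prop := ∀ x ∈ Om B, ∀ y ∈ Om B, ∃ g ∈ H, g • x = y

theorem Fr3.P0_trans (h : Fr3 B e w f) (hT : Tr H) {u : E} (hu0 : u ≠ 0) (hu : B u u = 0) :
    ∃ s : F, s ≠ 0 ∧ σ s = s ∧ ∀ c ∈ P0 H h.ee, c * s ∈ P0 H hu := by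
  obtain ⟨g, hg, e1⟩ := hT _ ((mk_mem_Om h.e0).2 h.ee) _ ((mk_mem_Om hu0).2 hu)
  obtain ⟨a, ha⟩ := smul_mk_eq.1 e1
  have h0 : a ≠ 0 := by
    rintro rfl
    exact h.e0 (rep_injective _ g (by simpa using ha))
  exact ⟨a * σ a, by simp [h0], by simp [h.eps.invol, mul_comm], fun c hc => P0_conj h.ee hu hg ha hc⟩

theorem Fr3.top_of_P0 (hU : UF σ q) (hq : 3 ≤ q) (h : Fr3 B e w f) (hT : Tr H)
    (hall : ∀ c, σ c = -c → c ∈ P0 H h.ee) : H = ⊤ := by
  have h1 : ∀ u d, B u u = 0 → σ d = -d → ut h.eps u d ∈ H := fun u d hu hd => by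
    by_cases hu0 : u = 0
    · have : ut h.eps u d = 1 := H1.su_ext fun z => by rw [ut_apply h.eps hu hd]; simp [hu0]
      exact this ▸ H.one_mem
    obtain ⟨s, hs0, hs, hP⟩ := h.P0_trans hT hu0 hu
    obtain ⟨k, hk, e1⟩ := hP (d / s) (hall _ (by rw [map_div₀, hd, hs, neg_div]))
    have : ut h.eps u d = k := H1.su_ext fun z => by
      rw [ut_apply h.eps hu hd, e1, div_mul_cancel₀ _ hs0]
    exact this ▸ hk
  refine top_le_iff.1 (le_of_eq_of_le (su_eq_top_of_normal h.eps hU (Or.inr ?_) H.normalCore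
    fun u d hu hd g => ?_).symm H.normalCore_le)
  · classical
    by_contra hn
    push Not at hn
    have := Nat.card_le_card_of_injective (fun x : {x : F // σ x = x} => decide (x.1 = 0))
      (fun x y hxy => Subtype.ext (by
        by_cases hx : x.1 = 0
        · rw [hx]; simpa [hx, eq_comm] using hxy
        · rw [hn _ x.2 hx, hn _ y.2 (by simpa [hx] using hxy)]))
    rw [hU.card_fixed, Nat.card_eq_fintype_card, Fintype.card_bool] at this
    omega
  · rw [ut_conj h.eps g hu hd, mul_inv_cancel_right]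
    exact h1 _ _ (by rw [suAct_pres, hu]) hd

theorem Fr3.top_of_lines (hU : UF σ q) (hq : 3 ≤ q) (h : Fr3 B e w f) (hT : Tr H)
    (hl : ∀ w' f', Fr3 B e w' f' → ∃ k ∈ H, ∃ l : F, l ≠ 1 ∧ suAct B k e = l • e ∧ suAct B k w' = w') :
    H = ⊤ := by
  have hdiv : ∀ k ∈ H, ∀ (l : F) w' f', Fr3 B e w' f' → l ≠ 1 → suAct B k e = l • e →
      suAct B k w' = w' → ∀ t, (l - 1) * t ∈ Pt H e w → t ∈ Pt H e w := by
    intro k hk l w' f' h' h1 h2 h3 t ht
    obtain ⟨h0, ν, a, -, -, a1, -, -, a4, -⟩ := h'.stab h2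
    obtain rfl : ν = 1 := by simpa [h'.ww, h'.ew] using congrArg (B · w') (a1.symm.trans h3)
    have h4 : ∀ a ∈ Pt H e w, (l - 1) * a ∈ Pt H e w := fun a ha => by
      have := sub_mem (h.Pt_conj hk h2 ha) ha
      rw [← a4] at this
      convert this using 1
      field_simp
    have h5 := mul_right_injective₀ (sub_ne_zero.2 h1)
    obtain ⟨a, ha⟩ := Finite.surjective_of_injective
      (f := fun a : Pt H e w => (⟨_, h4 a a.2⟩ : Pt H e w))
      (fun a b hab => Subtype.ext (h5 (congrArg Subtype.val hab))) ⟨_, ht⟩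
    exact h5 (congrArg Subtype.val ha) ▸ a.2
  have hP : ∀ t, t ∈ Pt H e w := fun t => by
    obtain ⟨f', h'⟩ := h.shift hU t
    obtain ⟨k, hk, l, l1, k1, k2⟩ := hl w f h
    obtain ⟨j, hj, m, m1, j1, j2⟩ := hl _ f' h'
    refine hdiv j hj m _ _ h' m1 j1 j2 t (hdiv k hk l _ _ h l1 k1 k2 _ ?_)
    have j3 : suAct B j w = w + ((1 - m) * t) • e := by
      rw [map_add, map_smul, j1] at j2
      linear_combination (norm := module) j2
    have h0 := (h.stab k1).1
    have h0' := (h.stab j1).1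
    have a1 : suAct B (j * k * (k * j)⁻¹) e = e := by
      rw [act_mul_apply, act_inv_eq (u := (l * m)⁻¹ • e) (by
        simp only [act_mul_apply, map_smul, k1, j1]; match_scalars; field_simp)]
      simp only [act_mul_apply, map_smul, k1, j1]; match_scalars; field_simp
    refine ⟨j * k * (k * j)⁻¹, H.mul_mem (H.mul_mem hj hk) (H.inv_mem (H.mul_mem hk hj)), a1, ?_⟩
    rw [act_mul_apply, act_inv_eq (u := w - ((1 - m) * t / m) • e) (by
      simp only [act_mul_apply, map_smul, map_add, map_sub, k1, j1, k2, j3]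
      match_scalars <;> field_simp <;> ring)]
    simp only [act_mul_apply, map_smul, map_add, map_sub, k1, j1, k2, j3]
    match_scalars <;> field_simp <;> ring
  refine h.top_of_P0 hU hq hT fun c hc => ?_
  obtain ⟨θ, hθ⟩ := hU.exists_trace_one
  convert h.Pt_comm (hP 1) (hP (c * θ)) using 1
  rw [map_mul, hc, map_one]
  linear_combination -c * hθ

theorem Fr3.ncard_line (hU : UF σ q) (h : Fr3 B e w f) :
    {y ∈ Om B | B y.rep w = 0}.ncard = q + 1 := by
  have hne : ∀ b : F, f + b • e ≠ 0 := fun b h0 => by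
    simpa [h.fe, h.ee] using congrArg (B · e) h0
  have hw : ∀ {v : E} (hv : v ≠ 0), B (Projectivization.mk F v hv).rep w = 0 ↔ B v w = 0 :=
    fun {v} hv => by
      obtain ⟨a, ha⟩ := exists_smul_eq_mk_rep F v hv
      simp [← ha, Units.smul_def]
  have h1 : {y ∈ Om B | B y.rep w = 0} = insert (Projectivization.mk F e h.e0)
      ((fun b => Projectivization.mk F _ (hne b)) '' {b | σ b = -b}) := by
    refine Set.Subset.antisymm (fun y hy => or_iff_not_imp_left.2 fun hn => ?_) ?_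
    · obtain ⟨u, hu, rfl, h1, h2⟩ := h.exists_rep hy.1 hn
      have h3 := h.dec u
      rw [(hw hu).1 hy.2, h2] at h3
      refine ⟨B u f, ?_, (mk_eq_mk_iff' _ _ _ _ _).2 ⟨1, by simpa [add_comm] using h3⟩⟩
      rw [h3] at h1
      simp [h.ee, h.ef, h.fe, h.ff] at h1
      simp only [Set.mem_ofPred_eq]
      linear_combination h1
    · rintro _ (rfl | ⟨b, hb, rfl⟩)
      · exact ⟨(mk_mem_Om _).2 h.ee, (hw _).2 h.ew⟩
      · have hb : σ b = -b := hb
        exact ⟨(mk_mem_Om _).2 (by simp [h.ee, h.ef, h.fe, h.ff, hb]),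
          (hw _).2 (by simp [h.ew, h.fw])⟩
  rw [h1, Set.ncard_insert_of_notMem, Set.ncard_image_of_injective]
  · exact congrArg (· + 1) (card_trace_zero hU)
  · intro a b hab
    obtain ⟨c, hc⟩ := (mk_eq_mk_iff' _ _ _ _ _).1 hab
    have a1 := congrArg (B · e) hc
    have a2 := congrArg (B · f) hc
    simp [h.ee, h.ef, h.fe, h.ff] at a1 a2
    rw [← a2, a1, one_mul]
  · rintro ⟨b, -, hb⟩
    obtain ⟨c, hc⟩ := (mk_eq_mk_iff' _ _ _ _ _).1 hb
    simpa [h.ee, h.fe] using congrArg (B · e) hc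

theorem Fr3.exists_neg (hU : UF σ q) (h : Fr3 B e w f) (hT : Tr H) (h2 : (2 : F) ≠ 0) {c : F}
    (hc : c ∈ P0 H h.ee) (hc0 : c ≠ 0) :
    ∃ k ∈ H, ∃ l : F, l ≠ 1 ∧ suAct B k e = l • e ∧ suAct B k w = w := by
  have := finite_SUb B
  have hinv : ∀ k ∈ H ⊓ stabilizer (SUb B) w, ∀ y ∈ {y ∈ Om B | B y.rep w = 0},
      k • y ∈ {y ∈ Om B | B y.rep w = 0} := fun k hk y hy => by
    refine ⟨smul_mem_Om k hy.1, ?_⟩
    obtain ⟨a, ha⟩ := (smul_mk_eq (g := k) (hv := y.rep_nonzero) (hu := (k • y).rep_nonzero)).1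
      (by simp)
    have h0 : a ≠ 0 := by
      rintro rfl
      exact y.rep_nonzero (rep_injective _ k (by simpa using ha))
    have h1 := suAct_pres k y.rep w
    rw [ha, show suAct B k w = w from hk.2, hy.2] at h1
    simpa [h0] using h1
  have hx : Projectivization.mk F e h.e0 ∈ {y ∈ Om B | B y.rep w = 0} := by
    obtain ⟨a, ha⟩ := exists_smul_eq_mk_rep F e h.e0
    exact ⟨(mk_mem_Om _).2 h.ee, by simp [← ha, Units.smul_def, h.ew]⟩
  have h1 := card_eq_of_trans _ hinv hx fun y hy => trans_of_unip hU h.eps h.dim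
    (fun _ h => h.1) hinv (fun z hz => by
      obtain ⟨s, hs0, -, hP⟩ := h.P0_trans hT z.rep_nonzero hz.1
      obtain ⟨k, hk, e1⟩ := hP c hc
      have hz1 : B z.rep z.rep = 0 := hz.1
      refine ⟨k, ⟨hk, by simp [su_smul, e1, h.eps.refl hz.2]⟩, by simp [e1, hz1], fun e2 => ?_⟩
      refine z.rep_nonzero (h.eps.nondeg' _ fun u => ?_)
      simpa [e2, hc0, hs0, z.rep_nonzero] using e1 u) hx hy
  rw [h.ncard_line hU] at h1
  have hq : 2 ∣ q + 1 := by
    by_contra hn
    obtain ⟨j, hj⟩ : 2 ∣ q := by omega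
    obtain ⟨p, hp⟩ := CharP.exists F
    obtain ⟨hp', i, -, rfl⟩ := exists_char_pow hU.card p
    obtain rfl := (Nat.prime_dvd_prime_iff_eq Nat.prime_two hp').1
      (Nat.prime_two.dvd_of_dvd_pow ⟨j, hj⟩)
    exact h2 (CharP.cast_eq_zero F 2)
  obtain ⟨⟨t, ht⟩, ho⟩ := exists_prime_orderOf_dvd_card' 2 (h1 ▸ hq.mul_right _)
  rw [Subgroup.orderOf_mk] at ho
  obtain ⟨ht, tw⟩ := ht
  have tw : suAct B t w = w := tw
  have t2 : ∀ v, suAct B t (suAct B t v) = v := fun v => by
    rw [← act_mul_apply, ← sq, ← ho, pow_orderOf_eq_one]; simp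
  obtain ⟨a, b, d, e1⟩ := h.exists_dec (suAct B t e)
  obtain ⟨a', b', d', e2⟩ := h.exists_dec (suAct B t f)
  have a1 := suAct_pres t e w
  have a2 := suAct_pres t f w
  simp [tw, e1, e2, h.ew, h.ww, h.fw] at a1 a2
  subst a1 a2
  have a3 := h.det_eq (T := suAct B t) (b₁ := 0) (b₂ := 1) (b₃ := 0) e1 (by simp [tw]) e2
  have a4 := congrArg (B · f) (t2 e)
  have a5 := congrArg (B · e) (t2 e)
  have a6 := congrArg (B · f) (t2 f)
  simp [suAct_det, e1, e2, h.ee, h.ef, h.fe, h.ff] at a3 a4 a5 a6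
  refine ⟨t, ht, -1, fun e3 => h2 (by linear_combination -e3), ?_, tw⟩
  have hs : a + d' ≠ 0 := fun hs => h2 (by linear_combination a3 - a4 + a * hs)
  obtain rfl : d = 0 := (mul_eq_zero.1 (by linear_combination a5)).resolve_left hs
  obtain rfl : a' = 0 := (mul_eq_zero.1 (by linear_combination a6)).resolve_left hs
  obtain rfl | rfl := mul_self_eq_one_iff.1 (show a * a = 1 by simpa using a4)
  · refine absurd (h.eq_one (g := t) (c := d') (by simp [e1]) (by simp [e2])) fun e3 => ?_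
    simp [e3] at ho
  · simp [e1]

theorem Fr3.exists_mult (h : Fr3 B e w f) (hT : Tr H) (h2 : (2 : F) = 0) {c₁ c₂ : F}
    (hc₁ : c₁ ∈ P0 H h.ee) (hc₂ : c₂ ∈ P0 H h.ee) (h01 : c₁ ≠ 0) (h02 : c₂ ≠ 0) (hne : c₁ ≠ c₂) :
    ∃ k ∈ H, ∃ l : F, l ≠ 1 ∧ suAct B k e = l • e ∧ suAct B k w = w := by
  have := finite_SUb B
  obtain ⟨s, hs0, -, hP⟩ := h.P0_trans hT h.f0 h.ff
  obtain ⟨c, hc, e1⟩ := hP c₁ hc₁
  have inv : ∀ (a : SUb B) (u : E) (d : F), B u u = 0 → (∀ z, suAct B a z = z + (d * B z u) • u) →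
      a * a = 1 := fun a u d hu ha => H1.su_ext fun z => by
    simp [ha, hu]
    linear_combination (norm := module) h2 • (d * B z u) • u
  have key : ∀ d ∈ P0 H h.ee, d ≠ 0 → ∃ a k, k ∈ H ∧ (∀ z, suAct B a z = z + (d * B z e) • e) ∧
      k * a = c * k ∧ suAct B k w = w := by
    rintro d ⟨a, ha, e2⟩ hd
    have hw : ∀ j : ℕ, suAct B ((a * c) ^ j) w = w := fun j => by
      induction j with
      | zero => simp
      | succ j ih => rw [pow_succ', act_mul_apply, ih]; simp [e1, e2, h.we, h.wf]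
    obtain ⟨j, hj | ⟨t1, t2, t3, t4⟩⟩ := invol_dihedral (inv a e d h.ee e2) (inv c f _ h.ff e1)
    · exact ⟨a, _, H.pow_mem (H.mul_mem ha hc) j, e2, hj, hw j⟩
    generalize (a * c) ^ j = t at *
    have a1 := congrArg (suAct B · f) t3
    have a2 := congrArg (suAct B · e) t4
    simp only [act_mul_apply, e1, e2, map_add, map_smul, h.fe, h.ef, mul_one, add_right_inj,
      mul_smul] at a1 a2
    have a1 := (smul_right_injective E hd a1).symm
    have a2 := (smul_right_injective E hs0 (smul_right_injective E h01 a2)).symm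
    generalize B (suAct B t f) e = l at a1
    have a3 := congrArg (fun x => B (suAct B x e) f) t2
    simp [a1, h.ef] at a3
    have : l = 1 := by
      have : (l - 1) ^ 2 = 0 := by linear_combination a3 + (1 - l) * h2
      exact sub_eq_zero.1 (pow_eq_zero_iff two_ne_zero |>.1 this)
    exact absurd (h.eq_one (by simpa [this] using a1) a2) t1
  obtain ⟨a, k, hk, a1, a2, a3⟩ := key c₁ hc₁ h01
  obtain ⟨b, j, hj, b1, b2, b3⟩ := key c₂ hc₂ h02
  have h3 : j⁻¹ * k * a = b * (j⁻¹ * k) := by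
    rw [mul_assoc, a2, ← mul_assoc, ← mul_assoc, mul_left_inj, inv_mul_eq_iff_eq_mul, ← mul_assoc, b2,
      mul_inv_cancel_right]
  have h4 : suAct B (j⁻¹ * k) w = w := by rw [act_mul_apply, a3]; exact act_inv_eq b3
  have h5 := H.mul_mem (H.inv_mem hj) hk
  generalize j⁻¹ * k = g at *
  have h6 := congrArg (suAct B · f) h3
  simp only [act_mul_apply, a1, b1, map_add, map_smul, h.fe, mul_one, add_right_inj] at h6
  have h7 : suAct B g e = (c₁⁻¹ * (c₂ * B (suAct B g f) e)) • e := by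
    rw [mul_smul, ← h6, inv_smul_smul₀ h01]
  refine ⟨g, h5, _, fun h8 => hne ?_, h7, h4⟩
  rw [h8, one_smul] at h7
  have h9 := suAct_pres g f e
  rw [h7, h.fe] at h9
  rw [h9, mul_one, inv_mul_eq_one₀ h01] at h8
  exact h8

end Cfsg.Agent.H5
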