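import Mathlib

set_option autoImplicit false

namespace Cfsg.Agent.H5

theorem card_GL_prod (F : Type*) [Field F] [Fintype F] (d : ℕ) :
    Nat.card (GL (Fin d) F) = (∏ i ∈ Finset.range d, Fintype.card F ^ i) *
      ∏ i ∈ Finset.range d, (Fintype.card F ^ (i + 1) - 1) := by
  rw [Matrix.card_GL_field, Fin.prod_univ_eq_prod_range (fun i => Fintype.card F ^ d - Fintype.card F ^ i),
    ← Finset.prod_range_reflect (fun i => Fintype.card F ^ (i + 1) - 1), ← Finset.prod_mul_distrib]
  refine Finset.prod_congr rfl fun i hi => ?_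
  have := Finset.mem_range.1 hi
  rw [Nat.mul_sub, ← pow_add, mul_one]
  congr 2
  omega

theorem exists_odd_prime_dvd_pow_add_one {q n : ℕ} (hq : 2 ≤ q) (hn : 2 ≤ n) :
    ∃ r : ℕ, r.Prime ∧ r ≠ 2 ∧ r ∣ q ^ n + 1 := by
  rcases Nat.even_or_odd n with he | ho
  · obtain ⟨k, rfl⟩ := he
    by_contra hh
    push Not at hh
    have h1 : q ^ (k + k) + 1 = 2 ^ (q ^ (k + k) + 1).primeFactorsList.length :=
      Nat.eq_prime_pow_of_unique_prime_dvd (by omega) (fun {d} hd hdvd => by
        by_contra h2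
        exact hh d hd h2 hdvd)
    have h4 : 4 ≤ q ^ (k + k) := by
      calc 4 = 2 ^ 2 := rfl
        _ ≤ q ^ 2 := Nat.pow_le_pow_left hq 2
        _ ≤ _ := Nat.pow_le_pow_right (by omega) hn
    generalize (q ^ (k + k) + 1).primeFactorsList.length = a at h1
    have ha : 2 ≤ a := by
      by_contra h
      have : a = 0 ∨ a = 1 := by omega
      rcases this with rfl | rfl <;> omega
    have h5 : 4 ∣ q ^ (k + k) + 1 := h1 ▸ (pow_dvd_pow 2 ha)
    rw [pow_add] at h5
    generalize q ^ k = x at h5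
    have : x % 4 = 0 ∨ x % 4 = 1 ∨ x % 4 = 2 ∨ x % 4 = 3 := by omega
    have h6 := Nat.mul_mod x x 4
    rcases this with h | h | h | h <;> rw [h] at h6 <;> omega
  · obtain ⟨k, rfl⟩ := ho
    have key : ∀ k : ℕ, ∃ m : ℕ, q ^ (2 * k + 1) + 1 = (q + 1) * m ∧ Odd m := by
      intro k
      induction k with
      | zero => exact ⟨1, by simp, odd_one⟩
      | succ k ih =>
        obtain ⟨m, hm, hodd⟩ := ih
        obtain ⟨r, rfl⟩ : ∃ r, q = r + 1 := ⟨q - 1, by omega⟩
        refine ⟨m + (r + 1) ^ (2 * k + 1) * r, ?_, ?_⟩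
        · rw [mul_add (r + 1 + 1), ← hm]; ring
        · apply hodd.add_even
          rw [pow_succ, mul_assoc]
          apply Even.mul_left
          rw [mul_comm]
          exact Nat.even_mul_succ_self r
    obtain ⟨m, hm, hodd⟩ := key k
    have hm1 : m ≠ 1 := by
      rintro rfl
      have : q ^ 1 < q ^ (2 * k + 1) := Nat.pow_lt_pow_right hq (by omega)
      simp at this hm
      omega
    refine ⟨m.minFac, Nat.minFac_prime hm1, fun h2 => ?_, hm ▸ (Nat.minFac_dvd m).mul_left _⟩
    have := Nat.minFac_dvd m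
    rw [h2] at this
    exact (Nat.not_even_iff_odd.2 hodd) (even_iff_two_dvd.2 this)

end Cfsg.Agent.H5
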