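import Cfsg.Agent.H6.CStd

/-! Generation of odd form groups by two elements: the general reduction. -/

set_option autoImplicit false

namespace Cfsg.Agent.H5

open Subgroup H6 H6.OF

variable {K V : Type*} [Field K] [AddCommGroup V] [Module K V] {O : OF K V} {H : Subgroup O.U} {e f : V}

/-- The radical of the stabiliser of `e` lies in `H`. -/
def Rad (H : Subgroup O.U) (e : V) : Prop := ∀ v α, O.Ok e v α → O.T e v α ∈ H

theorem Rad.map (h : Rad H e) {g : O.U} (hg : g ∈ H) {c : K} (hc : c ≠ 0) (h1 : g • f = c • e) : Rad H f :=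
  fun v α h2 => (mul_mem_cancel_left hg).1 ((mul_mem_cancel_right (inv_mem hg)).1 (by
    rw [h2.conj_T' hc h1]
    exact h _ _ (Ok.of_smul hc (h1 ▸ h2.map g))))

theorem Rad.all (nd : ∀ x, (∀ y, O.B x y = 0) → x = 0) (he : O.Λ e 0) (hf : O.Λ f 0) (hfe : O.B f e ≠ 0)
    (h1 : Rad H e) (h2 : Rad H f) (x : V) : Rad H x := by
  have k : ∀ {e f x : V}, O.Λ e 0 → O.Λ f 0 → O.B f e ≠ 0 → Rad H e → Rad H f → O.Λ x 0 → O.B x e ≠ 0 → Rad H x :=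
    fun he hf hfe h1 h2 hx h => by
      obtain ⟨v, α, a1, -, -, a2⟩ := exists_T_smul_eq he hf hfe hx h
      exact h2.map (h1 _ _ a1) (div_ne_zero h hfe) a2
  have hef : O.B e f ≠ 0 := fun h => hfe (O.B_eq_zero_comm h)
  intro v α h
  by_cases h0 : x = 0
  · rw [show O.T x v α = 1 from U_ext fun y => by rw [h.T_smul]; simp [h0]]
    exact one_mem _
  by_cases a1 : O.B x e = 0
  swap
  · exact k he hf hfe h1 h2 h.sing a1 v α h
  by_cases a2 : O.B x f = 0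
  swap
  · exact k hf he hef h2 h1 h.sing a2 v α h
  obtain ⟨y, hy⟩ := not_forall.1 fun h => h0 (nd x h)
  obtain ⟨β, hβ⟩ := O.ex (y - (O.B y e / O.B f e) • f)
  have a3 : O.Ok e _ β := ⟨he, by simp [hfe], hβ⟩
  refine (k hf he hef h2 h1 ((Λ_U _ _ _).2 h.sing) ?_).map (h1 _ _ a3) one_ne_zero (one_smul _ _).symm v α h
  simp [a3.T_smul, a1, a2, hy, hef, O.η_ne]

/-- The element is an Eichler transformation with centre `e` and vector `v`. -/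
def Ei (O : OF K V) (e : V) (g : O.U) (v : V) : Prop := ∃ α, O.Ok e v α ∧ g = O.T e v α

theorem Ei.mul {g g' : O.U} {v w : V} (h : Ei O e g v) (h' : Ei O e g' w) : Ei O e (g * g') (v + w) := by
  obtain ⟨_, h, rfl⟩ := h
  obtain ⟨_, h', rfl⟩ := h'
  exact ⟨_, h.add h', h.T_mul h'⟩

theorem Ei.inv {g : O.U} {v : V} (h : Ei O e g v) : Ei O e g⁻¹ (-v) := by
  obtain ⟨_, h, rfl⟩ := h
  exact ⟨_, h.inv, h.T_inv⟩

theorem Ei.conj {g a : O.U} {v : V} (h : Ei O e g v) {c : K} (hc : c ≠ 0) (ha : a • e = c • e) :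
    Ei O e (a * g * a⁻¹) (O.σ c • a • v) := by
  obtain ⟨_, h, rfl⟩ := h
  exact ⟨_, Ok.of_smul hc (ha ▸ h.map a), h.conj_T' hc ha⟩

theorem rad_of_perp (he : O.Λ e 0) (hef : O.B e f ≠ 0)
    (h1 : ∀ v, O.B v e = 0 → O.B v f = 0 → ∃ g ∈ H, Ei O e g v)
    (h2 : ∀ β, O.Λ 0 β → ∃ v w, O.B v e = 0 ∧ O.B v f = 0 ∧ O.B w e = 0 ∧ O.B w f = 0 ∧
      β = O.η * O.B v w - O.η * O.B w v) : Rad H e := by
  have k : ∀ β, O.Λ 0 β → O.T e 0 β ∈ H := fun β hβ => by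
    obtain ⟨v, w, a1, a2, a3, a4, rfl⟩ := h2 β hβ
    obtain ⟨_, g1, α, b1, rfl⟩ := h1 v a1 a2
    obtain ⟨_, g2, γ, b2, rfl⟩ := h1 w a3 a4
    have := mul_mem (mul_mem g1 g2) (inv_mem (mul_mem g2 g1))
    rw [b1.T_mul b2, b2.T_mul b1, (b2.add b1).T_inv, (b1.add b2).T_mul (b2.add b1).inv] at this
    convert this using 2
    · abel
    · have := O.max (b2.add b1).mem
      rw [add_comm w v, map_neg, LinearMap.neg_apply] at *
      linear_combination -O.η * this + (γ + α - O.η * O.B v w) * O.ηη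
  intro v α h
  obtain ⟨a1, a2⟩ := h.T_add_self (-(O.B v f / O.B e f))
  obtain ⟨_, g1, β, b1, rfl⟩ := h1 _ a1.perp (by simp [hef])
  rw [map_zero, mul_zero, sub_zero] at a1
  have a3 := b1.inv.add a1
  rw [neg_add_cancel] at a3
  refine a2 ▸ mul_mem ((mul_mem_cancel_left (inv_mem g1)).1 ?_) (k _ (Λ_congr (O.min (O.B v f / O.B e f)) rfl (by
    simp; ring)))
  rw [b1.T_inv, b1.inv.T_mul a1, neg_add_cancel]
  exact k _ a3.mem

theorem rad_of_two (nd : ∀ x, (∀ y, O.B x y = 0) → x = 0) (he : O.Λ e 0) (hf : O.Λ f 0) (hfe : O.B f e ≠ 0)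
    {a n u : O.U} {ζ ζ' c : K} {x : V} (hζ : ζ ≠ 0) (hζ' : ζ' ≠ 0) (hc : c ≠ 0) (a1 : a • e = ζ • e)
    (a2 : (n * a * n⁻¹) • e = ζ' • e) (a3 : Commute a (n * a * n⁻¹)) (n1 : n • f = c • e) (hu : Ei O e u x)
    (h1 : a ∈ H) (h2 : u * n ∈ H)
    (hA : ∀ A : AddSubgroup V, (∀ v ∈ A, O.σ ζ • a • v ∈ A) → (O.σ ζ • a • x - x) -
      O.σ ζ' • (n * a * n⁻¹) • (O.σ ζ • a • x - x) ∈ A → ∀ v, O.B v e = 0 → O.B v f = 0 → v ∈ A)
    (hZ : ∀ β, O.Λ 0 β → ∃ v w, O.B v e = 0 ∧ O.B v f = 0 ∧ O.B w e = 0 ∧ O.B w f = 0 ∧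
      β = O.η * O.B v w - O.η * O.B w v) (y : V) : Rad H y := by
  have h3 : Rad H e := rad_of_perp he (fun h => hfe (O.B_eq_zero_comm h)) (hA
    { carrier := {v | ∃ g ∈ H, Ei O e g v}
      add_mem' := fun ⟨_, a, b⟩ ⟨_, c, d⟩ => ⟨_, mul_mem a c, b.mul d⟩
      zero_mem' := ⟨_, one_mem _, 0, Ok.zero he, (T_zero e).symm⟩
      neg_mem' := fun ⟨_, a, b⟩ => ⟨_, inv_mem a, b.inv⟩ }
    (fun v ⟨_, a, b⟩ => ⟨_, mul_mem (mul_mem h1 a) (inv_mem h1), b.conj hζ a1⟩) (by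
      have b1 := hu.conj hζ a1
      have b2 := ((b1.mul (b1.inv.conj hζ' a2)).mul (hu.conj hζ' a2)).mul hu.inv
      have b3 := mul_mem (mul_mem h2 h1) (inv_mem h2)
      refine ⟨_, ?_, by convert b2 using 1; simp only [U_sub, U_neg, smul_sub, smul_neg]; abel⟩
      convert mul_mem (mul_mem (mul_mem h1 b3) (inv_mem h1)) (inv_mem b3) using 1
      generalize hb : n * a * n⁻¹ = b at a3
      rw [show u * n * a * (u * n)⁻¹ = u * b * u⁻¹ by rw [← hb]; group]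
      calc _ = a * u * (a⁻¹ * b * a) * u⁻¹ * (a⁻¹ * b⁻¹ * b) * u * b⁻¹ * u⁻¹ := by group
        _ = _ := by rw [mul_assoc a⁻¹ b, ← a3.eq]; group)) hZ
  obtain ⟨α, b1, rfl⟩ := hu
  exact Rad.all nd he hf hfe h3 (h3.map ((mul_mem_cancel_left (h3 _ _ b1)).1 h2) hc n1) y

end Cfsg.Agent.H5
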