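import Cfsg.Agent.H1.SpW
import Cfsg.Agent.H2.M2

/-! Two generators for the symplectic groups. -/

set_option autoImplicit false

namespace Cfsg.Agent.H5

open Subgroup Module H1

/-- The group is generated by two elements. -/
def TwoGen (G : Type*) [Group G] : Prop := ∃ a b : G, closure {a, b} = ⊤

theorem TwoGen.of_surj {G G' : Type*} [Group G] [Group G'] (h : TwoGen G) {f : G →* G'}
    (hf : Function.Surjective f) : TwoGen G' :=
  let ⟨a, b, h⟩ := h
  ⟨f a, f b, by rw [← Set.image_pair, ← MonoidHom.map_closure, h, map_top_of_surjective _ hf]⟩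

theorem exists_ext (F : Type*) [Field F] [Finite F] {m : ℕ} (hm : m ≠ 0) :
    ∃ (K : Type) (_ : Field K) (_ : Algebra F K) (_ : Finite K), finrank F K = m := by
  obtain ⟨p, hp⟩ := CharP.exists F
  have : Fact p.Prime := ⟨CharP.char_is_prime F p⟩
  have : NeZero m := ⟨hm⟩
  exact ⟨FiniteField.Extension F p m, inferInstance, inferInstance, inferInstance,
    FiniteField.finrank_extension F p m⟩

theorem twoGen_sp (F : Type*) [Field F] [Finite F] {m : ℕ} (hm : 2 ≤ m) :
    TwoGen (Matrix.symplecticGroup (Fin m) F) := by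
  obtain ⟨K, _, _, _, hK⟩ := exists_ext F (m := m) (by omega)
  obtain ⟨l, hl⟩ := Projective.exists_dual_eq_one F (one_ne_zero (α := K))
  obtain ⟨e, e1, e0⟩ := (LinearMap.ker l).exists_mem_ne_zero_of_ne_bot (LinearMap.ker_ne_bot_of_finrank_lt (by
    rw [hK, finrank_self]; omega))
  let B : Bil F (K × K) := LinearMap.mk₂ F (fun x y => l (x.1 * y.2) - l (x.2 * y.1))
    (fun _ _ _ => by simp [add_mul]; ring) (fun _ _ _ => by simp [mul_sub])
    (fun _ _ _ => by simp [mul_add]; ring) (fun _ _ _ => by simp [mul_sub])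
  have b0 : ∀ x y, B x y = l (x.1 * y.2) - l (x.2 * y.1) := fun _ _ => rfl
  have b1 : ∀ {x : K}, x ≠ 0 → l (x * x⁻¹) = 1 := fun h => by rw [mul_inv_cancel₀ h, hl]
  have hB : IsSp B := ⟨fun v => by simp [b0, mul_comm], fun u hu => Prod.ext
    (by_contra fun h => by simpa [b0, b1 h] using hu (0, u.1⁻¹))
    (by_contra fun h => by simpa [b0, b1 h] using hu (u.2⁻¹, 0))⟩
  obtain ⟨-, φ, -⟩ := hB.exists_std (n := m) (by rw [finrank_prod, hK, two_mul])
  refine TwoGen.of_surj ?_ (f := φ.toMonoidHom) φ.surjective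
  obtain ⟨ζ, hζ⟩ := IsCyclic.exists_monoid_generator (α := Kˣ)
  let a : Isom B := hB.isEps.toIsom ((LinearMap.mulLeft F (ζ : K)).prodMap (LinearMap.mulLeft F (ζ⁻¹ : Kˣ)))
    fun u v => by simp [b0, mul_mul_mul_comm (ζ : K) u.1, mul_mul_mul_comm (ζ : K)⁻¹ u.2]
  have a1 : ∀ (k : ℕ) v, isoAct B (a ^ k) v = (↑(ζ ^ k) * v.1, ↑(ζ ^ k)⁻¹ * v.2) := fun k v => by
    induction k with
    | zero => simp
    | succ k ih =>
      rw [pow_succ', map_mul, End.mul_apply, ih]
      change ((ζ : K) * _, ((ζ⁻¹ : Kˣ) : K) * _) = _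
      simp [pow_succ', mul_assoc, mul_left_comm]
  obtain ⟨s, k, s1, s2, s3, s4⟩ : ∃ (s : Isom B) (k : ℕ), s ^ k = 1 ∧ (k : F) ≠ 0 ∧
      Commute (hB.transv (e, 0) 1) s ∧ ∀ H : Subgroup (Isom B), s ∈ H → hB.transv (1, 0) 1 ∈ H →
        hB.transv (0, 1) 1 ∈ H := by
    have c1 : Commute (hB.transv (e, 0) 1) (hB.transv (1, 0) 1) := tr_comm hB (by simp [b0]) _ _
    have c2 : Commute (hB.transv (e, 0) 1) (hB.transv (0, 1) 1) := tr_comm hB (by simpa [b0] using e1) _ _
    by_cases h2 : (2 : F) = 0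
    · refine ⟨hB.transv (1, 0) 1 * hB.transv (0, 1) 1, 3, iso_ext fun x => ?_, by
        rw [show ((3 : ℕ) : F) = 2 + 1 by norm_num, h2]; simp, c1.mul_right c2,
        fun H h h' => (mul_mem_cancel_left h').1 h⟩
      simp only [pow_succ, pow_zero, one_mul, map_mul, End.mul_apply, tr_apply, map_add, map_smul, LinearMap.add_apply,
        LinearMap.smul_apply, b0 (0, 1), b0 (1, 0), mul_zero, mul_one, hl, map_zero, map_one, End.one_apply, smul_eq_mul]
      linear_combination (norm := module) (h2 * B x (1, 0)) • ((0, 1) : K × K) - (h2 * B x (0, 1)) • ((1, 0) : K × K)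
    · refine ⟨hB.transv (1, 0) 1 * hB.transv (0, 1) 1 * hB.transv (1, 0) 1, 4, iso_ext fun x => ?_, by
        rw [show ((4 : ℕ) : F) = 2 * 2 by norm_num]; exact mul_ne_zero h2 h2, (c1.mul_right c2).mul_right c1,
        fun H h h' => (mul_mem_cancel_left h').1 ((mul_mem_cancel_right h').1 h)⟩
      simp only [pow_succ, pow_zero, one_mul, map_mul, End.mul_apply, tr_apply, map_add, map_smul, LinearMap.add_apply,
        LinearMap.smul_apply, b0 (0, 1), b0 (1, 0), mul_zero, mul_one, hl, map_zero, map_one, End.one_apply, smul_eq_mul]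
      module
  refine ⟨a, hB.transv (e, 0) 1 * s, ?_⟩
  obtain ⟨H, hH⟩ : ∃ H, H = closure {a, hB.transv (e, 0) 1 * s} := ⟨_, rfl⟩
  have h1 : a ∈ H := hH ▸ subset_closure (by simp)
  have h2 : hB.transv (e, 0) 1 * s ∈ H := hH ▸ subset_closure (by simp)
  have h3 : ∀ {g v c}, g ∈ H → hB.transv v c ∈ H → hB.transv (isoAct B g v) c ∈ H := fun hg h =>
    (mul_mem_cancel_right hg).1 (tr_conj hB _ _ _ ▸ mul_mem hg h)
  have h4 : ∀ {v : K × K} {c : F}, c ≠ 0 → (∀ d : F, d ≠ 0 → hB.transv (d • v) c ∈ H) → ∀ d, hB.transv v d ∈ H :=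
    fun {v c} hc h d => by
      have h' : ∀ x : F, hB.transv v (x ^ 2 * c) ∈ H := fun x => by
        by_cases h0 : x = 0
        · simp [h0, tr_zero]
        · exact tr_smul hB x v c ▸ h x h0
      obtain ⟨x, y, e⟩ := H2.exists_form_eq (F := F) (t := 0) (d := 1) (or_iff_not_imp_left.2 fun h2 => by
        simpa using (show (4 : F) = 2 * 2 by norm_num) ▸ (mul_ne_zero h2 h2).symm) (d / c)
      rw [← div_mul_cancel₀ d hc, ← e, zero_mul, zero_mul, add_zero, one_mul, add_mul, tr_add]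
      exact mul_mem (h' x) (h' y)
  have h5 : ∀ {x y : K}, x ≠ 0 → y ≠ 0 → ∃ k : ℕ, (↑(ζ ^ k) : K) * x = y := fun hx hy =>
    (hζ (Units.mk0 _ (div_ne_zero hy hx))).imp fun k (h : ζ ^ k = _) => by rw [h]; exact div_mul_cancel₀ _ hx
  have h6 : ∀ x d, hB.transv (x, 0) d ∈ H := fun x => by
    by_cases h0 : x = 0
    · simp [h0, ← Prod.zero_eq_mk, tr_zero_left]
    refine h4 s2 fun d hd => ?_
    obtain ⟨j, hj⟩ := h5 e0 (smul_ne_zero hd h0)
    have := h3 (pow_mem h1 j) (show hB.transv (e, 0) k ∈ H by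
      have := pow_mem h2 k
      rwa [s3.mul_pow, s1, mul_one, show ∀ n : ℕ, hB.transv (e, 0) 1 ^ n = hB.transv (e, 0) n from fun n => by
        induction n with
        | zero => simp [tr_zero]
        | succ n ih => rw [pow_succ, ih, Nat.cast_succ, tr_add]] at this)
    rwa [a1, hj, mul_zero, ← smul_zero (A := K) d] at this
  have h7 : ∀ x d, hB.transv (0, x) d ∈ H := fun x => by
    by_cases h0 : x = 0
    · simp [h0, ← Prod.zero_eq_mk, tr_zero_left]
    refine h4 one_ne_zero fun d hd => ?_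
    obtain ⟨j, hj⟩ := h5 (smul_ne_zero hd h0) one_ne_zero
    have := h3 (pow_mem h1 j) (s4 H ((mul_mem_cancel_left (h6 _ _)).1 h2) (h6 _ _))
    rwa [a1, mul_zero, ← hj, Units.inv_mul_cancel_left, ← smul_zero (A := K) d] at this
  have h8 : ∀ {u v}, (∀ d, hB.transv u d ∈ H) → (∀ d, hB.transv v d ∈ H) → B u v ≠ 0 →
      ∀ d, hB.transv (u + v) d ∈ H := fun {u v} hu hv h d => by
    simpa [tr_apply, h] using h3 (hv (B u v)⁻¹) (hu d)
  refine hH ▸ sp_eq_top hB H fun ⟨x, y⟩ => ?_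
  by_cases h0 : y = 0
  · exact h0 ▸ h6 x
  by_cases h : l (x * y) = 0
  · simpa using h8 (h6 y⁻¹) (h8 (h6 (x - y⁻¹)) (h7 y) (by simp [b0, sub_mul, h, h0, hl])) (by simp [b0, h0, hl])
  · simpa using h8 (h6 x) (h7 y) (by simpa [b0] using h)

end Cfsg.Agent.H5
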