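import Cfsg.Agent.H5.OrthC

/-! Spinor norms of elements with a single orbit of eigenvalues; constructions in `Ω`. -/

set_option autoImplicit false

namespace Cfsg.Agent.H5

open Module Polynomial Function

universe u v w

variable {K : Type*} [Field K]

theorem single_orbit [DecidableEq K] {q : ℕ} (hq : Injective (phi q : K → K)) {N : Multiset K}
    (h1 : N.map (phi q) = N) (h2 : N.map (·⁻¹) = N) {x : K} {d : ℕ} (h : N.dedup = sorb q x d) :
    N = N.count x • sorb q x d := by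
  rw [← h]
  refine eq_nsmul_dedup fun y hy => ?_
  obtain ⟨k, -, hk⟩ := mem_sorb.1 (h ▸ Multiset.mem_dedup.2 hy)
  exact SRel.count_eq hq h1 h2 ⟨k, hk⟩

theorem exists_sqrt_eta [IsAlgClosed K] {x : K} (h0 : x ≠ 0) (Q : ℕ) : ∃ (a : K) (η : ℤ), a ≠ 0 ∧ a ^ 2 = x ∧
    (x ^ Q = x ∨ x ^ Q = x⁻¹ → (η = 1 ∨ η = -1) ∧
      ((x ^ Q = x ∧ a ^ Q = η * a) ∨ (x ^ Q = x⁻¹ ∧ a ^ Q = η * a⁻¹))) := by
  obtain ⟨a, rfl⟩ := IsAlgClosed.exists_pow_nat_eq x two_pos
  have ha : a ≠ 0 := by rintro rfl; simp at h0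
  by_cases h : a ^ Q = a ∨ a ^ Q = a⁻¹
  · exact ⟨a, 1, ha, rfl, fun _ => ⟨Or.inl rfl, h.imp (fun h => ⟨by rw [pow_right_comm, h], by simpa using h⟩)
      fun h => ⟨by rw [pow_right_comm, h, inv_pow], by simpa using h⟩⟩⟩
  · refine ⟨a, -1, ha, rfl, fun h' => ⟨Or.inr rfl, h'.imp (fun h' => ⟨h', ?_⟩) fun h' => ⟨h', ?_⟩⟩⟩
    · rw [pow_right_comm, sq_eq_sq_iff_eq_or_eq_neg] at h'
      simpa using h'.resolve_left fun h' => h (Or.inl h')
    · rw [pow_right_comm, ← inv_pow, sq_eq_sq_iff_eq_or_eq_neg] at h'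
      simpa using h'.resolve_left fun h' => h (Or.inr h')

theorem one_notMem_sorb {q : ℕ} (hq : Injective (phi q : K → K)) {x c : K} (hc : c ^ q = c) (hc' : c⁻¹ = c)
    (hx : x ≠ c) (d : ℕ) : c ∉ sorb q x d := fun h => by
  obtain ⟨k, -, hk⟩ := mem_sorb.1 h
  have h1 : x ^ q ^ k = c := hk.elim Eq.symm fun h => by rw [← hc', h, inv_inv]
  refine hx (hq.iterate k ?_)
  rw [phi_iterate, h1, iterate_fixed (f := phi q) hc]

theorem zero_notMem_sorb (q : ℕ) {x : K} (hx : x ≠ 0) (d : ℕ) : (0 : K) ∉ sorb q x d := fun h => by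
  obtain ⟨k, -, hk | hk⟩ := mem_sorb.1 h
  exacts [pow_ne_zero _ hx hk.symm, inv_ne_zero (pow_ne_zero _ hx) hk.symm]

variable {F : Type w} [Field F]
variable {V : Type u} [AddCommGroup V] [Module F V] [FiniteDimensional F V]

theorem th_sorb [Fintype F] [DecidableEq F] [Algebra F K] [IsAlgClosed K] {B : Bil F V} (hB : IsEps B 1)
    (h2 : (2 : F) ≠ 0) (h3 : 3 ≤ finrank F V) (g : Isom B) {a : K} {d D : ℕ}
    (hN : evE K (g.1 : End F V) = sorb (Fintype.card F) (a ^ 2) d + Multiset.replicate D 1) (h0 : a ≠ 0)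
    (h1 : a ^ 2 ≠ -1) {η : ℤ} (hη : η = 1 ∨ η = -1)
    (h : a ^ Fintype.card F ^ d = η * a ∨ a ^ Fintype.card F ^ d = η * a⁻¹) : th g = η := by
  obtain ⟨δ, a1, a2⟩ := sorb_delta (F := F) h0 h1 (by rcases hη with rfl | rfl <;> simp) h
  exact th_of_evE K hB h2 h3 g hN (card_sorb _ _ _) (one_notMem_sorb (phi_injective F)
    ((map_neg (frobK F K) 1).trans (by simp)) (by simp [inv_neg]) h1 d) a1 hη a2

theorem even_of_mem_comm [DecidableEq K] [Algebra F K] [IsAlgClosed K] (h2 : (2 : F) ≠ 0) {B : Bil F V}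
    {g : Isom B} (hg : g ∈ commutator (Isom B)) {N : Multiset K} {D E : ℕ}
    (h : evE K (g.1 : End F V) = N + Multiset.replicate D 1 + Multiset.replicate E (-1)) (hN : N.prod = 1) :
    Even E := by
  have h1 := prod_evE K (g.1 : End F V)
  rw [det_of_mem_comm hg, h] at h1
  have h5 : (2 : K) ≠ 0 := by rwa [← map_ofNat (algebraMap F K), _root_.map_ne_zero]
  exact (neg_one_pow_eq_one_iff_even fun h => h5 (by linear_combination -h)).1 (by simpa [hN] using h1)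

theorem rk_of_inj {B : Bil F V} (g : Isom B) (hi : ∀ v, g.1 v = v → v = 0) : rk g = finrank F V := by
  rw [rk, LinearMap.range_eq_top.2 (LinearMap.injective_iff_surjective.1
    ((injective_iff_map_eq_zero (1 - (g.1 : End F V))).2 fun v hv => hi v (sub_eq_zero.1 hv).symm)), finrank_top]

omit [FiniteDimensional F V] in
theorem negI_inj (h2 : (2 : F) ≠ 0) (B : Bil F V) (v : V) (hv : (negI B).1 v = v) : v = 0 :=
  (smul_eq_zero.1 (show (2 : F) • v = 0 by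
    rw [two_smul]; exact neg_eq_iff_add_eq_zero.1 hv)).resolve_left h2

theorem exists_invol [Fintype F] {B : Bil F V} (hB : IsEps B 1) (h2 : (2 : F) ≠ 0) (h3 : 3 ≤ finrank F V) :
    ∃ (W : Submodule F V) (hW : Disjoint W (perp B W)), finrank F W = 2 ∧
      glueHom hB hW (negI _, 1) ∈ commutator (Isom B) := by
  classical
  obtain ⟨W, e, h4, h5⟩ := exists_embed (isEps_diagF one_ne_zero 2 false) hB h2 (by simp; omega)
  have h6 : finrank F W = 2 := by simpa using e.finrank_eq.symm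
  refine ⟨W, h4, h6, (mem_comm_iff hB h2 h3 _).2 ⟨?_, ?_⟩⟩
  · rw [rk_glue, rk_of_inj _ (negI_inj h2 _), h6]
    exact even_two
  · rw [th_glue, th_negI (hB.restrict h4) h2, discr_congr e h5, discr_diagF _ _ fun _ => rfl]; rfl

theorem two_dvd_of_negI_pow {σ : F →+* F} {B : Sesq σ V} (h2 : (2 : F) ≠ 0) (h : 0 < finrank F V) {i : ℕ}
    (hi : negI B ^ i = 1) : 2 ∣ i := by
  have := finrank_pos_iff.1 h
  exact orderOf_negI h2 B ▸ orderOf_dvd_of_pow_eq_one hi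

theorem exists_orderOf_eq_of_mem {G : Type*} [Group G] [Finite G] {H : Subgroup G} {g : G} (hg : g ∈ H) {k : ℕ}
    (hk : ∀ i, g ^ i = 1 → k ∣ i) : ∃ h ∈ H, orderOf h = k := by
  obtain ⟨h, hh⟩ := exists_orderOf_eq_of_dvd (⟨g, hg⟩ : H) (Subgroup.orderOf_mk _ hg ▸ hk _ (pow_orderOf_eq_one g))
  exact ⟨h, h.2, (Subgroup.orderOf_coe h).trans hh⟩

theorem exists_cyc_unip [Fintype F] [DecidableEq K] [Algebra F K] [IsAlgClosed K] (p : ℕ) [Fact p.Prime]
    [CharP F p] (h2 : (2 : F) ≠ 0) {B : Bil F V} (hB : IsEps B 1) {N : Multiset K}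
    (h1 : N.map (phi (Fintype.card F)) = N) (h3 : N.map (·⁻¹) = N) (h0 : 0 ∉ N) (h4 : 1 ∉ N) (h5 : -1 ∉ N)
    {e : ℕ} (hd : N.card + (2 * e + 1) = finrank F V) : ∃ g : Isom B, ∀ i, g ^ i = 1 →
      (∀ x ∈ N, x ^ i = 1) ∧ (∀ x a, p ^ a < N.count x → p ^ (a + 1) ∣ i) ∧
        ∀ a, p ^ a ≤ 2 * e → p ^ (a + 1) ∣ i := by
  obtain ⟨W, y, w1, w2, w3, w4⟩ := exists_orth_cyc K p h2 hB h1 h3 h0 h4 h5 (by omega)
  obtain ⟨u, u1, v, u2⟩ := exists_reg_unip h2 (hB.restrict_perp w1) (e := e)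
    (by have := hB.finrank_perp W; omega)
  refine ⟨glueHom hB w1 (y, u), fun i hi => ?_⟩
  obtain ⟨a1, a2⟩ := (glueHom_pow_eq_one hB w1).1 hi
  exact ⟨fun x hx => pow_eq_one_of_mem_evE K (isom_pow_eq_one.1 a1) (w3 ▸ hx), w4 i a1, fun a ha =>
    pow_succ_dvd_of_unip p u1 u2 (by rw [isom_pow_eq_one.1 a2]; rfl) ha⟩

end Cfsg.Agent.H5
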