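import Cfsg.Agent.H5.OrthD

/-! Affine maps, extension of isometries and constructions in `V ⋊ Ω(V)`. -/

set_option autoImplicit false

namespace Cfsg.Agent.H5

open Module Polynomial Function

universe u v w

variable {F : Type w} [Field F]
variable {V : Type u} [AddCommGroup V] [Module F V]
variable {V' : Type v} [AddCommGroup V'] [Module F V']

/-- The affine map `x ↦ f x + v` as an endomorphism of `V × F`. -/
def aff (f : End F V) (v : V) : End F (V × F) :=
  (f.coprod (LinearMap.toSpanSingleton F V v)).prod (LinearMap.snd F V F)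

theorem aff_apply (f : End F V) (v x : V) (c : F) : aff f v (x, c) = (f x + c • v, c) := rfl

theorem aff_mul (f g : End F V) (v w : V) : aff (f * g) (v + f w) = aff f v * aff g w :=
  LinearMap.ext fun x => Prod.ext (by simp [aff]; abel) rfl

theorem aff_pow (f : End F V) (v : V) (i : ℕ) :
    aff f v ^ i = aff (f ^ i) (∑ j ∈ Finset.range i, (f ^ j) v) := by
  induction i with
  | zero => exact LinearMap.ext fun x => Prod.ext (by simp [aff]) rfl
  | succ i ih => rw [pow_succ, ih, ← aff_mul, ← pow_succ, Finset.sum_range_succ]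

theorem aff_eq_one {f : End F V} {v : V} : aff f v = 1 ↔ f = 1 ∧ v = 0 :=
  ⟨fun h => ⟨LinearMap.ext fun x => by simpa [aff] using congrArg (fun g => (g (x, 0)).1) h,
    by simpa [aff] using congrArg (fun g => (g (0, 1)).1) h⟩,
  by rintro ⟨rfl, rfl⟩; exact LinearMap.ext fun x => Prod.ext (by simp [aff]) rfl⟩

theorem aff_pow_eq_one {f : End F V} {v : V} {i : ℕ} :
    aff f v ^ i = 1 ↔ f ^ i = 1 ∧ ∑ j ∈ Finset.range i, (f ^ j) v = 0 := by rw [aff_pow, aff_eq_one]

theorem aff_sub_pow (f : End F V) (v x : V) (c : F) (k : ℕ) :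
    ((aff f v - 1) ^ (k + 1)) (x, c) = (((f - 1) ^ k) ((f - 1) x + c • v), 0) := by
  induction k with
  | zero => exact Prod.ext (by simp [aff]; abel) (by simp [aff])
  | succ k ih => rw [pow_succ', End.mul_apply, ih, pow_succ' (f - 1)]; exact Prod.ext (by simp [aff]) (by simp [aff])

theorem aff_nil {f : End F V} {k : ℕ} (h : (f - 1) ^ k = 0) (v : V) : (aff f v - 1) ^ (k + 1) = 0 :=
  LinearMap.ext fun x => (aff_sub_pow f v x.1 x.2 k).trans (by simp [h])

theorem pow_semiconj {f : End F V} {g : End F V'} {φ : V →ₗ[F] V'} (h : ∀ x, g (φ x) = φ (f x)) (i : ℕ) (x : V) :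
    (g ^ i) (φ x) = φ ((f ^ i) x) := by
  induction i with
  | zero => rfl
  | succ i ih => rw [pow_succ', pow_succ', End.mul_apply, ih, h, End.mul_apply]

theorem aff_pow_of_semiconj {f : End F V} {g : End F V'} {φ : V →ₗ[F] V'} (hφ : Injective φ)
    (h : ∀ x, g (φ x) = φ (f x)) {v : V} {i : ℕ} (hi : aff g (φ v) ^ i = 1) : aff f v ^ i = 1 := by
  rw [aff_pow_eq_one] at hi ⊢
  exact ⟨LinearMap.ext fun x => hφ (by rw [← pow_semiconj h, hi.1]; rfl),
    hφ (by simpa [pow_semiconj h] using hi.2)⟩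

theorem exists_pow_dvd {p D i : ℕ} (hp : 1 < p) (h : ∀ a, p ^ a < D → p ^ (a + 1) ∣ i) :
    ∃ c, D ≤ p ^ c ∧ p ^ c ∣ i := by
  refine ⟨Nat.clog p D, Nat.le_pow_clog hp D, ?_⟩
  rcases h0 : Nat.clog p D with _ | a
  · simp
  · exact h a ((Nat.lt_clog_iff_pow_lt hp).1 (by omega))

variable [FiniteDimensional F V] [FiniteDimensional F V']

section ext
variable [Fintype F] [DecidableEq F] {B : Bil F V} {B' : Bil F V'} {g : Isom B} {g' : Isom B'} (φ : V →ₗ[F] V')
  (hφ : Injective φ) (h1 : ∀ x, g'.1 (φ x) = φ (g.1 x)) (h2 : ∀ v, ∃ x y, g'.1 y = y ∧ v = φ x + y)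
include h1 h2

omit [Fintype F] [DecidableEq F] [FiniteDimensional F V] [FiniteDimensional F V'] in
theorem range_ext : LinearMap.range (1 - (g'.1 : End F V')) = (LinearMap.range (1 - (g.1 : End F V))).map φ := by
  refine le_antisymm ?_ ?_
  · rintro _ ⟨v, rfl⟩
    obtain ⟨x, y, hy, rfl⟩ := h2 v
    exact ⟨_, ⟨x, rfl⟩, by simp [h1, hy]⟩
  · rintro _ ⟨_, ⟨x, rfl⟩, rfl⟩
    exact ⟨φ x, by simp [h1]⟩

include hφ

omit [Fintype F] [DecidableEq F] [FiniteDimensional F V] [FiniteDimensional F V'] in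
theorem rk_ext : rk g' = rk g := by
  rw [rk, range_ext φ h1 h2, ← (Submodule.equivMapOfInjective _ hφ _).finrank_eq, rk]

theorem th_ext (h : ∀ x y, B' (φ x) (φ y) = B x y) : th g' = th g := by
  obtain ⟨s, hs⟩ := H6.exists_section (toOG _ g)
  let b := finBasis F (H6.mvS (toOG _ g))
  have e : (H6.mvS (toOG _ g)).map φ = H6.mvS (toOG B' g') := (range_ext φ h1 h2).symm
  rw [th, th, H6.theta_eq _ b (fun i => s (b i)) fun i => hs _, H6.theta_eq _ (b.map
    ((Submodule.equivMapOfInjective _ hφ _).trans (LinearEquiv.ofEq _ _ e)))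
    (fun i => φ (s (b i))) fun i => (congrArg _ (h1 _)).trans ((map_sub φ _ _).symm.trans (congrArg φ (hs (b i))))]
  congr 3
  ext i j
  change H6.pb (qf B') (φ _) (φ (b j)) = _
  simp only [H6.pb_def, ← map_add, LinearMap.BilinMap.toQuadraticMap_apply, h]

end ext

section
variable [Fintype F] [DecidableEq F] {B : Bil F V} (hB : IsEps B 1) {W : Submodule F V}
  (hW : Disjoint W (perp B W))

omit [Fintype F] [DecidableEq F] in
theorem glue_fix_right (g : Isom (res B (perp B W))) (v : V) :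
    ∃ x y, (glueHom hB hW (1, g)).1 y = y ∧ v = (perp B W).subtype x + y := by
  obtain ⟨x, y, rfl⟩ := exists_add_of_isCompl (hB.isCompl_perp hW) v
  exact ⟨y, x, glueHom_left hB hW _ _, add_comm _ _⟩

omit [Fintype F] [DecidableEq F] in
theorem rk_glue_right (g : Isom (res B (perp B W))) : rk (glueHom hB hW (1, g)) = rk g :=
  rk_ext _ (perp B W).injective_subtype (glueHom_right hB hW _) (glue_fix_right hB hW g)

theorem th_glue_right (g : Isom (res B (perp B W))) : th (glueHom hB hW (1, g)) = th g :=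
  th_ext _ (perp B W).injective_subtype (glueHom_right hB hW _) (glue_fix_right hB hW g) fun _ _ => rfl

omit [Fintype F] [DecidableEq F] in
theorem rk_congr {B' : Bil F V'} (e : V ≃ₗ[F] V') (he : ∀ u v, B' (e u) (e v) = B u v) (g : Isom B) :
    rk (Isom.congr e he g) = rk g :=
  rk_ext e.toLinearMap e.injective (fun x => by simp) fun v => ⟨e.symm v, 0, map_zero _, by simp⟩

theorem th_congr {B' : Bil F V'} (e : V ≃ₗ[F] V') (he : ∀ u v, B' (e u) (e v) = B u v) (g : Isom B) :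
    th (Isom.congr e he g) = th g :=
  th_ext e.toLinearMap e.injective (fun x => by simp) (fun v => ⟨e.symm v, 0, map_zero _, by simp⟩) he

theorem glue_th_rk (h2 : (2 : F) ≠ 0) (h3 : 3 ≤ finrank F V) (a : Isom (res B W)) (b : Isom (res B (perp B W))) :
    th (glueHom hB hW (a, b)) = th a * th b ∧
      (Even (rk (glueHom hB hW (a, b))) ↔ (Even (rk a) ↔ Even (rk b))) := by
  rw [show (a, b) = (a, 1) * (1, b) by simp, map_mul, th_mul hB h2 h3, even_rk_mul hB h2 h3, th_glue,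
    th_glue_right, rk_glue, rk_glue_right]
  exact ⟨rfl, Iff.rfl⟩

omit [Fintype F] [DecidableEq F] in
theorem aff_glue {a : Isom (res B W)} {b : Isom (res B (perp B W))} {w : perp B W} {i : ℕ}
    (h : aff ((glueHom hB hW (a, b)).1 : End F V) w ^ i = 1) :
    a ^ i = 1 ∧ aff (b.1 : End F (perp B W)) w ^ i = 1 :=
  ⟨((glueHom_pow_eq_one hB hW).1 (isom_pow_eq_one.2 (aff_pow_eq_one.1 h).1)).1,
    aff_pow_of_semiconj (perp B W).injective_subtype (glueHom_right hB hW _) h⟩

end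

variable [Fintype F] [DecidableEq F] (p : ℕ) [Fact p.Prime] [CharP F p] (h2 : (2 : F) ≠ 0) {B : Bil F V}
  (hB : IsEps B 1)
include p h2

omit [DecidableEq F] in
theorem odd_char : Odd p := (Fact.out : p.Prime).odd_of_ne_two (by
  rintro rfl; exact h2 (CharP.cast_eq_zero F 2))

include hB

theorem unip_th_rk {W : Submodule F V} (hW : Disjoint W (perp B W)) (h3 : 3 ≤ finrank F V)
    {u : Isom (res B (perp B W))} {c : ℕ} (h : u ^ p ^ c = 1) : Even (rk u) ∧ th u = 1 := by
  rw [← rk_glue_right hB hW, ← th_glue_right hB hW, ← mem_comm_iff hB h2 h3]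
  exact mem_comm_of_odd hB h2 h3 (odd_char p h2).pow ((glueHom_pow_eq_one hB hW).2 ⟨one_pow _, h⟩)

theorem exists_aff {e : ℕ} (he : 2 * e ≤ finrank F V) : ∃ (u : Isom B) (w : V) (c : ℕ), u ^ p ^ c = 1 ∧
    ∀ i, aff (u.1 : End F V) w ^ i = 1 → ∀ a, p ^ a < 2 * e → p ^ (a + 1) ∣ i := by
  rcases e with _ | e
  · exact ⟨1, 0, 0, one_pow _, fun _ _ _ h => by simp at h⟩
  obtain ⟨W, f, w1, w2⟩ := exists_embed (isEps_diagF one_ne_zero (finrank F V - (2 * e + 1)) false) hB h2
    (by simp; omega)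
  have w3 := hB.finrank_perp W
  rw [← f.finrank_eq, finrank_fin_fun] at w3
  obtain ⟨u, u1, v, u2⟩ := exists_reg_unip h2 (hB.restrict_perp w1) (e := e) (by omega)
  refine ⟨glueHom hB w1 (1, u), v, finrank F V, (glueHom_pow_eq_one hB w1).2 ⟨one_pow _, isom_pow_eq_one.2
    (pow_eq_one_of_nil p (nil_pow_finrank u1) ((Submodule.finrank_le _).trans
      (Nat.lt_pow_self (Fact.out : p.Prime).one_lt).le))⟩, fun i hi a ha => ?_⟩
  exact pow_succ_dvd_of_unip p ⟨_, aff_nil (nil_pow_finrank u1) v⟩ (w := (0, 1)) (k := 2 * e + 1)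
    (by simpa [aff_sub_pow] using u2) (by rw [(aff_glue hB w1 hi).2]; rfl) (by omega)

theorem exists_aff_two {e : ℕ} (he : 2 * e + 2 ≤ finrank F V) (h3 : 3 ≤ finrank F V) {η : ℤ}
    (hη : η = 1 ∨ η = -1) : ∃ (s : Isom B) (w : V), Even (rk s) ∧ th s = η ∧
      ∀ i, aff (s.1 : End F V) w ^ i = 1 → 2 ∣ i ∧ ∀ a, p ^ a < 2 * e → p ^ (a + 1) ∣ i := by
  obtain ⟨ν, h0, h1, -⟩ := exists_nonsq' h2
  obtain ⟨W, f, w1, w2⟩ := exists_embed (isEps_diagF h0 2 (η = -1)) hB h2 (by simp; omega)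
  have w3 := hB.finrank_perp W
  have w4 : finrank F W = 2 := by simpa using f.finrank_eq.symm
  obtain ⟨u, w, c, u1, u2⟩ := exists_aff p h2 (hB.restrict_perp w1) (e := e) (by omega)
  obtain ⟨a1, a2⟩ := glue_th_rk hB w1 h2 h3 (negI _) u
  obtain ⟨a3, a4⟩ := unip_th_rk p h2 hB w1 h3 u1
  refine ⟨glueHom hB w1 (negI _, u), w, a2.2 (iff_of_true (by rw [rk_of_inj _ (negI_inj h2 _), w4]; decide) a3),
    ?_, fun i hi => ⟨two_dvd_of_negI_pow h2 (by omega) (aff_glue hB w1 hi).1, u2 i (aff_glue hB w1 hi).2⟩⟩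
  rw [a1, a4, th_negI (hB.restrict w1) h2, discr_congr f w2, discr_diagF _ _ (by simp), h1]
  rcases hη with rfl | rfl <;> simp

omit p in
theorem exists_th_perp {W : Submodule F V} (hW : Disjoint W (perp B W)) (h3 : 3 ≤ finrank F V)
    (hd : 2 ≤ finrank F (perp B W)) {η : ℤ} (hη : η = 1 ∨ η = -1) :
    ∃ s : Isom (res B (perp B W)), Even (rk s) ∧ th s = η := by
  obtain ⟨ν, h0, h1, -⟩ := exists_nonsq' h2
  have hU := hB.restrict_perp hW
  obtain ⟨a, ha⟩ := exists_value hU h2 hd 1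
  obtain ⟨b, hb⟩ := exists_value hU h2 hd (if η = 1 then 1 else ν)
  have e : ∀ x : perp B W, glueHom hB hW (1, hU.rf h2 x) = hB.rf h2 x := fun x => Subtype.ext
    (LinearEquiv.ext fun v => by
      obtain ⟨y, z, rfl⟩ := exists_add_of_isCompl (hB.isCompl_perp hW) v
      rw [map_add, map_add, glueHom_left, glueHom_right, hB.rf_apply, hB.rf_apply, hU.rf_apply,
        hB.comm y x, x.2 y y.2]
      simp [res_apply])
  have h4 := rf_mul_rf hB h2 h3 (a := a) (b := b) (ha.trans_ne one_ne_zero) (hb.trans_ne (by split_ifs <;> simp [h0]))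
  rw [← e, ← e, ← map_mul, Prod.mk_mul_mk, mul_one, rk_glue_right, th_glue_right, show B a a = 1 from ha,
    show B b b = _ from hb] at h4
  refine ⟨_, h4.1, h4.2.trans ?_⟩
  rcases hη with rfl | rfl <;> simp [h1]

end Cfsg.Agent.H5
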