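import Cfsg.Agent.H3.Basic
import Cfsg.Agent.H6.Bruhat
import Cfsg.Prelude.Def_HallClasses

/-! Pronormality of subgroups of odd index: general criteria and triangular matrices. -/

set_option autoImplicit false

namespace Cfsg.Agent.H5

open Subgroup Function

section group
variable {G G' : Type*} [Group G] [Group G']

/-- All subgroups of odd index are pronormal. -/
def OddPron (G : Type*) [Group G] : Prop := ∀ H : Subgroup G, Odd H.index → IsPronormal H

theorem map_conj_map (f : G →* G') (H : Subgroup G) (g : G) :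
    (H.map (MulAut.conj g).toMonoidHom).map f = (H.map f).map (MulAut.conj (f g)).toMonoidHom := by
  rw [map_map, map_map]
  congr 1
  ext x
  simp

theorem pronormal_map {f : G →* G'} (hf : Surjective f) {H : Subgroup G} (h : IsPronormal H) :
    IsPronormal (H.map f) := fun g => by
  obtain ⟨g, rfl⟩ := hf g
  obtain ⟨x, h1, h2⟩ := h g
  refine ⟨f x, ?_, by rw [← map_conj_map, h2, map_conj_map]⟩
  rw [← map_conj_map, ← Subgroup.map_sup]
  exact mem_map_of_mem f h1

theorem OddPron.of_surj {f : G →* G'} (hf : Surjective f) (h : OddPron G) : OddPron G' := fun H hH => by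
  rw [← map_comap_eq_self_of_surjective hf H]
  exact pronormal_map hf (h _ (by rwa [index_comap_of_surjective _ hf]))

theorem pronormal_of_sylow [Finite G] {p : ℕ} [Fact p.Prime] (S : Sylow p G) {H : Subgroup G}
    (hS : (S : Subgroup G) ≤ H) (hN : ∀ g ∈ normalizer ((S : Subgroup G) : Set G), ∃ x ∈ H ⊔
      H.map (MulAut.conj g).toMonoidHom, H.map (MulAut.conj g).toMonoidHom = H.map (MulAut.conj x).toMonoidHom) :
    IsPronormal H := fun g => by
  obtain ⟨x, hx, e⟩ := H3.sylow_conj_in S (g • S) (H ⊔ H.map (MulAut.conj g).toMonoidHom)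
    (hS.trans le_sup_left) ((map_mono hS).trans le_sup_right)
  obtain ⟨y, hy, e'⟩ := hN (x⁻¹ * g) (by
    rw [Sylow.coe_coe, ← Sylow.smul_eq_iff_mem_normalizer, mul_smul, ← e, inv_smul_smul])
  have h1 : ∀ a b : G, H.map (MulAut.conj (a * b)).toMonoidHom =
      (H.map (MulAut.conj b).toMonoidHom).map (MulAut.conj a).toMonoidHom := fun a b => by
    rw [map_map, map_mul]; rfl
  refine ⟨x * y, mul_mem hx (SetLike.le_def.1 (sup_le le_sup_left ?_) hy), by rw [h1, ← e', ← h1, mul_inv_cancel_left]⟩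
  rw [h1]
  rintro _ ⟨z, hz, rfl⟩
  exact mul_mem (mul_mem (inv_mem hx) (mem_sup_right hz)) (inv_mem (inv_mem hx))

theorem oddPron_of_sylow [Finite G] (S : Sylow 2 G) (h : ∀ H, (S : Subgroup G) ≤ H → IsPronormal H) :
    OddPron G := fun H hH => by
  obtain ⟨T⟩ : Nonempty (Sylow 2 H) := inferInstance
  obtain ⟨g, hg⟩ := MulAction.exists_smul_eq G (Sylow.ofCard ((T : Subgroup H).map H.subtype) (by
    rw [card_map_of_injective H.subtype_injective, T.card_eq_multiplicity, ← H.index_mul_card,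
      Nat.factorization_mul H.index_ne_zero_of_finite Nat.card_pos.ne', Finsupp.add_apply,
      Nat.factorization_eq_zero_of_not_dvd hH.not_two_dvd_nat, zero_add]) : Sylow 2 G) S
  have := pronormal_map (f := (MulAut.conj g⁻¹).toMonoidHom) (MulAut.conj g⁻¹).surjective
    (h (H.map (MulAut.conj g).toMonoidHom) (hg ▸ map_mono (map_subtype_le _)))
  rwa [map_map, show (MulAut.conj g⁻¹).toMonoidHom.comp (MulAut.conj g).toMonoidHom = MonoidHom.id G from
    MonoidHom.ext fun x => by simp [mul_assoc], map_id] at this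

theorem oddPron_of_normalizer [Finite G] (S : Sylow 2 G)
    (h : ∀ H, (S : Subgroup G) ≤ H → ∀ g ∈ normalizer ((S : Subgroup G) : Set G), ∀ y ∈ H, g * y * g⁻¹ ∈ H) :
    OddPron G := oddPron_of_sylow S fun H hH => pronormal_of_sylow S hH fun g hg =>
  ⟨1, one_mem _, (eq_of_le_of_card_ge (by rintro _ ⟨y, hy, rfl⟩; exact h H hH g hg y hy)
    (card_map_of_injective (MulAut.conj g).injective).ge).trans (by simp; exact (map_id _).symm)⟩

theorem oddPron_of_borel [Finite G] (S : Sylow 2 G)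
    (h1 : ∀ a ∈ normalizer ((S : Subgroup G) : Set G), ∀ b ∈ normalizer ((S : Subgroup G) : Set G),
      a * b * a⁻¹ * b⁻¹ ∈ S)
    (h2 : ∀ h, ∀ b ∈ normalizer ((S : Subgroup G) : Set G), ∃ t,
      h⁻¹ * t * h ∈ normalizer ((S : Subgroup G) : Set G) ∧ b * t⁻¹ ∈ S) : OddPron G :=
  oddPron_of_normalizer S fun H hH b hb y hy => by
    let L := H ⊓ H.comap (MulAut.conj b).toMonoidHom
    have h3 : ∀ h ∈ H, ((h • S : Sylow 2 G) : Subgroup G) ≤ L := by
      rintro h hh _ ⟨s, hs, rfl⟩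
      obtain ⟨t, t1, t2⟩ := h2 h b hb
      refine ⟨H.mul_mem (mul_mem hh (hH hs)) (inv_mem hh), ?_⟩
      change b * (h * s * h⁻¹) * b⁻¹ ∈ H
      rw [show b * (h * s * h⁻¹) * b⁻¹ = b * t⁻¹ * (h * (h⁻¹ * t * h * s * (h⁻¹ * t * h)⁻¹) * h⁻¹) * (b * t⁻¹)⁻¹ by
        group]
      exact mul_mem (mul_mem (hH t2) (mul_mem (mul_mem hh (hH ((mem_normalizer_iff.1 t1 s).1 hs))) (inv_mem hh)))
        (inv_mem (hH t2))
    obtain ⟨l, hl, e⟩ := H3.sylow_conj_in S (y • S) L (by simpa using h3 1 (one_mem H)) (h3 y hy)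
    have h4 := h1 b hb (l⁻¹ * y) (by
      rw [Sylow.coe_coe, ← Sylow.smul_eq_iff_mem_normalizer, mul_smul, ← e, inv_smul_smul])
    rw [show b * y * b⁻¹ = b * l * b⁻¹ * (b * (l⁻¹ * y) * b⁻¹ * (l⁻¹ * y)⁻¹) * (l⁻¹ * y) by group]
    exact mul_mem (mul_mem hl.2 (hH h4)) (mul_mem (inv_mem hl.1) hy)

theorem exists_sylow_eq [Finite G] {p : ℕ} [Fact p.Prime] {U : Subgroup G} (hU : IsPGroup p U)
    (h : ∀ y ∈ normalizer (U : Set G), ∀ k, y ^ p ^ k = 1 → y ∈ U) : ∃ S : Sylow p G, (S : Subgroup G) = U := by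
  obtain ⟨S, hS⟩ := hU.exists_le_sylow
  refine ⟨S, le_antisymm (subgroupOf_eq_top.1 ?_) hS⟩
  have := S.2.isNilpotent
  refine normalizerCondition_iff_only_full_group_self_normalizing.1 Group.normalizerCondition_of_isNilpotent _
    (le_antisymm (fun y hy => ?_) le_normalizer)
  obtain ⟨k, hk⟩ := S.2 y
  rw [← subgroupOf_normalizer_eq hS] at hy
  exact h y hy k (congrArg Subtype.val hk)

theorem mem_sylow_of_normalizer [Finite G] (S : Sylow 2 G)
    (h : ∀ y ∈ normalizer ((S : Subgroup G) : Set G), ∀ n, Odd n → y ^ n = 1 → y ∈ S) {y : G}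
    (hy : y ∈ normalizer ((S : Subgroup G) : Set G)) : y ∈ S := by
  obtain ⟨k, m, hm, e⟩ := Nat.exists_eq_two_pow_mul_odd (orderOf_pos y).ne'
  have h1 := h _ (pow_mem hy (2 ^ k)) m hm (by rw [← pow_mul, ← e, pow_orderOf_eq_one])
  have h2 : y ^ m ∈ S := ((IsPGroup.of_card (p := 2) (G := zpowers (y ^ m)) (n := k) (by
    rw [Nat.card_zpowers, orderOf_pow' _ hm.pos.ne', e, Nat.gcd_mul_left_left,
      Nat.mul_div_cancel _ hm.pos])).inf_normalizer_sylow S).le ⟨mem_zpowers _, pow_mem hy m⟩ |>.2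
  rw [← zpow_one y, ← Nat.cast_one, ← (Nat.coprime_two_left.2 hm).pow_left k, Nat.gcd_eq_gcd_ab, zpow_add,
    zpow_mul, zpow_mul, zpow_natCast, zpow_natCast]
  exact mul_mem (zpow_mem h1 _) (zpow_mem h2 _)

theorem exists_sylow_two [Finite G] {P : Subgroup G} {τ : G} (h1 : τ * τ = 1)
    (h2 : ∀ a ∈ P, τ * a * τ ∈ P) (h3 : Nat.card P * 2 = 2 ^ (Nat.card G).factorization 2) (h4 : τ ∉ P) :
    ∃ S : Sylow 2 G, τ ∈ S ∧ P ≤ S ∧ ∀ s ∈ S, s ∈ P ∨ s * τ ∈ P := by
  have h5 := inv_eq_of_mul_eq_one_right h1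
  obtain ⟨k, -, hk⟩ := (Nat.dvd_prime_pow Nat.prime_two).1 (Dvd.intro _ h3)
  obtain ⟨S, hS⟩ := (IsPGroup.to_sup_of_normal_left' (IsPGroup.of_card hk) (K := zpowers τ)
    (IsPGroup.of_card (n := 1) (by
      rw [Nat.card_zpowers, orderOf_eq_prime ((sq τ).trans h1) (by rintro rfl; exact h4 (one_mem _)), pow_one]))
    (zpowers_le.2 (mem_normalizer_iff.2 fun a => ⟨fun h => by rw [h5]; exact h2 a h, fun h => by
      simpa [h5, mul_assoc, h1, ← mul_assoc τ τ] using h2 _ h⟩))).exists_le_sylow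
  have h6 : τ ∈ S := hS (mem_sup_right (mem_zpowers τ))
  have h7 : (P.subgroupOf S).index = 2 := Nat.eq_of_mul_eq_mul_left (Nat.card_pos (α := P)) (by
    rw [h3, ← S.card_eq_multiplicity, ← (P.subgroupOf S).card_mul_index,
      Nat.card_congr (subgroupOfEquivOfLe (le_sup_left.trans hS)).toEquiv])
  refine ⟨S, h6, le_sup_left.trans hS, fun s hs => or_iff_not_imp_left.2 fun h => ?_⟩
  exact (mul_mem_iff_of_index_two h7 (a := ⟨s, hs⟩) (b := ⟨τ, h6⟩)).2 (iff_of_false h h4)

end group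

section tri
open Matrix
variable {F : Type*} [Field F] {n : ℕ}

/-- The matrix vanishes below the `k`-th superdiagonal. -/
def Lv (k : ℕ) (m : Matrix (Fin n) (Fin n) F) : Prop := ∀ i j : Fin n, j.1 < i.1 + k → m i j = 0

variable {k l : ℕ} {a b : Matrix (Fin n) (Fin n) F}

theorem lv_zero_iff : Lv 0 a ↔ a.BlockTriangular id := ⟨fun h _ _ h' => h _ _ h', fun h _ _ h' => h h'⟩

theorem Lv.mono (h : Lv k a) (hl : l ≤ k) : Lv l a := fun i j h' => h i j (by omega)

theorem Lv.add (h : Lv k a) (h' : Lv k b) : Lv k (a + b) := fun i j e => by simp [h i j e, h' i j e]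

theorem Lv.smul (h : Lv k a) (c : F) : Lv k (c • a) := fun i j e => by simp [h i j e]

theorem lv_one : Lv 0 (1 : Matrix (Fin n) (Fin n) F) := lv_zero_iff.2 blockTriangular_one

theorem Lv.mul (h : Lv k a) (h' : Lv l b) : Lv (k + l) (a * b) := fun i j e =>
  Matrix.mul_apply.trans <| Finset.sum_eq_zero fun r _ => by
    by_cases h1 : r.1 < i.1 + k
    · rw [h i r h1, zero_mul]
    · rw [h' r j (by omega), mul_zero]

theorem Lv.mul_apply (h : Lv k a) (h' : Lv l b) {i r j : Fin n} (h1 : r.1 = i.1 + k) (h2 : j.1 = r.1 + l) :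
    (a * b) i j = a i r * b r j :=
  Matrix.mul_apply.trans <| Finset.sum_eq_single r (fun s _ hs => by
    have : s.1 ≠ r.1 := fun e => hs (Fin.ext e)
    by_cases h1 : s.1 < i.1 + k
    · rw [h i s h1, zero_mul]
    · rw [h' s j (by omega), mul_zero]) (by simp)

theorem Lv.pow (h : Lv 1 a) (k : ℕ) : Lv k (a ^ k) := by
  induction k with
  | zero => exact lv_one
  | succ k ih => exact ih.mul h

theorem Lv.eq_zero (h : Lv n a) : a = 0 := ext fun i j => h i j (by omega)

theorem lv_sub_one : Lv 1 (a - 1) ↔ Lv 0 a ∧ ∀ i, a i i = 1 :=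
  ⟨fun h => ⟨by simpa using (h.mono zero_le_one).add lv_one, fun i => sub_eq_zero.1 (by simpa using h i i (by omega))⟩,
    fun h i j e => by
      rcases eq_or_ne i j with rfl | h1
      · simp [h.2]
      · have : i.1 ≠ j.1 := fun e => h1 (Fin.ext e)
        simp [h.1 i j (by omega), one_apply_ne h1]⟩

theorem Lv.diag_pow (h : Lv 0 a) (k : ℕ) (i : Fin n) : Lv 0 (a ^ k) ∧ (a ^ k) i i = a i i ^ k := by
  induction k with
  | zero => exact ⟨lv_one, by simp⟩
  | succ k ih => exact ⟨ih.1.mul h, by rw [pow_succ, ih.1.mul_apply h rfl rfl, ih.2, pow_succ]⟩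

theorem Lv.det (h : Lv 0 a) : a.det = ∏ i, a i i := det_of_isUpperTriangular (lv_zero_iff.1 h)

theorem lv_of_reg {g : Matrix (Fin n) (Fin n) F} (ha : Lv 1 a) (hb : Lv 1 b)
    (hr : ∀ i j : Fin n, j.1 = i.1 + 1 → a i j ≠ 0) (h : a * g = g * b) : Lv 0 g := by
  have h1 : ∀ k (i j : Fin n), j.1 = i.1 + k → (a ^ k) i j ≠ 0 := fun k => by
    induction k with
    | zero => intro i j e; simp [show j = i from Fin.ext e]
    | succ k ih =>
      intro i j e
      rw [pow_succ, (ha.pow k).mul_apply ha (r := ⟨i.1 + k, by omega⟩) rfl e]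
      exact mul_ne_zero (ih _ _ rfl) (hr _ _ e)
  intro i j e
  induction i using (wellFounded_gt (α := Fin n)).induction with | _ i ih =>
  have h2 := congrFun₂ ((show SemiconjBy g b a from h.symm).pow_right (j.1 + 1)).eq ⟨i.1 - (j.1 + 1), by omega⟩ j
  rw [mul_apply, mul_apply, Finset.sum_eq_zero fun r _ => by rw [hb.pow _ r j (by omega), mul_zero],
    Finset.sum_eq_single i (fun r _ hr => ?_) (by simp)] at h2
  · exact (mul_eq_zero.1 h2.symm).resolve_left (h1 _ _ _ (by simp; omega))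
  rcases lt_or_gt_of_ne hr with h3 | h3
  · rw [ha.pow _ _ r (by simp; omega), zero_mul]
  · rw [ih r h3 (by omega), mul_zero]

end tri

end Cfsg.Agent.H5
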