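import Cfsg.Agent.H5.Pron
import Cfsg.Agent.H5.EvE

/-! Pronormality of subgroups of odd index in special unitary groups in characteristic two. -/

set_option autoImplicit false

namespace Cfsg.Agent.H5

open Subgroup Function Module Matrix

universe u v w

variable {F : Type w} [Field F] {σ : F →+* F} {q : ℕ}
variable {V : Type u} [AddCommGroup V] [Module F V]

/-- The determinant of an isometry. -/
noncomputable def dI (B : Sesq σ V) : Isom B →* F where
  toFun g := LinearMap.det (g.1 : End F V)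
  map_one' := LinearMap.det.map_one
  map_mul' a b := LinearMap.det.map_mul (a.1 : End F V) (b.1 : End F V)

theorem dI_apply {B : Sesq σ V} (g : Isom B) : dI B g = LinearMap.det (g.1 : End F V) := rfl

theorem UF.oddPron_psu [Fintype F] (h : UF σ q) [FiniteDimensional F V] {B : Sesq σ V} (hB : IsEps B 1) {n : ℕ}
    (hd : finrank F V = n) (H : OddPron (dI B).ker) : OddPron (Cfsg.PSU n F q) := by
  obtain ⟨e, φ, -, -, h1⟩ := h.exists_std hB hd
  have h2 : ∀ g, (φ g).1.1.det = dI B g := fun g => by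
    rw [← LinearMap.det_toLin', h1, dI_apply]; exact LinearMap.det_conj _ e
  let ψ := MulEquiv.ofBijective ((φ.symm.toMonoidHom.comp (suToGU n F q)).codRestrict (dI B).ker fun g => by
    rw [MonoidHom.mem_ker, ← h2]; simpa using g.1.2) ⟨fun a b e => suToGU_injective n (φ.symm.injective
      (congrArg Subtype.val e)), fun g => by
        obtain ⟨k, hk⟩ := exists_su_of_det (φ g) ((h2 g).trans g.2)
        exact ⟨k, Subtype.ext (φ.symm_apply_eq.2 hk)⟩⟩
  exact (H.of_surj (f := ψ.symm.toMonoidHom) ψ.symm.surjective).of_surj (QuotientGroup.mk'_surjective _)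

theorem exists_nil_sqrt {R : Type*} [Ring R] [Algebra F R] (adj : R → R) (a1 : adj 1 = 1)
    (a2 : ∀ x y, adj (x * y) = adj y * adj x) (a3 : ∀ x y, adj (x + y) = adj x + adj y)
    (a4 : ∀ (c : F) x, adj (c • x) = σ c • adj x) (hσ : ∀ x, σ (σ x) = x) {ω : F} (hω : σ ω + ω = 1) (Q : R → Prop)
    (q1 : ∀ x y, Q x → Q y → Q (x + y)) (q2 : ∀ x y, Q x → Q y → Q (x * y)) (q3 : ∀ (c : F) x, Q x → Q (c • x))
    (k : ℕ) : ∀ n, Q n → adj n = n → n ^ (k + 1) = 0 → ∃ m, Q m ∧ adj (1 + m) * (1 + n) * (1 + m) = 1 := by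
  induction k with
  | zero => exact fun n h1 _ h2 => ⟨n, h1, by rw [pow_one] at h2; simp [h2, a1]⟩
  | succ k ih =>
    intro n h1 h2 h3
    obtain ⟨m, m1, m2⟩ := ih ((ω * σ ω - 1) • (n * n) + (ω * σ ω) • (n * n * n))
      (q1 _ _ (q3 _ _ (q2 _ _ h1 h1)) (q3 _ _ (q2 _ _ (q2 _ _ h1 h1) h1)))
      (by simp only [a2, a3, a4, h2, map_sub, map_mul, hσ, map_one, mul_comm ω, mul_assoc]) (by
        rw [show (ω * σ ω - 1) • (n * n) + (ω * σ ω) • (n * n * n) = n ^ 2 * ((ω * σ ω - 1) • 1 + (ω * σ ω) • n) by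
          simp [mul_add, sq], Commute.mul_pow (((Commute.one_right _).smul_right _).add_right
            (((Commute.refl n).pow_left 2).smul_right _)), ← pow_mul, pow_eq_zero_of_le (by omega) h3, zero_mul])
    refine ⟨(-ω) • n + m + (-ω) • n * m, q1 _ _ (q1 _ _ (q3 _ _ h1) m1) (q2 _ _ (q3 _ _ h1) m1), ?_⟩
    refine Eq.trans ?_ m2
    rw [show 1 + ((-ω) • n + m + (-ω) • n * m) = (1 + (-ω) • n) * (1 + m) by noncomm_ring, a2, ← mul_assoc,
      mul_assoc (adj _), mul_assoc (adj _), a3 1 (_ • _), a1, a4, h2]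
    congr 2
    simp only [mul_add, add_mul, one_mul, mul_one, smul_mul_assoc, mul_smul_comm, smul_add, smul_smul, map_neg]
    linear_combination (norm := module) (-hω) • n - hω • (n * n)

variable {n : ℕ}

/-- The adjoint with respect to the antidiagonal hermitian form. -/
def adjM (σ : F →+* F) (m : Matrix (Fin n) (Fin n) F) : Matrix (Fin n) (Fin n) F :=
  (mᵀ.map σ).submatrix Fin.revPerm Fin.revPerm

theorem adjM_apply (m : Matrix (Fin n) (Fin n) F) (i j : Fin n) : adjM σ m i j = σ (m j.rev i.rev) := rfl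

theorem adjM_one : adjM σ (1 : Matrix (Fin n) (Fin n) F) = 1 := by simp [adjM]

theorem adjM_mul (x y : Matrix (Fin n) (Fin n) F) : adjM σ (x * y) = adjM σ y * adjM σ x := by
  simp [adjM, Matrix.map_mul]

theorem adjM_add (x y : Matrix (Fin n) (Fin n) F) : adjM σ (x + y) = adjM σ x + adjM σ y :=
  ext fun _ _ => map_add σ _ _

theorem adjM_smul (c : F) (x : Matrix (Fin n) (Fin n) F) : adjM σ (c • x) = σ c • adjM σ x :=
  ext fun _ _ => map_mul σ _ _

theorem adjM_adjM (hσ : ∀ x, σ (σ x) = x) (x : Matrix (Fin n) (Fin n) F) : adjM σ (adjM σ x) = x :=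
  ext fun _ _ => by simp [adjM_apply, hσ]

theorem Lv.adjM {k : ℕ} {a : Matrix (Fin n) (Fin n) F} (h : Lv k a) : Lv k (adjM σ a) := fun i j e => by
  rw [adjM_apply, h _ _ (by simp only [Fin.val_rev]; omega), map_zero]

/-- The antidiagonal hermitian form. -/
def antiU (n : ℕ) (σ : F →+* F) : Sesq σ (Fin n → F) := (stdU (Fin n) σ).comp (LinearMap.funLeft F F Fin.rev)

theorem antiU_apply (x y : Fin n → F) : antiU n σ x y = ∑ i : Fin n, x i.rev * σ (y i) := rfl

theorem isEps_antiU (hσ : ∀ x, σ (σ x) = x) : IsEps (antiU n σ) 1 where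
  invol := hσ
  symm u v := by
    simp only [antiU_apply, one_mul, map_sum, map_mul, hσ]
    exact Fintype.sum_equiv Fin.revPerm _ _ fun i => by simp [mul_comm]
  nondeg u hu := funext fun i => by simpa [antiU_apply, Pi.single_apply, apply_ite σ] using hu (Pi.single i.rev 1)

theorem antiU_adj (hσ : ∀ x, σ (σ x) = x) (m : Matrix (Fin n) (Fin n) F) (x y : Fin n → F) :
    antiU n σ (m *ᵥ x) y = antiU n σ x (adjM σ m *ᵥ y) := by
  simp only [antiU_apply, mulVec, dotProduct, map_sum, map_mul, adjM_apply, hσ, Finset.sum_mul, Finset.mul_sum]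
  rw [Finset.sum_comm]
  exact Fintype.sum_equiv Fin.revPerm _ _ fun i => Finset.sum_congr rfl fun j _ => by simp; ring

/-- The matrix of a special isometry. -/
noncomputable def mt : (dI (antiU n σ)).ker →* Matrix (Fin n) (Fin n) F where
  toFun g := LinearMap.toMatrixAlgEquiv' (g.1.1 : End F (Fin n → F))
  map_one' := map_one LinearMap.toMatrixAlgEquiv'
  map_mul' a b := map_mul LinearMap.toMatrixAlgEquiv' (a.1.1 : End F (Fin n → F)) (b.1.1 : End F (Fin n → F))

theorem mt_mulVec (g : (dI (antiU n σ)).ker) (x : Fin n → F) : mt g *ᵥ x = g.1.1 x :=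
  LinearMap.toMatrix'_mulVec _ _

theorem mt_injective : Injective (mt (n := n) (σ := σ)) := fun a b h =>
  Subtype.ext (Subtype.ext (LinearEquiv.ext fun x => by rw [← mt_mulVec, h, mt_mulVec]))

variable (hσ : ∀ x, σ (σ x) = x)
include hσ

theorem adjM_mt (g : (dI (antiU n σ)).ker) : adjM σ (mt g) = mt g⁻¹ := toLin'.injective (LinearMap.ext fun y => by
  rw [← sub_eq_zero]
  refine (isEps_antiU hσ).nondeg _ fun x => (isEps_antiU hσ).refl ?_
  rw [map_sub, toLin'_apply, ← antiU_adj hσ, toLin'_apply, mt_mulVec, mt_mulVec, Isom.apply_left, sub_eq_zero]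
  rfl)

theorem exists_mt {m : Matrix (Fin n) (Fin n) F} (h1 : adjM σ m * m = 1) (h2 : m.det = 1) :
    ∃ g : (dI (antiU n σ)).ker, mt g = m :=
  ⟨⟨(isEps_antiU hσ).toIsom (toLin' m) fun u v => by
    rw [toLin'_apply, antiU_adj hσ, toLin'_apply, mulVec_mulVec, h1, one_mulVec],
      (LinearMap.det_toLin' m).trans h2⟩, LinearMap.toMatrix'_toLin' m⟩

theorem exists_mt_mul {ω : F} (hω : σ ω + ω = 1) {a : Matrix (Fin n) (Fin n) F} (ha : a.det = 1)
    (Q : Matrix (Fin n) (Fin n) F → Prop) (q0 : ∀ x, Q x → Lv 1 x) (q1 : ∀ x y, Q x → Q y → Q (x + y))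
    (q2 : ∀ x y, Q x → Q y → Q (x * y)) (q3 : ∀ (c : F) x, Q x → Q (c • x)) (h : Q (adjM σ a * a - 1)) :
    ∃ (g : (dI (antiU n σ)).ker) (m : _), Q m ∧ mt g = a * (1 + m) := by
  obtain ⟨m, m1, m2⟩ := exists_nil_sqrt (adjM σ) adjM_one adjM_mul adjM_add adjM_smul hσ hω Q q1 q2 q3 n _ h
    (by rw [sub_eq_add_neg, ← neg_one_smul F 1, adjM_add, adjM_mul, adjM_adjM hσ, adjM_smul, adjM_one]; simp)
    (((q0 _ h).pow _).mono n.le_succ).eq_zero
  have h1 := lv_sub_one.1 (show Lv 1 (1 + m - 1) by simpa using q0 _ m1)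
  obtain ⟨g, hg⟩ := exists_mt hσ (m := a * (1 + m)) (by rw [adjM_mul]; simpa [mul_assoc] using m2)
    (by simp [ha, h1.1.det, h1.2])
  exact ⟨g, m, m1, hg⟩

theorem Lv.mt_inv {g : (dI (antiU n σ)).ker} (h : Lv 0 (mt g)) : Lv 0 (mt g⁻¹) := adjM_mt hσ _ ▸ h.adjM

theorem Lv.mt_diag {g : (dI (antiU n σ)).ker} (h : Lv 0 (mt g)) (i : Fin n) : mt g⁻¹ i i * mt g i i = 1 := by
  rw [← (h.mt_inv hσ).mul_apply h rfl rfl, ← map_mul, inv_mul_cancel, map_one, one_apply_eq]

theorem exists_borel_inter {ω : F} (hω : σ ω + ω = 1) (h : (dI (antiU n σ)).ker) {b : (dI (antiU n σ)).ker}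
    (hb : Lv 0 (mt b)) : ∃ t, Lv 0 (mt (h⁻¹ * t * h)) ∧ Lv 1 (mt (b * t⁻¹) - 1) := by
  have inv0 := @Lv.mt_inv _ _ _ n hσ
  have dg := @Lv.mt_diag _ _ _ n hσ
  obtain ⟨π, x, hx, y, hy, e⟩ := H6.bruhat (mt.toHomUnits h)
  have x1 := lv_zero_iff.2 hx
  have x2 := lv_zero_iff.2 (inv_mem hx)
  have d1 : ∀ d : Fin n → F, Lv 0 (diagonal d) := fun d => lv_zero_iff.2 (blockTriangular_diagonal d)
  obtain ⟨a, ha⟩ : ∃ a, a = x.1 * diagonal (mt b).diag * (x⁻¹).1 := ⟨_, rfl⟩
  have a1 : Lv 0 a := ha ▸ (x1.mul (d1 _)).mul x2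
  have a2 : ∀ i, a i i = mt b i i := fun i => by
    have := x1.mul_apply x2 (i := i) rfl rfl
    rw [Units.mul_inv, one_apply_eq] at this
    rw [ha, (x1.mul (d1 _)).mul_apply x2 rfl rfl, mul_diagonal, mul_right_comm, ← this, one_mul, Matrix.diag_apply]
  have a3 : Lv 0 (mt h⁻¹ * a * mt h) := by
    rw [show mt h⁻¹ * a * mt h = (y⁻¹).1 * diagonal (fun i => mt b (π i) (π i)) * y.1 by
      have e' : (mt (σ := σ)).toHomUnits h⁻¹ = (x * H6.permGL F π * y)⁻¹ := by rw [map_inv, e]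
      rw [show mt h = _ from congrArg Units.val e, show mt h⁻¹ = _ from congrArg Units.val e', ha]
      simp only [_root_.mul_inv_rev, Units.val_mul, mul_assoc, Units.inv_mul_cancel_left]
      rw [← mul_assoc (diagonal _), show diagonal (mt b).diag * (H6.permGL F π).1 =
        (H6.permGL F π).1 * diagonal fun i => mt b (π i) (π i) from ext fun i j => by
          rw [diagonal_mul, mul_diagonal, H6.permGL_apply]; split_ifs with h <;> simp [h],
        mul_assoc, Units.inv_mul_cancel_left]]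
    exact ((lv_zero_iff.2 (inv_mem hy)).mul (d1 _)).mul (lv_zero_iff.2 hy)
  have c1 : ∀ x y, mt h⁻¹ * (x * y) * mt h = mt h⁻¹ * x * mt h * (mt h⁻¹ * y * mt h) := fun x y => by
    simp only [mul_assoc]; rw [← mul_assoc (mt h), ← map_mul, mul_inv_cancel, map_one, one_mul]
  have c2 : mt h⁻¹ * 1 * mt h = 1 := by rw [mul_one, ← map_mul, inv_mul_cancel, map_one]
  obtain ⟨t, m, ⟨t1, t2⟩, t3⟩ := exists_mt_mul hσ hω (a := a) (by
      rw [a1.det, Finset.prod_congr rfl fun i _ => a2 i, ← hb.det]; exact (LinearMap.det_toMatrix' _).trans b.2)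
    (fun m => Lv 1 m ∧ Lv 0 (mt h⁻¹ * m * mt h)) (fun _ => And.left)
    (fun _ _ h h' => ⟨h.1.add h'.1, by simpa [mul_add, add_mul] using h.2.add h'.2⟩)
    (fun _ _ h h' => ⟨(h.1.mul h'.1).mono one_le_two, by rw [c1]; exact h.2.mul h'.2⟩)
    (fun c _ h => ⟨h.1.smul c, by simpa using h.2.smul c⟩)
    ⟨lv_sub_one.2 ⟨a1.adjM.mul a1, fun i => by
      rw [a1.adjM.mul_apply a1 rfl rfl, adjM_apply, a2, a2, ← adjM_apply, adjM_mt hσ, dg hb]⟩, by
      have := a3.adjM (σ := σ)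
      rw [adjM_mul, adjM_mul, adjM_mt hσ, adjM_mt hσ, inv_inv, ← mul_assoc] at this
      rw [mul_sub, sub_mul, c1, c2, sub_eq_add_neg, ← neg_one_smul F]
      exact (this.mul a3).add (lv_one.smul _)⟩
  have t4 := lv_sub_one.1 (show Lv 1 (1 + m - 1) by simpa using t1)
  have t5 : Lv 0 (mt t) := by rw [t3]; exact a1.mul t4.1
  refine ⟨t, ?_, lv_sub_one.2 ⟨by simpa using hb.mul (inv0 t5), fun i => ?_⟩⟩
  · rw [map_mul, map_mul, t3, c1, mul_add, add_mul, c2]
    exact a3.mul (lv_one.add t2)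
  · rw [map_mul, hb.mul_apply (inv0 t5) rfl rfl, ← dg t5 i, t3, a1.mul_apply t4.1 rfl rfl, t4.2, a2, mul_one, mul_comm]

theorem oddPron_su_even [Finite F] [CharP F 2] {ω : F} (hω : σ ω + ω = 1) : OddPron (dI (antiU n σ)).ker := by
  have := finite_isom (antiU n σ)
  have inv : ∀ {k} {g : (dI (antiU n σ)).ker}, Lv k (mt g - 1) → Lv k (mt g⁻¹ - 1) := fun h => by
    have := h.adjM (σ := σ)
    rwa [sub_eq_add_neg, ← neg_one_smul F 1, adjM_add, adjM_smul, adjM_one, adjM_mt hσ, map_neg, map_one,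
      neg_one_smul, ← sub_eq_add_neg] at this
  have inv0 := @Lv.mt_inv _ _ _ n hσ
  have dg := @Lv.mt_diag _ _ _ n hσ
  let U : Subgroup (dI (antiU n σ)).ker :=
    { carrier := {g | Lv 1 (mt g - 1)}
      one_mem' := by simp [Lv]
      mul_mem' := fun {a b} ha hb => by
        obtain ⟨a1, a2⟩ := lv_sub_one.1 ha
        obtain ⟨b1, b2⟩ := lv_sub_one.1 hb
        exact lv_sub_one.2 ⟨map_mul mt a b ▸ a1.mul b1, fun i => by
          rw [map_mul, a1.mul_apply b1 rfl rfl, a2, b2, one_mul]⟩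
      inv_mem' := inv }
  let s : Matrix (Fin n) (Fin n) F := of fun i j => if j.1 = i.1 + 1 then 1 else 0
  have s1 : Lv 1 s := fun i j e => if_neg (by omega)
  have s2 := lv_sub_one.1 (show Lv 1 (1 + s - 1) by simpa using s1)
  obtain ⟨u, m, u1, u2⟩ := exists_mt_mul hσ hω (a := 1 + s) (by simp [s2.1.det, s2.2]) (Lv 2)
    (fun _ h => h.mono one_le_two) (fun _ _ => Lv.add) (fun _ _ h h' => (h.mul h').mono (show 2 ≤ 2 + 2 by omega))
    (fun c _ h => h.smul c) (by
      rw [adjM_add, adjM_one, show adjM σ s = s from ext fun i j => by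
        simp only [adjM_apply, s, of_apply, apply_ite σ, map_one, map_zero, Fin.val_rev]
        exact if_congr (by omega) rfl rfl, show (1 + s) * (1 + s) - 1 = (2 : F) • s + s * s by
          rw [two_smul]; noncomm_ring, CharTwo.two_eq_zero (R := F), zero_smul, zero_add]
      exact s1.mul s1)
  have u3 : mt u - 1 = s + (1 + s) * m := by rw [u2]; noncomm_ring
  have u4 : u ∈ U := show Lv 1 _ from u3 ▸ s1.add ((s2.1.mul u1).mono (by omega))
  have hN : ∀ g, g ∈ normalizer (U : Set (dI (antiU n σ)).ker) ↔ Lv 0 (mt g) := fun g => ⟨fun h => lv_of_reg u4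
    ((mem_normalizer_iff''.1 h u).1 u4) (fun i j e => by
      rw [u3, Matrix.add_apply, s2.1.mul u1 i j (by omega)]; simp [s, e]) (by
      simp [mul_sub, sub_mul, ← map_mul, ← mul_assoc]), fun h => mem_normalizer_fintype fun a ha => by
        obtain ⟨a1, a2⟩ := lv_sub_one.1 ha
        exact lv_sub_one.2 ⟨by simpa using (h.mul a1).mul (inv0 h), fun i => by
          rw [map_mul, map_mul, (h.mul a1).mul_apply (inv0 h) rfl rfl, h.mul_apply a1 rfl rfl, a2, mul_one,
            mul_comm, dg h]⟩⟩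
  obtain ⟨S, hS⟩ := exists_sylow_eq (p := 2) (U := U) (fun g => ⟨n, Subtype.ext (mt_injective (by
    have : CharP (Matrix (Fin n) (Fin n) F) 2 ∨ n = 0 := by
      rcases n with _ | n
      exacts [Or.inr rfl, Or.inl inferInstance]
    rcases this with _ | rfl
    · rw [coe_pow, map_pow, coe_one, map_one, ← sub_eq_zero, ← one_pow (2 ^ n),
        ← sub_pow_char_pow_of_commute _ _ (Commute.one_right _)]
      exact ((Lv.pow g.2 _).mono Nat.lt_two_pow_self.le).eq_zero
    · exact Subsingleton.elim _ _))⟩) fun y hy k hk => lv_sub_one.2 ⟨(hN y).1 hy, fun i =>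
      (iterateFrobenius F 2 k).injective (by
        rw [iterateFrobenius_def, ← (((hN y).1 hy).diag_pow _ i).2, ← map_pow, hk, map_one, map_one, one_apply_eq])⟩
  refine oddPron_of_borel S (fun a ha b hb => ?_) fun h b hb => ?_
  · rw [hS, hN] at ha hb
    exact hS.ge <| lv_sub_one.2 ⟨by simpa using ((ha.mul hb).mul (inv0 ha)).mul (inv0 hb), fun i => by
      rw [map_mul, map_mul, map_mul, ((ha.mul hb).mul (inv0 ha)).mul_apply (inv0 hb) rfl rfl,
        (ha.mul hb).mul_apply (inv0 ha) rfl rfl, ha.mul_apply hb rfl rfl]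
      linear_combination mt b⁻¹ i i * mt b i i * dg ha i + dg hb i⟩
  rw [hS, hN] at hb
  obtain ⟨t, t1, t2⟩ := exists_borel_inter hσ hω h hb
  exact ⟨t, by rwa [hS, hN], hS.ge t2⟩

end Cfsg.Agent.H5
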