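import Cfsg.Agent.H5.PronU

/-! Normalisers of Sylow `2`-subgroups of isometry groups in dimension a power of two. -/

set_option autoImplicit false

namespace Cfsg.Agent.H5

open Subgroup Function Module

universe u v w

theorem val_two_prod {q : ℕ} (hq : Odd q) (h1 : 1 < q) {u : ℕ → ℕ} {a : ℕ} (h0 : ∀ k, u (2 * k) ≠ 0)
    (h2 : ∀ k, padicValNat 2 (u (2 * k)) = a) (h3 : ∀ k, u (2 * k + 1) = q ^ (2 * (k + 1)) - 1) (k : ℕ) :
    ∏ i ∈ Finset.range (2 * k), q ^ i * u i ≠ 0 ∧ padicValNat 2 (∏ i ∈ Finset.range (2 * k), q ^ i * u i) =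
      k * (a + padicValNat 2 (q ^ 2 - 1)) + padicValNat 2 k.factorial := by
  have h4 := fun i => pow_ne_zero i hq.pos.ne'
  have h5 : ∀ i, padicValNat 2 (q ^ i) = 0 := fun i => padicValNat.eq_zero_of_not_dvd hq.pow.not_two_dvd_nat
  induction k with
  | zero => simp
  | succ k ih =>
    have a0 : u (2 * k + 1) ≠ 0 := h3 k ▸ Nat.sub_ne_zero_of_lt (Nat.one_lt_pow (by omega) h1)
    have a1 := padicValNat.pow_two_sub_one h1 hq.not_two_dvd_nat (n := 2 * (k + 1)) (by omega) (even_two_mul _)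
    have a2 := padicValNat.pow_two_sub_one h1 hq.not_two_dvd_nat (n := 2) (by omega) even_two
    rw [padicValNat.mul two_ne_zero k.add_one_ne_zero, ← h3] at a1
    rw [mul_add, mul_one, Finset.prod_range_succ, Finset.prod_range_succ]
    have a3 := mul_ne_zero ih.1 (mul_ne_zero (h4 (2 * k)) (h0 k))
    refine ⟨mul_ne_zero a3 (mul_ne_zero (h4 _) a0), ?_⟩
    rw [padicValNat.mul a3 (mul_ne_zero (h4 _) a0), padicValNat.mul ih.1 (mul_ne_zero (h4 _) (h0 k)),
      padicValNat.mul (h4 _) a0, padicValNat.mul (h4 _) (h0 k), ih.2, h5, h5, h2, Nat.factorial_succ,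
      padicValNat.mul k.add_one_ne_zero k.factorial_ne_zero, add_mul]
    omega

theorem val_two_factorial (w : ℕ) : padicValNat 2 (2 ^ w).factorial + 1 = 2 ^ w := by
  induction w with
  | zero => simp
  | succ w ih => rw [pow_succ', padicValNat_factorial_mul]; omega

theorem val_two_odd_pow_add {q : ℕ} (hq : Odd q) (k : ℕ) :
    padicValNat 2 (q ^ (2 * k + 1) + 1) = padicValNat 2 (q + 1) := by
  obtain ⟨m, h1, h2⟩ : ∃ m, Odd m ∧ q ^ (2 * k + 1) + 1 = (q + 1) * m := by
    induction k with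
    | zero => exact ⟨1, odd_one, by simp⟩
    | succ k ih =>
      obtain ⟨m, h1, h2⟩ := ih
      obtain ⟨r, rfl⟩ := hq
      exact ⟨(2 * r + 1) ^ (2 * k + 1) * (2 * r) + m, ((even_two_mul r).mul_left _).add_odd h1, by
        rw [mul_add (2 * r + 1 + 1), ← h2]; ring⟩
  rw [h2, padicValNat.mul q.add_one_ne_zero h1.pos.ne', padicValNat.eq_zero_of_not_dvd h1.not_two_dvd_nat, add_zero]

theorem val_two_odd_pow_sub {q : ℕ} (hq : Odd q) (h : 1 < q) (k : ℕ) :
    padicValNat 2 (q ^ (2 * k + 1) - 1) = padicValNat 2 (q - 1) := by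
  obtain ⟨r, rfl⟩ := hq
  obtain ⟨m, h1, h2⟩ : ∃ m, Odd m ∧ (2 * r + 1) ^ (2 * k + 1) = 2 * r * m + 1 := by
    induction k with
    | zero => exact ⟨1, odd_one, by simp⟩
    | succ k ih =>
      obtain ⟨m, h1, h2⟩ := ih
      exact ⟨(2 * r + 1) ^ (2 * k + 1) * (2 * (r + 1)) + m, ((even_two_mul _).mul_left _).add_odd h1, by
        rw [mul_add (2 * r), add_assoc (2 * r * _), ← h2]; ring⟩
  rw [h2, Nat.add_sub_cancel, Nat.add_sub_cancel, padicValNat.mul (by omega) h1.pos.ne',
    padicValNat.eq_zero_of_not_dvd h1.not_two_dvd_nat, add_zero]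

theorem mem_sylow_of_central {G : Type*} [Group G] {p : ℕ} [Fact p.Prime] (S : Sylow p G) {g : G}
    (h : g ∈ center G) {k : ℕ} (hk : g ^ p ^ k = 1) : g ∈ S :=
  ((show IsPGroup p (zpowers g) by
    rintro ⟨_, j, rfl⟩
    exact ⟨k, Subtype.ext (by
      change (g ^ j) ^ p ^ k = 1
      rw [← zpow_natCast, ← zpow_mul, mul_comm, zpow_mul, zpow_natCast, hk, one_zpow])⟩).inf_normalizer_sylow
      S).le ⟨mem_zpowers g, center_le_normalizer _ h⟩ |>.2

theorem eq_one_of_odd {G : Type*} [Group G] (S : Sylow 2 G) {g : G} (h : g ∈ S) {n : ℕ} (hn : Odd n)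
    (h1 : g ^ n = 1) : g = 1 := by
  obtain ⟨k, hk⟩ := S.2 ⟨g, h⟩
  exact orderOf_eq_one_iff.1 (Nat.eq_one_of_dvd_coprimes ((Nat.coprime_two_left.2 hn).pow_left k)
    (orderOf_dvd_of_pow_eq_one (congrArg Subtype.val hk)) (orderOf_dvd_of_pow_eq_one h1))

theorem commute_of_odd {M : Type*} [Monoid M] {x y : M} {n : ℕ} (hn : Odd n) (h1 : x ^ n = 1)
    (h : Commute (x ^ 2) y) : Commute x y := by
  obtain ⟨k, rfl⟩ := hn
  have := h.pow_left (k + 1)
  rwa [← pow_mul, mul_add, mul_one, pow_succ, h1, one_mul] at this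

variable {F : Type w} [Field F] {σ : F →+* F}
variable {V : Type u} [AddCommGroup V] [Module F V]

/-- The isometry is a scalar. -/
def Sc {B : Sesq σ V} (g : Isom B) : Prop := ∃ c : F, ∀ v, g.1 v = c • v

theorem Sc.central {B : Sesq σ V} {g : Isom B} (h : Sc g) : g ∈ center (Isom B) :=
  let ⟨_, h⟩ := h; mem_center_of_scalar h

theorem Sc.conj {B : Sesq σ V} {g : Isom B} (x : Isom B) (h : Sc (x * g * x⁻¹)) : Sc g := by
  have := mem_center_iff.1 h.central x
  rwa [show x * g * x⁻¹ = g from mul_left_cancel (this.trans (by simp))] at h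

theorem Sc.eq_or {B : Sesq σ V} {g : Isom B} (h : Sc g) (h1 : g * g = 1) : g = 1 ∨ g = negI B := by
  obtain ⟨c, h⟩ := h
  by_cases h0 : ∀ v : V, v = 0
  · exact Or.inl (Subtype.ext (LinearEquiv.ext fun v => (h0 _).trans (h0 _).symm))
  obtain ⟨v, hv⟩ := not_forall.1 h0
  have : g.1 (g.1 v) = v := congrArg (fun k : Isom B => k.1 v) h1
  rw [h, h, smul_smul, ← sub_eq_zero, ← one_smul F v, smul_smul, mul_one, ← sub_smul, smul_eq_zero_iff_left hv,
    sub_eq_zero, mul_self_eq_one_iff] at this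
  exact this.imp (fun e => Subtype.ext (LinearEquiv.ext fun v => by simp [h, e]))
    fun e => Subtype.ext (LinearEquiv.ext fun v => by simp [h, e, negI_apply])

theorem negI_mul_negI (B : Sesq σ V) : negI B * negI B = 1 := Subtype.ext (LinearEquiv.ext neg_neg)

theorem negI_comm {B : Sesq σ V} (g : Isom B) : g * negI B = negI B * g :=
  Subtype.ext (LinearEquiv.ext (map_neg g.1))

theorem negI_mul_ne (h2 : (2 : F) ≠ 0) [Nontrivial V] {B : Sesq σ V} (g : Isom B) : negI B * g ≠ g := fun h => by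
  have := orderOf_negI h2 B
  rw [mul_eq_right.1 h, orderOf_one] at this
  omega

/-- Properties of a Sylow `2`-subgroup of an isometry group. -/
structure SylP {B : Sesq σ V} (S : Sylow 2 (Isom B)) : Prop where
  cent : ∀ t : Isom B, (∀ s ∈ S, dI B s = 1 → t * s = s * t) → Sc t
  norm : ∀ (x : Isom B) n, Odd n → x ^ n = 1 → (∀ s ∈ S, x * s * x⁻¹ ∈ S) → Sc x
  ex : ∃ s ∈ S, dI B s = 1 ∧ ¬ Sc s

/-- The exchange of the two summands. -/
def swapI (B : Sesq σ V) : Isom (prodForm B B) := ⟨LinearEquiv.prodComm F V V, fun u v => by simp [add_comm]⟩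

theorem prodHom_apply {B : Sesq σ V} (a : Isom B × Isom B) (v : V × V) :
    (Isom.prodHom B B a).1 v = (a.1.1 v.1, a.2.1 v.2) := rfl

theorem dI_conj {B : Sesq σ V} (x s : Isom B) : dI B (x * s * x⁻¹) = dI B s := by
  rw [map_mul, map_mul, mul_right_comm, ← map_mul, mul_inv_cancel, map_one, one_mul]

theorem swapI_mul_swapI (B : Sesq σ V) : swapI B * swapI B = 1 := rfl

theorem swapI_mul {B : Sesq σ V} (a b : Isom B) :
    swapI B * Isom.prodHom B B (a, b) = Isom.prodHom B B (b, a) * swapI B := rfl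

theorem prod_ne_swap [Nontrivial V] {B : Sesq σ V} (a b : Isom B × Isom B) :
    Isom.prodHom B B a ≠ Isom.prodHom B B b * swapI B := fun h => by
  obtain ⟨v, hv⟩ := exists_ne (0 : V)
  exact hv (by simpa [prodHom_apply, swapI] using congrArg (fun g : Isom (prodForm B B) => (g.1 (v, 0)).1) h)

theorem prod_neg (B : Sesq σ V) : Isom.prodHom B B (negI B, negI B) = negI (prodForm B B) := rfl

variable [FiniteDimensional F V]

theorem dI_prod {B : Sesq σ V} (a b : Isom B) : dI _ (Isom.prodHom B B (a, b)) = dI B a * dI B b :=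
  LinearMap.det_prodMap (a.1 : End F V) (b.1 : End F V)

theorem dI_negI (B : Sesq σ V) : dI B (negI B) = (-1) ^ finrank F V := by
  rw [dI_apply, show ((negI B).1 : End F V) = (-1 : F) • 1 from LinearMap.ext fun v => by simp [negI_apply],
    LinearMap.det_smul, map_one, mul_one]

theorem dI_swapI (h2 : (2 : F) ≠ 0) (B : Sesq σ V) : dI _ (swapI B) = (-1) ^ finrank F V := by
  let h : End F (V × V) := (LinearMap.fst F V V + LinearMap.snd F V V).prod (LinearMap.fst F V V - LinearMap.snd F V V)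
  have h1 := congrArg LinearMap.det (show h * h = (2 : F) • 1 from LinearMap.ext fun v => by
    ext <;> simp [h, two_smul])
  have h3 := congrArg LinearMap.det (show h * ((swapI B).1 : End F _) = ((Isom.prodHom B B (1, negI B)).1 : End F _) * h
    from LinearMap.ext fun v => by ext <;> simp [h, swapI, prodHom_apply, negI_apply, add_comm])
  rw [map_mul, LinearMap.det_smul, map_one, mul_one] at h1
  rw [map_mul, map_mul, mul_comm, ← dI_apply, ← dI_apply, dI_prod, map_one, one_mul, dI_negI] at h3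
  exact mul_right_cancel₀ (fun h => pow_ne_zero _ h2 (by rw [← h1, h, zero_mul])) h3

theorem exists_prod_of_comm (h2 : (2 : F) ≠ 0) {B : Sesq σ V} {t : Isom (prodForm B B)}
    (h : Commute t (Isom.prodHom B B (1, negI B))) : ∃ a b, t = Isom.prodHom B B (a, b) := by
  have h0 : ∀ {x : V}, x = -x → x = 0 := fun h => (smul_eq_zero.1 (by
    rw [two_smul]; exact eq_neg_iff_add_eq_zero.1 h)).resolve_left h2
  have h1 : ∀ x, (t.1 (x, 0)).2 = 0 := fun x => h0 (by
    simpa [prodHom_apply, negI_apply] using congrArg (fun g : Isom (prodForm B B) => (g.1 (x, 0)).2) h.eq)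
  have h3 : ∀ x, (t.1 (0, x)).1 = 0 := fun x => h0 (by
    have := congrArg (fun g : Isom (prodForm B B) => (g.1 (0, x)).1) h.eq
    change (t.1 (0, -x)).1 = (t.1 (0, x)).1 at this
    rw [← Prod.fst_neg, ← map_neg]; simpa using this.symm)
  have e1 : ∀ x, t.1 (x, 0) = ((t.1 (x, 0)).1, 0) := fun x => Prod.ext rfl (h1 x)
  have e2 : ∀ x, t.1 (0, x) = (0, (t.1 (0, x)).2) := fun x => Prod.ext (h3 x) rfl
  refine ⟨⟨LinearEquiv.ofInjectiveEndo (.fst F V V ∘ₗ (t.1 : End F (V × V)) ∘ₗ .inl F V V) fun x y e =>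
      congrArg Prod.fst (t.1.injective ((e1 x).trans ((congrArg (·, 0) e).trans (e1 y).symm))), fun x y => ?_⟩,
    ⟨LinearEquiv.ofInjectiveEndo (.snd F V V ∘ₗ (t.1 : End F (V × V)) ∘ₗ .inr F V V) fun x y e =>
      congrArg Prod.snd (t.1.injective ((e2 x).trans ((congrArg (0, ·) e).trans (e2 y).symm))), fun x y => ?_⟩,
    Subtype.ext (LinearEquiv.ext fun v => ?_)⟩
  · exact (by simpa [h1] using t.2 (x, 0) (y, 0) : B (t.1 (x, 0)).1 (t.1 (y, 0)).1 = _)
  · exact (by simpa [h3] using t.2 (0, x) (0, y) : B (t.1 (0, x)).2 (t.1 (0, y)).2 = _)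
  · change _ = ((t.1 (v.1, 0)).1, (t.1 (0, v.2)).2)
    conv_lhs => rw [← Prod.fst_add_snd v, map_add, e1, e2]
    simp

theorem exists_prod_sylow [Finite F] [Nontrivial V] {B : Sesq σ V} (S₀ : Sylow 2 (Isom B))
    (h : (Nat.card (Isom (prodForm B B))).factorization 2 = 2 * (Nat.card (Isom B)).factorization 2 + 1) :
    ∃ S : Sylow 2 (Isom (prodForm B B)), swapI B ∈ S ∧ (∀ a ∈ S₀, ∀ b ∈ S₀, Isom.prodHom B B (a, b) ∈ S) ∧
      ∀ s ∈ S, ∃ a ∈ S₀, ∃ b ∈ S₀, s = Isom.prodHom B B (a, b) ∨ s = Isom.prodHom B B (a, b) * swapI B := by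
  have := finite_isom B
  have := finite_isom (prodForm B B)
  obtain ⟨S, h1, h2, h3⟩ := exists_sylow_two (P := (S₀.1.prod S₀.1).map (Isom.prodHom B B)) (swapI_mul_swapI B)
    (by rintro _ ⟨⟨a, b⟩, h, rfl⟩; exact ⟨(b, a), ⟨h.2, h.1⟩, rfl⟩) (by
      rw [card_map_of_injective (Isom.prodHom_injective B B), Nat.card_congr (prodEquiv _ _).toEquiv,
        Nat.card_prod, S₀.card_eq_multiplicity, h]; ring)
    (by rintro ⟨a, -, h⟩; exact prod_ne_swap a 1 (by simpa using h))
  refine ⟨S, h1, fun a ha b hb => h2 ⟨(a, b), ⟨ha, hb⟩, rfl⟩, fun s hs => ?_⟩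
  obtain ⟨a, ha, e⟩ | ⟨a, ha, e⟩ := h3 s hs
  · exact ⟨_, ha.1, _, ha.2, Or.inl e.symm⟩
  · exact ⟨_, ha.1, _, ha.2, Or.inr (by rw [e, mul_assoc, swapI_mul_swapI, mul_one])⟩

theorem SylP.step [Finite F] (h2 : (2 : F) ≠ 0) {B : Sesq σ V} {S₀ : Sylow 2 (Isom B)} (H : SylP S₀)
    (hd : Even (finrank F V))
    (h : (Nat.card (Isom (prodForm B B))).factorization 2 = 2 * (Nat.card (Isom B)).factorization 2 + 1) :
    ∃ S : Sylow 2 (Isom (prodForm B B)), SylP S ∧ ∀ (x : Isom (prodForm B B)) n, Odd n → x ^ n = 1 →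
      (∀ s ∈ S, dI _ s = 1 → x * s * x⁻¹ ∈ S) → Sc x := by
  obtain ⟨c, c1, c2, c3⟩ := H.ex
  have : Nontrivial V := not_subsingleton_iff_nontrivial.1 fun _ => c3 ⟨1, fun _ => Subsingleton.elim _ _⟩
  have := finite_isom (prodForm B B)
  obtain ⟨S, s1, s2, s3⟩ := exists_prod_sylow S₀ h
  have inj := Isom.prodHom_injective B B
  have n1 : negI B ∈ S₀ := mem_sylow_of_central S₀ (mem_center_iff.2 negI_comm) (k := 1) (by
    rw [pow_one, sq, negI_mul_negI])
  have n2 : dI B (negI B) = 1 := by rw [dI_negI, hd.neg_one_pow]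
  have n3 : dI _ (swapI B) = 1 := by rw [dI_swapI h2, hd.neg_one_pow]
  have z1 := s2 1 (one_mem _) _ n1
  have z2 : dI _ (Isom.prodHom B B (1, negI B)) = 1 := by rw [dI_prod, n2, map_one, mul_one]
  have z3 : ¬ Sc (Isom.prodHom B B (1, negI B)) := fun h => negI_mul_ne h2 (1 : Isom B) (by
    have := mem_center_iff.1 h.central (swapI B)
    rw [swapI_mul, mul_left_inj] at this
    simpa using congrArg Prod.fst (inj this))
  have fin : ∀ {a b}, Sc a → swapI B * Isom.prodHom B B (a, b) = Isom.prodHom B B (a, b) * swapI B →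
      Sc (Isom.prodHom B B (a, b)) := fun {a b} ⟨c, h⟩ h' => by
    rw [swapI_mul, mul_left_inj] at h'
    obtain rfl : b = a := congrArg Prod.fst (inj h')
    exact ⟨c, fun v => Prod.ext (h _) (h _)⟩
  have st : ∀ (x : Isom (prodForm B B)) n, Odd n → x ^ n = 1 → (∀ s ∈ S, dI _ s = 1 → x * s * x⁻¹ ∈ S) → Sc x := by
    intro x n hn x1 x2
    have x3 : ∀ k, ∀ s ∈ S, dI _ s = 1 → x ^ k * s * (x ^ k)⁻¹ ∈ S := fun k => by
      induction k with
      | zero => exact fun s h _ => by simpa using h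
      | succ k ih => exact fun s h h' => by simpa [pow_succ', mul_assoc] using x2 _ (ih s h h') (by rwa [dI_conj])
    have x4 : ∀ s ∈ S, dI _ s = 1 → x⁻¹ * s * x ∈ S := fun s h h' => by
      obtain ⟨k, rfl⟩ := hn
      simpa [eq_inv_of_mul_eq_one_left ((pow_succ x _).symm.trans x1)] using x3 (2 * k) s h h'
    obtain ⟨t, ht⟩ : ∃ t, t = x * Isom.prodHom B B (1, negI B) * x⁻¹ := ⟨_, rfl⟩
    have t1 : ∀ s ∈ S, dI _ s = 1 → t * s = s * t ∨ t * s = negI _ * (s * t) := fun s h h' => by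
      have e0 : ∀ {y}, x⁻¹ * s * x = y → s = x * y * x⁻¹ := fun e => by rw [← e]; group
      obtain ⟨a, -, b, -, e | e⟩ := s3 _ (x4 s h h') <;> rw [e0 e]
      · exact Or.inl (by rw [ht, conj_mul, conj_mul, ← map_mul, ← map_mul]; simp [negI_comm b])
      · refine Or.inr ?_
        rw [ht, conj_mul, conj_mul, ← mul_assoc (negI _), ← mul_assoc (negI _), ← negI_comm x, mul_assoc x (negI _)]
        congr 2
        exact Subtype.ext (LinearEquiv.ext fun v => by simp [prodHom_apply, negI_apply, swapI])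
    have t2 : t * t = 1 := by rw [ht, conj_mul, ← map_mul]; simp [negI_mul_negI, ← Prod.one_eq_mk]
    have t3 : ¬ Sc t := fun h => z3 (Sc.conj x (ht ▸ h))
    have t4 : x * Isom.prodHom B B (1, negI B) * x⁻¹ = Isom.prodHom B B (1, negI B) ∨
        x * Isom.prodHom B B (1, negI B) * x⁻¹ = negI _ * Isom.prodHom B B (1, negI B) := by
      rw [← ht]
      obtain ⟨a, -, b, -, rfl | rfl⟩ := s3 t (ht ▸ x2 _ z1 z2)
      · rw [← map_mul, map_eq_one_iff _ inj, Prod.mk_mul_mk, Prod.mk_eq_one] at t2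
        have a1 := (H.cent a fun s h h' => (t1 _ (s2 s h 1 (one_mem _)) (by simp [dI_prod, h'])).elim
          (fun e => congrArg Prod.fst (inj (by simpa only [← map_mul] using e))) fun e => absurd
            (congrArg Prod.snd (inj (by simpa only [← prod_neg, ← map_mul] using e))).symm
            (by simpa using negI_mul_ne h2 b)).eq_or t2.1
        have b1 := (H.cent b fun s h h' => (t1 _ (s2 1 (one_mem _) s h) (by simp [dI_prod, h'])).elim
          (fun e => congrArg Prod.snd (inj (by simpa only [← map_mul] using e))) fun e => absurd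
            (congrArg Prod.fst (inj (by simpa only [← prod_neg, ← map_mul] using e))).symm
            (by simpa using negI_mul_ne h2 a)).eq_or t2.2
        rcases a1 with rfl | rfl <;> rcases b1 with rfl | rfl
        · exact absurd ⟨1, fun v => (one_smul F v).symm⟩ t3
        · exact Or.inl rfl
        · exact Or.inr (by simp [← prod_neg, ← map_mul, negI_mul_negI])
        · exact absurd ⟨-1, fun v => (neg_one_smul F v).symm⟩ t3
      · refine absurd ?_ c3
        rcases t1 _ (s2 c c1 1 (one_mem _)) (by simp [dI_prod, c2]) with e | e <;>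
          rw [mul_assoc, swapI_mul] at e <;> simp only [← mul_assoc, ← prod_neg, ← map_mul, mul_left_inj] at e
        · obtain rfl : c = 1 := by simpa using congrArg Prod.fst (inj e)
          exact ⟨1, fun v => (one_smul F v).symm⟩
        · obtain rfl : c = negI B := by simpa [← negI_comm b] using congrArg Prod.snd (inj e)
          exact ⟨-1, fun v => (neg_one_smul F v).symm⟩
    obtain ⟨a, b, rfl⟩ := exists_prod_of_comm h2 (t := x) (commute_of_odd hn x1 (by
      rw [Commute, SemiconjBy, ← mul_inv_eq_iff_eq_mul, show ∀ z, x ^ 2 * z * (x ^ 2)⁻¹ = x * (x * z * x⁻¹) * x⁻¹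
        from fun z => by simp [sq, mul_assoc]]
      rcases t4 with e | e
      · rw [e, e]
      · rw [e, ← mul_assoc, negI_comm, mul_assoc, mul_assoc, ← mul_assoc x, e, ← mul_assoc, negI_mul_negI, one_mul]))
    rw [← map_pow, map_eq_one_iff _ inj, Prod.pow_mk, Prod.mk_eq_one] at x1
    have y1 : ∀ s ∈ S₀, a * s * a⁻¹ ∈ S₀ ∧ b * s⁻¹ * b⁻¹ ∈ S₀ := fun s hs => by
      obtain ⟨a', ha, b', hb, e | e⟩ := s3 _ (x2 _ (s2 s hs _ (inv_mem hs)) (by rw [dI_prod, ← map_mul]; simp))
      all_goals rw [← map_inv, ← map_mul, ← map_mul] at e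
      · exact ⟨by rwa [show a * s * a⁻¹ = a' from congrArg Prod.fst (inj e)],
          by rwa [show b * s⁻¹ * b⁻¹ = b' from congrArg Prod.snd (inj e)]⟩
      · exact absurd e (prod_ne_swap _ _)
    have y2 := H.norm a n hn x1.1 fun s hs => (y1 s hs).1
    refine fin y2 (mul_inv_eq_one.1 (eq_one_of_odd S (n := n) ?_ hn ?_)).symm
    · rw [_root_.mul_inv_rev, ← mul_assoc]
      exact mul_mem (x2 _ s1 n3) (inv_mem s1)
    · rw [← swapI_mul, _root_.mul_inv_rev, mul_assoc, ← map_inv, ← mul_assoc (Isom.prodHom B B _), ← map_mul,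
        ← mul_assoc, swapI_mul, mul_inv_cancel_right, ← map_pow, map_eq_one_iff _ inj]
      have := mem_center_iff.1 y2.central b
      ext1
      · change (a * b⁻¹) ^ n = 1
        rw [(Commute.inv_right this.symm).mul_pow, inv_pow, x1.1, x1.2, inv_one, mul_one]
      · change (b * a⁻¹) ^ n = 1
        rw [(Commute.inv_right this).mul_pow, inv_pow, x1.1, x1.2, inv_one, mul_one]
  refine ⟨S, ⟨fun t ht => ?_, fun x n h1 h3 h4 => st x n h1 h3 fun s h _ => h4 s h, _, z1, z2, z3⟩, st⟩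
  obtain ⟨a, b, rfl⟩ := exists_prod_of_comm h2 (ht _ z1 z2)
  exact fin (H.cent a fun s h h' => congrArg Prod.fst (inj (by
    simpa only [← map_mul] using ht _ (s2 s h 1 (one_mem _)) (by simp [dI_prod, h'])))) (ht _ s1 n3).symm

end Cfsg.Agent.H5
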