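import Cfsg.Agent.H5.PronV

/-! The two-dimensional case and pronormality in dimension a power of two. -/

set_option autoImplicit false

namespace Cfsg.Agent.H5

open Subgroup Function Module

universe u v w

variable {F : Type w} [Field F] {σ : F →+* F} {q : ℕ}
variable {V : Type u} [AddCommGroup V] [Module F V] [FiniteDimensional F V]

theorem oddPron_of_strong [Finite F] {B : Sesq σ V} (S : Sylow 2 (Isom B)) {w : ℕ} (hd : finrank F V = 2 ^ w)
    (h : ∀ (x : Isom B) n, Odd n → x ^ n = 1 → (∀ s ∈ S, dI B s = 1 → x * s * x⁻¹ ∈ S) → Sc x) :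
    OddPron (dI B).ker := by
  have := finite_isom B
  obtain ⟨T⟩ : Nonempty (Sylow 2 (dI B).ker) := inferInstance
  obtain ⟨S', h1⟩ := (T.2.map (dI B).ker.subtype).exists_le_sylow
  obtain ⟨g, rfl⟩ := MulAction.exists_smul_eq (Isom B) S S'
  have h2 := T.3 ((g • S).2.comap_subtype (K := (dI B).ker)) (map_le_iff_le_comap.1 h1)
  refine oddPron_of_normalizer T fun H hH y hy z hz => ?_
  have h3 : y ∈ H := hH (mem_sylow_of_normalizer T (fun y hy n hn h3 => ?_) hy)
  · exact mul_mem (mul_mem h3 hz) (inv_mem h3)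
  obtain ⟨c, hc⟩ := Sc.conj (g := y) g⁻¹ (h _ n hn (by rw [conj_pow, show y.1 ^ n = 1 from congrArg Subtype.val h3]; simp)
    fun s hs hs' => by
      obtain ⟨r, hr, e⟩ := h1 ⟨_, (mem_normalizer_iff.1 hy ⟨g * s * g⁻¹, (dI_conj g s).trans hs'⟩).1
        (h2.le ⟨s, hs, rfl⟩), rfl⟩
      replace e : g * r * g⁻¹ = y * (g * s * g⁻¹) * y.1⁻¹ := e
      rwa [show g⁻¹ * y * g⁻¹⁻¹ * s * (g⁻¹ * y * g⁻¹⁻¹)⁻¹ = g⁻¹ * (g * r * g⁻¹) * g by rw [e]; group,
        show g⁻¹ * (g * r * g⁻¹) * g = r by group])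
  have h4 : (y.1.1 : End F V) = c • 1 := LinearMap.ext hc
  have h5 : dI B y = 1 := y.2
  rw [dI_apply, h4, LinearMap.det_smul, map_one, mul_one, hd] at h5
  exact mem_sylow_of_central T (mem_center_iff.2 fun k => Subtype.ext (mem_center_iff.1 (mem_center_of_scalar hc) k))
    (k := w) (Subtype.ext (isom_pow_eq_one.2 (by rw [h4, smul_pow, h5, one_pow, one_smul])))

theorem exists_strong [Finite F] (h2 : (2 : F) ≠ 0) (P : ∀ (M : Type u) [AddCommGroup M] [Module F M], Sesq σ M → Prop)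
    (h1 : ∀ (M : Type u) [AddCommGroup M] [Module F M] (B : Sesq σ M), P M B → P _ (prodForm B B))
    (c : ℕ → ℕ) (h3 : ∀ (M : Type u) [AddCommGroup M] [Module F M] [FiniteDimensional F M] (B : Sesq σ M), P M B →
      (Nat.card (Isom B)).factorization 2 = c (finrank F M)) (h4 : ∀ w, c (2 ^ (w + 2)) = 2 * c (2 ^ (w + 1)) + 1)
    {B : Sesq σ V} (hB : P V B) (hd : finrank F V = 2) {S : Sylow 2 (Isom B)} (hS : SylP S) (w : ℕ) :
    ∃ (M : Type u) (_ : AddCommGroup M) (_ : Module F M) (_ : FiniteDimensional F M) (B : Sesq σ M)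
      (S : Sylow 2 (Isom B)), P M B ∧ finrank F M = 2 ^ (w + 2) ∧ SylP S ∧ OddPron (dI B).ker := by
  have key : ∀ w (M : Type u) [AddCommGroup M] [Module F M] [FiniteDimensional F M] (B : Sesq σ M)
      (S : Sylow 2 (Isom B)), P M B → finrank F M = 2 ^ (w + 1) → SylP S →
      ∃ (M : Type u) (_ : AddCommGroup M) (_ : Module F M) (_ : FiniteDimensional F M) (B : Sesq σ M)
        (S : Sylow 2 (Isom B)), P M B ∧ finrank F M = 2 ^ (w + 2) ∧ SylP S ∧ OddPron (dI B).ker := by
    intro w M _ _ _ B S a1 a2 a3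
    have a4 : finrank F (M × M) = 2 ^ (w + 2) := by rw [finrank_prod, a2]; ring
    obtain ⟨S', a5, a6⟩ := a3.step h2 (a2 ▸ ⟨2 ^ w, by ring⟩) (by rw [h3 _ _ (h1 _ _ a1), h3 _ _ a1, a4, a2, h4])
    exact ⟨_, _, _, inferInstance, _, S', h1 _ _ a1, a4, a5, oddPron_of_strong S' a4 a6⟩
  induction w with
  | zero => exact key 0 V B S hB hd hS
  | succ w ih =>
    obtain ⟨M, _, _, _, B, S, a1, a2, a3, -⟩ := ih
    exact key _ M B S a1 a2 a3

theorem commutant_two (hd : finrank F V = 2) {D f : End F V} (hD : ∀ c : F, D ≠ c • 1) (h : Commute f D) :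
    ∃ a b : F, f = a • 1 + b • D := by
  obtain ⟨v, hv⟩ : ∃ v, LinearIndependent F ![v, D v] := by
    by_contra! h
    obtain ⟨c, hc⟩ := LinearMap.exists_eq_smul_id_of_forall_notLinearIndependent h
    exact hD c hc
  let b := basisOfLinearIndependentOfCardEqFinrank hv (by simp [hd])
  have h1 := b.sum_repr (f v)
  rw [Fin.sum_univ_two, coe_basisOfLinearIndependentOfCardEqFinrank] at h1
  refine ⟨b.repr (f v) 0, b.repr (f v) 1, b.ext fun i => ?_⟩
  rw [coe_basisOfLinearIndependentOfCardEqFinrank]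
  fin_cases i
  · exact h1.symm
  · change f (D v) = _
    rw [show f (D v) = D (f v) from congrArg (· v) h.eq]
    conv_lhs => rw [← h1]
    simp

theorem sylP_two (h2 : (2 : F) ≠ 0) (hd : finrank F V = 2) {B : Sesq σ V} (S : Sylow 2 (Isom B)) {D : End F V}
    {c : F} (hc : c ≠ 0) (h1 : D * D = c • 1) (hD : ∀ c : F, D ≠ c • 1)
    (hS : ∀ s ∈ S, Commute (s.1 : End F V) D ∨ (s.1 : End F V) * D = -(D * s.1))
    {δ δ' τ : Isom B} (d1 : δ ∈ S) (d2 : Commute (δ.1 : End F V) D) (d3 : ¬ Sc (δ * δ)) (e1 : δ' ∈ S)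
    (e2 : Commute (δ'.1 : End F V) D) (e3 : ¬ Sc δ') (e4 : dI B δ' = 1) (t1 : τ ∈ S) (t2 : dI B τ = 1)
    (t3 : (τ.1 : End F V) * D = -(D * τ.1)) : SylP S := by
  have D0 : ∀ {a b : F}, a • (1 : End F V) + b • D = 0 → b = 0 := fun {a b} h => by
    by_contra h0
    exact hD (-(b⁻¹ * a)) (smul_right_injective _ h0 (show b • D = b • _ by
      rw [smul_smul, mul_neg, mul_inv_cancel_left₀ h0, neg_smul]; exact eq_neg_of_add_eq_zero_right h))
  have sc : ∀ {t s : Isom B}, Commute (t.1 : End F V) D → (s.1 : End F V) * D = -(D * s.1) → t * s = s * t → Sc t :=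
    fun {t s} a1 a2 a3 => by
      obtain ⟨a, b, h⟩ := commutant_two hd hD a1
      replace a3 : (t.1 : End F V) * s.1 = s.1 * t.1 := congrArg (fun k : Isom B => (k.1 : End F V)) a3
      rw [h, add_mul, mul_add, mul_smul_comm, mul_smul_comm, a2, smul_mul_assoc, smul_mul_assoc, one_mul, mul_one,
        add_right_inj] at a3
      have a4 : (0 : F) • (1 : End F V) + (2 * b) • D = 0 := LinearMap.ext fun v => by
        have := congrArg (· (s.1.symm v)) a3
        simp only [LinearMap.smul_apply, End.mul_apply, LinearEquiv.coe_coe, LinearEquiv.apply_symm_apply,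
          LinearMap.neg_apply] at this
        simp only [zero_smul, zero_add, LinearMap.smul_apply, LinearMap.zero_apply]
        linear_combination (norm := module) this
      exact ⟨a, fun v => by simpa [(mul_eq_zero.1 (D0 a4)).resolve_left h2] using congrArg (· v) h⟩
  have ns : ∀ {t : Isom B}, Commute (t.1 : End F V) D → ¬ Sc t → ∃ a b : F, D = a • 1 + b • (t.1 : End F V) :=
    fun a1 a2 => commutant_two hd (fun c h => a2 ⟨c, fun v => congrArg (· v) h⟩) a1.symm
  refine ⟨fun t ht => sc ?_ t3 (ht τ t1 t2), fun x n hn x1 x2 => ?_, δ', e1, e4, e3⟩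
  · obtain ⟨a, b, h⟩ := ns e2 e3
    rw [h]
    exact ((Commute.one_right _).smul_right a).add_right (Commute.smul_right
      (congrArg (fun k : Isom B => (k.1 : End F V)) (ht δ' e1 e4)) b)
  have x0 : (x.1 : End F V) * (x⁻¹).1 = 1 := congrArg (fun k : Isom B => (k.1 : End F V)) (mul_inv_cancel x)
  have x0' : ((x⁻¹).1 : End F V) * x.1 = 1 := congrArg (fun k : Isom B => (k.1 : End F V)) (inv_mul_cancel x)
  have x3 : Commute (x.1 : End F V) D := by
    have a1 := (hS _ (x2 δ d1)).resolve_right fun h => d3 (Sc.conj x (conj_mul (a := δ) (b := x) (c := δ) ▸ sc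
      (t := x * δ * x⁻¹ * (x * δ * x⁻¹)) (s := x * δ * x⁻¹) (by
      change ((x * δ * x⁻¹).1 : End F V) * (x * δ * x⁻¹).1 * D = D * ((x * δ * x⁻¹).1 * (x * δ * x⁻¹).1)
      rw [mul_assoc, h, mul_neg, ← mul_assoc, h, neg_mul, neg_neg, mul_assoc]) h (mul_assoc _ _ _)))
    obtain ⟨a, b, h⟩ := ns d2 fun ⟨c, h⟩ => d3 ⟨c * c, fun v => (h _).trans (by
      change c • δ.1 v = _; rw [h, smul_smul])⟩
    obtain ⟨α, β, h'⟩ := commutant_two hd hD (f := x.1 * D * (x⁻¹).1) (by
      nth_rewrite 1 [h]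
      rw [mul_add, add_mul, mul_smul_comm, mul_smul_comm, smul_mul_assoc, smul_mul_assoc, mul_one, x0]
      exact ((Commute.one_left _).smul_left a).add_left (a1.smul_left b))
    have a2 : (x.1 * D * (x⁻¹).1) * (x.1 * D * (x⁻¹).1) = c • (1 : End F V) := by
      rw [mul_assoc, mul_assoc, mul_assoc (x.1 : End F V) D, ← mul_assoc ((x⁻¹).1 : End F V), x0', one_mul,
        ← mul_assoc D, h1, smul_mul_assoc, one_mul, mul_smul_comm, x0]
    have a3 : (α * α + β * β * c - c) • (1 : End F V) + (2 * α * β) • D = 0 := by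
      rw [h'] at a2
      simp only [mul_add, add_mul, smul_mul_assoc, mul_smul_comm, one_mul, mul_one, h1] at a2
      linear_combination (norm := module) a2
    have a4 : β ≠ 0 := by
      rintro rfl
      refine hD α ?_
      rw [← one_mul D, ← mul_one (1 * D), ← x0', mul_assoc, mul_assoc, ← mul_assoc D, ← mul_assoc (x.1 : End F V),
        ← mul_assoc (x.1 : End F V), h', zero_smul, add_zero, smul_mul_assoc, one_mul, mul_smul_comm]
    obtain rfl : α = 0 := by simpa [h2, a4] using D0 a3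
    have a5 : β * β = 1 := by
      have : Nontrivial V := (finrank_pos_iff (R := F)).1 (by omega)
      simpa [sub_eq_zero, hc] using a3
    rw [zero_smul, zero_add] at h'
    have a6 : (x.1 : End F V) * D = β • D * x.1 := by rw [← h', mul_assoc, x0', mul_one]
    refine commute_of_odd hn (isom_pow_eq_one.1 x1) ?_
    rw [Commute, SemiconjBy, sq, mul_assoc, a6, smul_mul_assoc, mul_smul_comm, ← mul_assoc, a6, smul_mul_assoc,
      smul_mul_assoc, smul_smul, a5, one_smul, mul_assoc]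
  have y1 : Commute x (τ * x⁻¹ * τ⁻¹) := by
    obtain ⟨a, b, h⟩ := commutant_two hd hD x3
    have a1 : Commute ((τ * x⁻¹ * τ⁻¹).1 : End F V) D := by
      have b1 : (τ.1 : End F V) * (τ⁻¹).1 = 1 := congrArg (fun k : Isom B => (k.1 : End F V)) (mul_inv_cancel τ)
      have b2 : ((τ⁻¹).1 : End F V) * τ.1 = 1 := congrArg (fun k : Isom B => (k.1 : End F V)) (inv_mul_cancel τ)
      have b3 : ((τ⁻¹).1 : End F V) * D = -(D * (τ⁻¹).1) := by
        rw [← one_mul (D * _), ← b2, mul_assoc, ← mul_assoc _ D, t3, neg_mul, mul_assoc, b1, mul_one, mul_neg, neg_neg]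
      have b4 : ((x⁻¹).1 : End F V) * D = D * (x⁻¹).1 := by
        rw [← one_mul (D * _), ← x0', mul_assoc, ← mul_assoc _ D, x3.eq, mul_assoc, x0, mul_one]
      change (τ.1 : End F V) * (x⁻¹).1 * (τ⁻¹).1 * D = D * ((τ.1 : End F V) * (x⁻¹).1 * (τ⁻¹).1)
      rw [mul_assoc, b3, mul_neg, mul_assoc, ← mul_assoc _ D, b4, ← mul_assoc, ← mul_assoc, t3, neg_mul, neg_mul,
        neg_neg, mul_assoc, mul_assoc, mul_assoc]
    refine Subtype.ext (LinearEquiv.toLinearMap_injective (show Commute (x.1 : End F V) _ from ?_))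
    rw [h]
    exact ((Commute.one_left _).smul_left a).add_left (a1.symm.smul_left b)
  refine sc x3 t3 (mul_inv_eq_one.1 (eq_one_of_odd S (n := n) ?_ hn ?_))
  · rw [_root_.mul_inv_rev, ← mul_assoc]
    exact mul_mem (x2 τ t1) (inv_mem t1)
  · rw [_root_.mul_inv_rev, show x * τ * (x⁻¹ * τ⁻¹) = x * (τ * x⁻¹ * τ⁻¹) by group, y1.mul_pow, conj_pow, inv_pow, x1]
    simp

end Cfsg.Agent.H5
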