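import Cfsg.Agent.H5.PronW

/-! Sylow `2`-subgroups in dimension two, and unitary groups of dimension a power of two. -/

set_option autoImplicit false

namespace Cfsg.Agent.H5

open Subgroup Function Module

universe u v w

variable {F : Type w} [Field F] {σ : F →+* F} {q : ℕ}
variable {V : Type u} [AddCommGroup V] [Module F V] [FiniteDimensional F V]

theorem sylP_of_torus [Finite F] (h2 : (2 : F) ≠ 0) (hd : finrank F V = 2) {B : Sesq σ V} {D : End F V}
    {c : F} (hc : c ≠ 0) (h1 : D * D = c • 1) (hD : ∀ c : F, D ≠ c • 1) {T : Type*} [CommGroup T]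
    {ι : T →* Isom B} (inj : Injective ι) (hι : ∀ t, Commute ((ι t).1 : End F V) D) {τ : Isom B} (t1 : τ * τ = 1)
    (t2 : (τ.1 : End F V) * D = -(D * τ.1)) (t3 : ∀ t, ∃ t', τ * ι t * τ = ι t')
    (h3 : (Nat.card (Isom B)).factorization 2 = (Nat.card T).factorization 2 + 1) {δ δ' ε : T} {k : ℕ}
    (d1 : δ ^ 2 ^ k = 1) (d2 : ¬ Sc (ι δ * ι δ)) (e1 : δ' ^ 2 ^ k = 1) (e2 : ¬ Sc (ι δ')) (e3 : dI B (ι δ') = 1)
    (f1 : ε ^ 2 ^ k = 1) (f2 : dI B (ι ε * τ) = 1) : ∃ S : Sylow 2 (Isom B), SylP S := by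
  have := finite_isom B
  have := Finite.of_injective ι inj
  obtain ⟨T₀⟩ : Nonempty (Sylow 2 T) := inferInstance
  have a1 : ∀ {t : T} {k}, t ^ 2 ^ k = 1 → ι t ∈ T₀.1.map ι := fun h =>
    mem_map_of_mem ι (mem_sylow_of_central T₀ (mem_center_iff.2 fun _ => mul_comm _ _) h)
  have a2 : ∀ t, ((ι t * τ).1 : End F V) * D = -(D * (ι t * τ).1) := fun t => by
    change ((ι t).1 : End F V) * τ.1 * D = -(D * ((ι t).1 * τ.1))
    rw [mul_assoc, t2, mul_neg, ← mul_assoc, (hι t).eq, mul_assoc]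
  obtain ⟨S, s1, s2, s3⟩ := exists_sylow_two (P := T₀.1.map ι) t1 (by
    rintro _ ⟨t, ht, rfl⟩
    obtain ⟨t', e⟩ := t3 t
    obtain ⟨k, hk⟩ := T₀.2 ⟨t, ht⟩
    refine e ▸ a1 (k := k) (inj ?_)
    rw [map_pow, ← e, show τ * ι t * τ = τ * ι t * τ⁻¹ by rw [inv_eq_of_mul_eq_one_right t1], conj_pow, ← map_pow,
      show t ^ 2 ^ k = 1 from congrArg Subtype.val hk, map_one, mul_one, mul_inv_cancel])
    (by rw [card_map_of_injective inj, T₀.card_eq_multiplicity, h3, pow_succ]) (by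
      rintro ⟨t, -, rfl⟩
      refine hD 0 (LinearMap.ext fun v => ?_)
      have := congrArg (· ((ι t).1.symm v)) ((hι t).symm.eq.trans t2)
      simp only [End.mul_apply, LinearEquiv.coe_coe, LinearEquiv.apply_symm_apply, LinearMap.neg_apply] at this
      simpa [h2] using show (2 : F) • D v = 0 by rw [two_smul]; exact eq_neg_iff_add_eq_zero.1 this)
  refine ⟨S, sylP_two h2 hd S hc h1 hD (fun s hs => (s3 s hs).imp ?_ ?_) (s2 (a1 d1)) (hι _) d2 (s2 (a1 e1)) (hι _) e2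
    e3 (mul_mem (s2 (a1 f1)) s1) f2 (a2 _)⟩
  · rintro ⟨t, -, rfl⟩; exact hι t
  · rintro ⟨t, -, e⟩
    rw [show s = ι t * τ by rw [e, mul_assoc, t1, mul_one]]
    exact a2 t

/-- Diagonal automorphisms of the plane. -/
def dg (F : Type w) [Field F] : Fˣ × Fˣ →* ((F × F) ≃ₗ[F] (F × F)) where
  toFun a := (LinearEquiv.smulOfUnit a.1).prodCongr (LinearEquiv.smulOfUnit a.2)
  map_one' := LinearEquiv.ext fun v => by simp [LinearEquiv.smulOfUnit]
  map_mul' a b := LinearEquiv.ext fun v => by simp [LinearEquiv.smulOfUnit, mul_smul]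

theorem dg_apply (a : Fˣ × Fˣ) (v : F × F) : dg F a v = (a.1 * v.1, a.2 * v.2) := rfl

theorem sylP_split [Finite F] (h2 : (2 : F) ≠ 0) {B : Sesq σ (F × F)} (hτ : LinearEquiv.prodComm F F F ∈ Isom B)
    (h3 : (Nat.card (Isom B)).factorization 2 = (Nat.card ((Isom B).comap (dg F))).factorization 2 + 1)
    {δ δ' ε : Fˣ × Fˣ} {k : ℕ} (d0 : dg F δ ∈ Isom B) (d1 : δ ^ 2 ^ k = 1) (d2 : δ.1 * δ.1 ≠ δ.2 * δ.2)
    (e0 : dg F δ' ∈ Isom B) (e1 : δ' ^ 2 ^ k = 1) (e2 : δ'.1 ≠ δ'.2) (e3 : δ'.1 * δ'.2 = 1)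
    (f0 : dg F ε ∈ Isom B) (f1 : ε ^ 2 ^ k = 1) (f2 : ε.1 * ε.2 = -1) : ∃ S : Sylow 2 (Isom B), SylP S := by
  have a1 : ∀ t : (Isom B).comap (dg F), Sc ((dg F).subgroupComap _ t) → t.1.1 = t.1.2 := fun t ⟨c, h⟩ => by
    have := h (1, 1)
    change dg F t _ = _ at this
    simp only [dg_apply, mul_one, Prod.smul_mk, smul_eq_mul, Prod.mk.injEq] at this
    exact Units.ext (this.1.trans this.2.symm)
  have a2 : ∀ t : (Isom B).comap (dg F), dI B ((dg F).subgroupComap _ t) = t.1.1 * t.1.2 := fun t => by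
    refine (LinearMap.det_prodMap ((t.1.1 : F) • (1 : End F F)) ((t.1.2 : F) • (1 : End F F))).trans ?_
    simp
  have a3 : dI B ⟨_, hτ⟩ = -1 := (dI_swapI h2 (0 : Sesq σ F)).trans (by simp)
  refine sylP_of_torus h2 (by simp) (D := LinearMap.prodMap 1 (-1)) (c := 1) one_ne_zero (by ext <;> simp)
    (fun c h => h2 ?_) (ι := (dg F).subgroupComap (Isom B)) (fun a b h => ?_) (fun t => ?_) (τ := ⟨_, hτ⟩) rfl
    (by ext <;> simp) (fun t => ⟨⟨t.1.swap, mul_mem (mul_mem hτ t.2) hτ⟩, rfl⟩) h3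
    (δ := ⟨δ, d0⟩) (δ' := ⟨δ', e0⟩) (ε := ⟨ε, f0⟩) (k := k) (Subtype.ext d1)
    (fun h => d2 (a1 (⟨δ, d0⟩ * ⟨δ, d0⟩) (by rwa [map_mul]))) (Subtype.ext e1) (fun h => e2 (a1 _ h))
    (by rw [a2, ← Units.val_mul, e3, Units.val_one]) (Subtype.ext f1) (by rw [map_mul, a2, a3, ← Units.val_mul, f2]; simp)
  · have := congrArg (· (1, 1)) h
    simp only [LinearMap.prodMap_apply, End.one_apply, LinearMap.neg_apply, LinearMap.smul_apply, Prod.smul_mk,
      smul_eq_mul, mul_one, Prod.mk.injEq] at this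
    linear_combination this.1 - this.2
  · have := congrArg (fun g : Isom B => g.1 (1, 1)) h
    change dg F a _ = dg F b _ at this
    simp only [dg_apply, mul_one, Prod.mk.injEq] at this
    exact Subtype.ext (Prod.ext (Units.ext this.1) (Units.ext this.2))
  · refine LinearMap.ext fun v => ?_
    change dg F t (v.1, -v.2) = ((dg F t v).1, -(dg F t v).2)
    simp [dg_apply]

theorem sylP_split' [Finite F] (h2 : (2 : F) ≠ 0) {B : Sesq σ (F × F)} (hτ : LinearEquiv.prodComm F F F ∈ Isom B)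
    (h3 : (Nat.card (Isom B)).factorization 2 = (Nat.card ((Isom B).comap (dg F))).factorization 2 + 1)
    {i : Fˣ} (hi : i * i = -1) (h4 : dg F (i, 1) ∈ Isom B) : ∃ S : Sylow 2 (Isom B), SylP S := by
  have a1 : (-1 : Fˣ) ≠ 1 := fun h => h2 (by
    have : (-1 : F) = 1 := congrArg Units.val h
    linear_combination -this)
  have a2 : (1, i) ∈ (Isom B).comap (dg F) := mul_mem (mul_mem hτ h4) hτ
  have a3 : i ^ 4 = 1 := by rw [pow_mul i 2 2, sq i, hi, neg_one_sq]
  exact sylP_split h2 hτ h3 (k := 2) h4 (by simp [a3]) (by simpa [hi] using a1)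
    (δ' := (i, 1) * (1, i)⁻¹) (mul_mem (show (i, 1) ∈ (Isom B).comap (dg F) from h4) (inv_mem a2)) (by simp [a3])
    (by simpa [eq_inv_iff_mul_eq_one, hi] using a1) (by simp) (ε := (1, i) * (1, i)) (mul_mem a2 a2) (by simp [a3, mul_pow])
    (by simp [hi])

theorem val_two_step {q : ℕ} (hq : Odd q) (h1 : 1 < q) {u : ℕ → ℕ} {a : ℕ} (h0 : ∀ k, u (2 * k) ≠ 0)
    (h2 : ∀ k, padicValNat 2 (u (2 * k)) = a) (h3 : ∀ k, u (2 * k + 1) = q ^ (2 * (k + 1)) - 1) :
    (∏ i ∈ Finset.range 2, q ^ i * u i).factorization 2 = a + padicValNat 2 (q ^ 2 - 1) ∧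
      ∀ w, (∏ i ∈ Finset.range (2 ^ (w + 2)), q ^ i * u i).factorization 2 =
        2 * (∏ i ∈ Finset.range (2 ^ (w + 1)), q ^ i * u i).factorization 2 + 1 := by
  simp only [Nat.factorization_def _ Nat.prime_two]
  refine ⟨by simpa using (val_two_prod hq h1 h0 h2 h3 1).2, fun w => ?_⟩
  have a1 := val_two_factorial w
  have a2 := val_two_factorial (w + 1)
  rw [pow_succ' 2 (w + 1), (val_two_prod hq h1 h0 h2 h3 _).2, pow_succ' 2 w, (val_two_prod hq h1 h0 h2 h3 _).2,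
    mul_assoc] at *
  omega

theorem val_two_sq_sub {q : ℕ} (h1 : 1 < q) :
    padicValNat 2 (q ^ 2 - 1) = padicValNat 2 (q + 1) + padicValNat 2 (q - 1) := by
  rw [← padicValNat.mul (by omega) (by omega), ← Nat.sq_sub_sq, one_pow]

theorem val_two_eq_one {n : ℕ} (h : n % 4 = 2) : padicValNat 2 n = 1 := by
  rw [show n = 2 * (2 * (n / 4) + 1) by omega, padicValNat.mul two_ne_zero (by omega),
    padicValNat.eq_zero_of_not_dvd (n := 2 * _ + 1) (by omega)]
  simp

/-- The standard hermitian form on the line. -/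
def oneU (σ : F →+* F) : Sesq σ F := LinearMap.mk₂'ₛₗ (RingHom.id F) σ (fun x y => x * σ y)
  (fun _ _ _ => add_mul _ _ _) (fun _ _ _ => mul_assoc _ _ _) (fun _ _ _ => by simp [mul_add])
  (fun _ _ _ => by simp [mul_left_comm])

theorem oneU_apply (x y : F) : oneU σ x y = x * σ y := rfl

theorem UF.val_two [Fintype F] (h : UF σ q) (hq : Odd q) :
    (∏ i ∈ Finset.range 2, q ^ i * uq q (i + 1)).factorization 2 = padicValNat 2 (q + 1) + padicValNat 2 (q ^ 2 - 1) ∧
      ∀ w, (∏ i ∈ Finset.range (2 ^ (w + 2)), q ^ i * uq q (i + 1)).factorization 2 =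
        2 * (∏ i ∈ Finset.range (2 ^ (w + 1)), q ^ i * uq q (i + 1)).factorization 2 + 1 :=
  val_two_step hq h.two_le (u := fun i => uq q (i + 1)) (fun k => by simp [uq])
    (fun k => by simpa [uq] using val_two_odd_pow_add hq k) fun k => by
      simp [uq, mul_add, add_assoc, parity_simps]

theorem UF.exists_sylP [Fintype F] (h : UF σ q) (hq : Odd q) (h2 : (2 : F) ≠ 0) :
    ∃ (B : Sesq σ (F × F)) (S : Sylow 2 (Isom B)), IsEps B 1 ∧ SylP S := by
  have a0 : IsEps (oneU σ) 1 := ⟨h.invol, fun u v => by simp [oneU_apply, h.invol, mul_comm],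
    fun u hu => by simpa [oneU_apply] using hu 1⟩
  have a1 : ∀ {B : Sesq σ (F × F)}, IsEps B 1 → (Nat.card (Isom B)).factorization 2 =
      padicValNat 2 (q + 1) + (padicValNat 2 (q + 1) + padicValNat 2 (q - 1)) := fun hB => by
    rw [h.card_Isom hB, ← val_two_sq_sub h.two_le, ← (h.val_two hq).1]; simp
  have a2 := h.two_le
  obtain a3 | a3 : q % 4 = 1 ∨ q % 4 = 3 := by have := Nat.odd_iff.1 hq; omega
  · let B := (prodForm (oneU σ) (oneU σ)).comp (LinearEquiv.prodComm F F F : F × F →ₗ[F] F × F)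
    have b0 : ∀ x y, B x y = x.2 * σ y.1 + x.1 * σ y.2 := fun _ _ => rfl
    have b1 : IsEps B 1 := ⟨h.invol, fun u v => by simp [b0, h.invol, mul_comm, add_comm],
      fun u hu => Prod.ext (by simpa [b0] using hu (0, 1)) (by simpa [b0] using hu (1, 0))⟩
    have b2 : ∀ {a : Fˣ × Fˣ}, dg F a ∈ Isom B ↔ a.2 = (Units.map σ.toMonoidHom a.1)⁻¹ := fun {a} =>
      ⟨fun h => eq_inv_of_mul_eq_one_left (Units.ext (by simpa [b0, dg_apply] using h (0, 1) (1, 0))), fun e u v => by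
        have e1 : (a.2 : F) * σ a.1 = 1 := congrArg Units.val (eq_inv_iff_mul_eq_one.1 e)
        have e2 := congrArg σ e1
        rw [map_mul, h.invol, map_one] at e2
        simp only [b0, dg_apply, map_mul]
        linear_combination u.2 * σ v.1 * e1 + u.1 * σ v.2 * e2⟩
    obtain ⟨a, b3, b4⟩ := h.exists_trace_zero
    obtain ⟨k, n, b5, b6⟩ := Nat.exists_eq_two_pow_mul_odd (Nat.card_pos (α := Fˣ)).ne'
    let e := Units.mk0 a b3 ^ n
    have b7 : Units.map σ.toMonoidHom e = -e := Units.ext (by simp [e, b4, b5.neg_pow])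
    have b8 : e ^ 2 ^ (k + 1) = 1 := by
      rw [← pow_mul, pow_succ, mul_comm, mul_right_comm, ← b6, pow_mul, pow_card_eq_one', one_pow]
    have b9 : e * e ≠ (-e)⁻¹ * (-e)⁻¹ := fun h' => h2 (by
      have c1 : (e : F) ^ 4 = 1 := by
        have := congrArg Units.val h'
        simp only [Units.val_mul, inv_neg, mul_neg, neg_mul, neg_neg, Units.val_inv_eq_inv_val] at this
        field_simp at this
        exact this
      have c2 : σ e = -e := congrArg Units.val b7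
      rw [h.apply, ← Nat.div_add_mod q 4, a3, pow_succ, pow_mul, c1, one_pow, one_mul] at c2
      exact (mul_eq_zero.1 (show 2 * (e : F) = 0 by linear_combination c2)).resolve_right e.ne_zero)
    have b10 : (e, (-e)⁻¹) ^ 2 ^ (k + 1) = 1 := by
      rw [Prod.pow_mk, inv_pow, (even_two.pow_of_ne_zero k.add_one_ne_zero).neg_pow, b8]; simp
    obtain ⟨S, hS⟩ := sylP_split h2 (B := B) (fun u v => by simp [b0, add_comm]) (by
        rw [a1 b1, Nat.card_congr (β := Fˣ) ⟨fun t => t.1.1, fun a => ⟨(a, (Units.map σ.toMonoidHom a)⁻¹), b2.2 rfl⟩,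
          fun t => Subtype.ext (Prod.ext rfl (b2.1 t.2).symm), fun _ => rfl⟩, h.card_units,
          Nat.factorization_def _ Nat.prime_two, padicValNat.mul (by omega) (by omega),
          val_two_eq_one (n := q + 1) (by omega), add_comm])
      (δ' := (e, (-e)⁻¹) * (e, (-e)⁻¹)) (b2.2 (by rw [b7])) b10 b9
      (by rw [map_mul]; exact mul_mem (b2.2 (by rw [b7])) (b2.2 (by rw [b7]))) (by rw [mul_pow, b10, one_mul]) b9
      (by simp) (b2.2 (by rw [b7])) b10 (by simp)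
    exact ⟨B, S, b1, hS⟩
  · let B := prodForm (oneU σ) (oneU σ)
    have b0 : ∀ x y, B x y = x.1 * σ y.1 + x.2 * σ y.2 := fun _ _ => rfl
    have b2 : ∀ {a : Fˣ × Fˣ}, dg F a ∈ Isom B ↔ (a.1 : F) * σ a.1 = 1 ∧ (a.2 : F) * σ a.2 = 1 := fun {a} =>
      ⟨fun h => ⟨by simpa [b0, dg_apply] using h (1, 0) (1, 0), by simpa [b0, dg_apply] using h (0, 1) (0, 1)⟩,
        fun e u v => by
          simp only [b0, dg_apply, map_mul]
          linear_combination u.1 * σ v.1 * e.1 + u.2 * σ v.2 * e.2⟩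
    obtain ⟨i, hi⟩ := FiniteField.isSquare_neg_one_iff.2 (show Fintype.card F % 4 ≠ 3 by
      rw [h.card, Nat.pow_mod, a3]; decide)
    have b3 : i ≠ 0 := by rintro rfl; simp at hi
    obtain ⟨S, hS⟩ := sylP_split' h2 (B := B) (fun u v => by simp [b0, add_comm]) (by
        rw [a1 (a0.prod a0), Nat.card_congr (β := {x : F // x * σ x = 1} × {x : F // x * σ x = 1})
          ⟨fun t => (⟨_, (b2.1 t.2).1⟩, ⟨_, (b2.1 t.2).2⟩), fun a => ⟨(Units.mkOfMulEqOne _ _ a.1.2,
            Units.mkOfMulEqOne _ _ a.2.2), b2.2 ⟨a.1.2, a.2.2⟩⟩, fun t => by ext <;> rfl, fun _ => rfl⟩,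
          Nat.card_prod, h.card_norm_one, Nat.factorization_def _ Nat.prime_two,
          padicValNat.mul (by omega) (by omega), val_two_eq_one (n := q - 1) (by omega), add_assoc])
      (i := Units.mk0 i b3) (Units.ext hi.symm) (b2.2 ⟨by
        change i * σ i = 1
        rw [h.norm_eq, show q + 1 = 2 * (2 * (q / 4 + 1)) by omega, pow_mul, sq, ← hi, pow_mul, neg_one_sq, one_pow],
        by simp⟩)
    exact ⟨B, S, a0.prod a0, hS⟩

theorem UF.oddPron_psu_two_pow [Fintype F] (h : UF σ q) (w : ℕ) : OddPron (Cfsg.PSU (2 ^ (w + 2)) F q) := by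
  by_cases h2 : (2 : F) = 0
  · have : CharP F 2 := (CharP.charP_iff_prime_eq_zero Nat.prime_two).2 h2
    obtain ⟨ω, hω⟩ := h.exists_trace_one
    exact h.oddPron_psu (isEps_antiU (n := 2 ^ (w + 2)) h.invol) (by simp) (oddPron_su_even h.invol hω)
  have hq : Odd q := by
    have := FiniteField.odd_card_of_char_ne_two (F := F) fun e => h2 (by exact_mod_cast e ▸ ringChar.Nat.cast_ringChar)
    rw [h.card, ← Nat.odd_iff, Nat.odd_pow_iff two_ne_zero] at this
    exact this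
  obtain ⟨B, S, a1, a2⟩ := h.exists_sylP hq h2
  obtain ⟨M, _, _, _, B, -, b1, b2, -, b3⟩ := exists_strong h2 (fun _ _ _ B => IsEps B 1) (fun _ _ _ _ h => h.prod h)
    (fun n => (∏ i ∈ Finset.range n, q ^ i * uq q (i + 1)).factorization 2) (fun _ _ _ _ _ h' => by rw [h.card_Isom h'])
    (h.val_two hq).2 a1 (by simp) a2 w
  exact h.oddPron_psu b1 b2 b3

end Cfsg.Agent.H5
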