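import Cfsg.Agent.H5.PronX
import Cfsg.Agent.H2.Commutant

/-! Pronormality of subgroups of odd index in groups with dihedral involution centralisers. -/

set_option autoImplicit false

namespace Cfsg.Agent.H5

open Subgroup Function

variable {G : Type*} [Group G]

/-- An involution. -/
def Inv2 (t : G) : Prop := t ≠ 1 ∧ t * t = 1

theorem Inv2.conj {t : G} (h : Inv2 t) (y : G) : Inv2 (y * t * y⁻¹) :=
  ⟨fun e => h.1 (conj_eq_one_iff.1 e), by rw [conj_mul, h.2, mul_one, mul_inv_cancel]⟩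

/-- A system of tori attached to the involutions. -/
structure Tori (T : G → Subgroup G) : Prop where
  self : ∀ {t}, Inv2 t → t ∈ T t
  le : ∀ {t x}, x ∈ T t → Commute x t
  inv : ∀ {t x}, Inv2 t → Commute x t → x ∉ T t → x * x = 1
  two : ∀ {t x y}, Inv2 t → Commute x t → Commute y t → x ∉ T t → y ∉ T t → x * y ∈ T t
  ti : ∀ {t u x}, Inv2 t → Inv2 u → x ≠ 1 → x ∈ T t → x ∈ T u → t = u
  conj : ∀ {t x} (y), x ∈ T t → y * x * y⁻¹ ∈ T (y * t * y⁻¹)

variable {T : G → Subgroup G}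

theorem Tori.notMem (h : Tori T) {t u : G} (ht : Inv2 t) (hu : Inv2 u) (e : u ≠ t) : u ∉ T t :=
  fun h' => e (h.ti hu ht hu.1 (h.self hu) h')

theorem Tori.four (h : Tori T) {t u x : G} (ht : Inv2 t) (hu : Inv2 u) (e : u ≠ t) (c : Commute u t)
    (h1 : Commute x t) (h2 : Commute x u) : x = 1 ∨ x = t ∨ x = u ∨ x = u * t := by
  have k1 : ∀ {x}, x ∈ T t → Commute x u → x = 1 ∨ x = t := fun {x} a b => by
    by_cases a1 : x ∈ T u
    · exact Or.inl (by_contra fun a2 => e (h.ti hu ht a2 a1 a))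
    · refine Or.inr (by_contra fun a2 => e (h.ti hu ht (x := x * t) (fun a3 => a2 ?_)
        (h.two hu b c.symm a1 (h.notMem hu ht e.symm)) (mul_mem a (h.self ht))))
      rw [← mul_one x, ← ht.2, ← mul_assoc, a3, one_mul]
  by_cases a : x ∈ T t
  · exact (k1 a h2).imp_right Or.inl
  · refine Or.inr (Or.inr ((k1 (h.two ht c h1 (h.notMem ht hu e) a) ((Commute.refl u).mul_left h2)).imp
      (fun a1 => ?_) fun a1 => ?_)) <;> rw [← one_mul x, ← hu.2, mul_assoc, a1]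
    rw [mul_one]

theorem Tori.comap (h : Tori T) (K : Subgroup G) : Tori fun t : K => (T t).subgroupOf K where
  self ht := h.self ⟨fun e => ht.1 (Subtype.ext e), congrArg Subtype.val ht.2⟩
  le hx := Subtype.ext (h.le hx)
  inv ht a b := Subtype.ext (h.inv ⟨fun e => ht.1 (Subtype.ext e), congrArg Subtype.val ht.2⟩
    (congrArg Subtype.val a) b)
  two ht a b c d := h.two ⟨fun e => ht.1 (Subtype.ext e), congrArg Subtype.val ht.2⟩
    (congrArg Subtype.val a) (congrArg Subtype.val b) c d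
  ti ht hu a b c := Subtype.ext (h.ti ⟨fun e => ht.1 (Subtype.ext e), congrArg Subtype.val ht.2⟩
    ⟨fun e => hu.1 (Subtype.ext e), congrArg Subtype.val hu.2⟩ (fun e => a (Subtype.ext e)) b c)
  conj y hx := h.conj (y : G) hx

theorem Tori.count [Finite G] (h : Tori T) {a : G} (ha : Inv2 a) {k : ℕ} (hk : k ≤ Nat.card (T a)) :
    Nat.card G * k ≤ Nat.card G + {x | x ≠ 1 ∧ ∃ y, y * x * y⁻¹ ∈ T a}.ncard * (2 * k) := by
  have h1 : ∀ t, ∀ x ∈ T a, x ≠ 1 → t * x * t⁻¹ ∈ T a → t * a * t⁻¹ = a := fun t x a1 a2 a3 =>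
    h.ti (ha.conj t) ha (_root_.mt conj_eq_one_iff.1 a2) (h.conj t a1) a3
  have h2 := H2.card_conj_TI (T a) fun t x a1 a2 a3 =>
    mem_normalizer_fintype fun y hy => h1 t x a1 a2 a3 ▸ h.conj t hy
  have h3 : ∀ t ∈ normalizer (T a : Set G), Commute t a := fun t ht =>
    mul_inv_eq_iff_eq_mul.1 (h1 t a (h.self ha) ha.1 ((mem_normalizer_iff.1 ht a).1 (h.self ha)))
  have h4 : (T a).relIndex (normalizer (T a : Set G)) ∣ 2 := relIndex_dvd_two_iff.2 (by
    by_cases e : ∀ b ∈ normalizer (T a : Set G), b ∈ T a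
    · exact ⟨1, one_mem _, fun b hb => Or.inr (e b hb)⟩
    · push Not at e
      obtain ⟨c, c1, c2⟩ := e
      exact ⟨c, c1, fun b hb => or_iff_not_imp_right.2 fun e => h.two ha (h3 b hb) (h3 c c1) e c2⟩)
  have h5 := ((T a).subgroupOf (normalizer (T a : Set G))).card_mul_index
  rw [Nat.card_congr (subgroupOfEquivOfLe le_normalizer).toEquiv] at h5
  have h6 := Nat.mul_le_mul_left (Nat.card (T a)) (Nat.le_of_dvd two_pos h4)
  rw [relIndex, h5] at h6
  change {x | x ≠ 1 ∧ ∃ y, y * x * y⁻¹ ∈ T a}.ncard * _ = _ at h2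
  obtain ⟨m, hm⟩ := Nat.exists_eq_add_one_of_ne_zero (Nat.card_pos (α := T a)).ne'
  rw [hm] at h2 h6 hk
  refine Nat.le_of_mul_le_mul_right ?_ m.succ_pos
  have := Nat.mul_le_mul_left (k * {x | x ≠ 1 ∧ ∃ y, y * x * y⁻¹ ∈ T a}.ncard) h6
  rw [mul_assoc, h2] at this
  have := Nat.mul_le_mul_left (Nat.card G) hk
  simp only [Nat.succ_eq_add_one, Nat.add_sub_cancel] at *
  nlinarith

theorem Tori.three [Finite G] (h : Tori T) {a b c x y : G} (ha : Inv2 a) (hb : Inv2 b) (hc : Inv2 c)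
    (h1 : ¬ IsConj a b) (h2 : ¬ IsConj a c) (h3 : ¬ IsConj b c) (x1 : x ∈ T a) (x2 : x ≠ 1) (x3 : x ≠ a)
    (y1 : y ∈ T b) (y2 : y ≠ 1) (y3 : y ≠ b) : False := by
  have k1 : ∀ {a}, Inv2 a → 2 ∣ Nat.card (T a) := fun ha => by
    rw [← orderOf_eq_prime ((sq _).trans ha.2) ha.1]; exact (T _).orderOf_dvd_natCard (h.self ha)
  have k2 : ∀ {a x}, Inv2 a → x ∈ T a → x ≠ 1 → x ≠ a → 4 ≤ Nat.card (T a) := fun {a x} ha x1 x2 x3 => by
    have := (Set.two_lt_ncard (s := (T a : Set G))).2 ⟨1, one_mem _, a, h.self ha, x, x1, ha.1.symm, x2.symm, x3.symm⟩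
    have := k1 ha
    change 2 < Nat.card (T a) at *
    omega
  have k3 : ∀ {a b}, Inv2 a → Inv2 b → ¬ IsConj a b →
      Disjoint {x | x ≠ 1 ∧ ∃ y, y * x * y⁻¹ ∈ T a} {x | x ≠ 1 ∧ ∃ y, y * x * y⁻¹ ∈ T b} := fun ha hb e =>
    Set.disjoint_left.2 fun x ⟨x1, y, x2⟩ ⟨_, z, x3⟩ => e (isConj_iff.2 ⟨z * y⁻¹, h.ti (ha.conj _) hb
      (_root_.mt conj_eq_one_iff.1 x1) (by simpa [mul_assoc] using h.conj (z * y⁻¹) x2) x3⟩)
  have a1 := h.count ha (k2 ha x1 x2 x3)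
  have a2 := h.count hb (k2 hb y1 y2 y3)
  have a3 := h.count hc (Nat.le_of_dvd Nat.card_pos (k1 hc))
  have a4 := Set.ncard_lt_card (s := {x | x ≠ 1 ∧ ∃ y, y * x * y⁻¹ ∈ T a} ∪ {x | x ≠ 1 ∧ ∃ y, y * x * y⁻¹ ∈ T b} ∪
    {x | x ≠ 1 ∧ ∃ y, y * x * y⁻¹ ∈ T c}) fun e => by simpa using Set.eq_univ_iff_forall.1 e 1
  rw [Set.ncard_union_eq (Set.disjoint_union_left.2 ⟨k3 ha hc h2, k3 hb hc h3⟩), Set.ncard_union_eq (k3 ha hb h1)] at a4
  omega

theorem exists_inv2_comm [Finite G] {u b : G} (hu : Inv2 u) (hb : Inv2 b) (H : Subgroup G) (h1 : u ∈ H) (h2 : b ∈ H)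
    (h : ∀ y ∈ H, y * b * y⁻¹ ≠ u) : ∃ w ∈ H, Inv2 w ∧ Commute w u ∧ Commute w b := by
  have a0 := inv_eq_of_mul_eq_one_right hb.2
  have a1 : ∀ k : ℕ, b * ((u * b) ^ k)⁻¹ = (u * b) ^ k * b := fun k => by
    rw [← inv_pow]
    exact (show SemiconjBy b (u * b)⁻¹ (u * b) by
      rw [SemiconjBy, _root_.mul_inv_rev, a0, inv_eq_of_mul_eq_one_right hu.2, ← mul_assoc, mul_assoc u, hb.2, one_mul,
        mul_one]).pow_right k
  have a2 := pow_orderOf_eq_one (u * b)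
  obtain ⟨k, hk⟩ | ⟨k, hk⟩ := (orderOf (u * b)).even_or_odd
  · rw [hk, pow_add] at a2
    have a3 : Commute ((u * b) ^ k) b := by rw [Commute, SemiconjBy, ← a1, inv_eq_of_mul_eq_one_right a2]
    have := orderOf_pos (u * b)
    refine ⟨_, pow_mem (mul_mem h1 h2) k, ⟨pow_ne_one_of_lt_orderOf (by omega) (by omega), a2⟩, ?_, a3⟩
    simpa using ((Commute.refl (u * b)).pow_left k).mul_right a3.inv_right
  · refine absurd ?_ (h _ (pow_mem (mul_mem h1 h2) (k + 1)))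
    rw [mul_assoc, a1, ← mul_assoc, ← pow_add, show k + 1 + (k + 1) = orderOf (u * b) + 1 by omega, pow_succ, a2,
      one_mul, mul_assoc, hb.2, mul_one]

theorem Tori.oddPron [Finite G] (h : Tori T) {i j : G} (hi : Inv2 i) (hj : Inv2 j) (h1 : i ≠ j) (h2 : Commute i j) :
    OddPron G := by
  obtain ⟨S, hS⟩ := (show IsPGroup 2 (zpowers i ⊔ zpowers j :) from IsPGroup.to_sup_of_normal_right'
    (IsPGroup.of_card (n := 1) (by rw [Nat.card_zpowers, orderOf_eq_prime ((sq _).trans hi.2) hi.1, pow_one]))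
    (IsPGroup.of_card (n := 1) (by rw [Nat.card_zpowers, orderOf_eq_prime ((sq _).trans hj.2) hj.1, pow_one]))
    (zpowers_le.2 (mem_normalizer_fintype (by
      rintro _ ⟨k, rfl⟩; simp [(h2.zpow_right k).eq])))).exists_le_sylow
  have i1 : i ∈ S := hS (mem_sup_left (mem_zpowers i))
  have j1 : j ∈ S := hS (mem_sup_right (mem_zpowers j))
  refine oddPron_of_sylow S fun H hH => pronormal_of_sylow S hH fun g hg => ?_
  by_cases h0 : g ∈ H ⊔ H.map (MulAut.conj g).toMonoidHom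
  · exact ⟨g, h0, rfl⟩
  have n1 : ∀ {g : G}, g ∈ normalizer ((S : Subgroup G) : Set G) → g * g ∈ S → g ∈ S := fun {g} a b => by
    obtain ⟨k, hk⟩ := S.2 ⟨_, b⟩
    refine ((show IsPGroup 2 (zpowers g) from ?_).inf_normalizer_sylow S).le ⟨mem_zpowers g, a⟩ |>.2
    refine IsPGroup.iff_card.2 ?_
    rw [Nat.card_zpowers]
    exact ((Nat.dvd_prime_pow Nat.prime_two).1 (orderOf_dvd_of_pow_eq_one (n := 2 ^ (k + 1))
      (by rw [pow_succ', pow_mul, sq]; exact congrArg Subtype.val hk))).imp fun _ => And.right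
  have n2 : ∀ {t g : G}, Inv2 t → (∀ s ∈ S, Commute s t) → g ∈ normalizer ((S : Subgroup G) : Set G) →
      Commute g t → g ∈ S := fun {t g} a b c d => by
    obtain ⟨τ, t1, t2⟩ : ∃ τ ∈ S, τ ∉ T t := by
      by_contra! e
      exact h1 ((h.ti hi a hi.1 (h.self hi) (e _ i1)).trans (h.ti hj a hj.1 (h.self hj) (e _ j1)).symm)
    have k : ∀ {g}, g ∈ normalizer ((S : Subgroup G) : Set G) → g ∈ T t → g ∈ S := fun {g} c d => n1 c (by
      have e2 := h.inv a ((h.le d).mul_left (b τ t1)) fun e => t2 ((mul_mem_cancel_left d).1 e)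
      have := mul_mem ((mem_normalizer_iff.1 c τ).1 t1) (inv_mem t1)
      rwa [show g * τ * g⁻¹ * τ⁻¹ = g * (τ * τ) * (g * τ * (g * τ))⁻¹ * g by group, e2, h.inv a (b τ t1) t2, inv_one,
        mul_one, mul_one] at this)
    by_cases e : g ∈ T t
    · exact k c e
    · exact (mul_mem_cancel_right t1).1 (k (mul_mem c (le_normalizer t1)) (h.two a d (b τ t1) e t2))
  have g0 : g ∉ S := fun e => h0 (mem_sup_left (hH e))
  have g1 : ∀ {s}, s ∈ S → g * s * g⁻¹ ∈ S := fun e => (mem_normalizer_iff.1 hg _).1 e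
  have g2 : ∀ {s}, s ∈ S → g⁻¹ * s * g ∈ S := fun e => (mem_normalizer_iff''.1 hg _).1 e
  have n3 : ∀ {t}, t ∈ S → Inv2 t → (∀ s ∈ S, Commute s t) → g * t * g⁻¹ ≠ t ∧
      ∀ s ∈ S, s = 1 ∨ s = t ∨ s = g * t * g⁻¹ ∨ s = g * t * g⁻¹ * t := fun {t} a b c => by
    have e : g * t * g⁻¹ ≠ t := fun e => g0 (n2 b c hg (mul_inv_eq_iff_eq_mul.1 e))
    exact ⟨e, fun s hs => h.four b (b.conj g) e (c _ (g1 a)) (c s hs) (by
      simpa [mul_assoc] using (c _ (g2 hs)).map (MulAut.conj g))⟩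
  have n4 : ∀ s ∈ S, ∀ s' ∈ S, Commute s s' := by
    have : Nontrivial S := ⟨⟨⟨i, i1⟩, 1, fun e => hi.1 (congrArg Subtype.val e)⟩⟩
    have := S.2.center_nontrivial
    obtain ⟨⟨⟨t, t1⟩, t2⟩, ht⟩ := exists_prime_orderOf_dvd_card' (G := center S) 2 (by
      obtain ⟨k, hk⟩ := (S.2.to_subgroup (center S)).nontrivial_iff_card.1 this
      exact hk.2 ▸ dvd_pow_self 2 hk.1.ne')
    rw [← orderOf_coe, ← orderOf_coe] at ht
    have t3 : ∀ s ∈ S, Commute s t := fun s hs => congrArg Subtype.val (mem_center_iff.1 t2 ⟨s, hs⟩)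
    have t4 := n3 t1 ⟨fun e => by simp [e] at ht, by rw [← sq, ← ht, pow_orderOf_eq_one]⟩ t3
    have t5 : ∀ s ∈ S, Commute s (g * t * g⁻¹) := fun s hs => by
      simpa [mul_assoc] using (t3 _ (g2 hs)).map (MulAut.conj g)
    intro s hs s' hs'
    obtain rfl | rfl | rfl | rfl := t4.2 s' hs'
    exacts [Commute.one_right _, t3 s hs, t5 s hs, (t5 s hs).mul_right (t3 s hs)]
  replace n3 := fun {t} a b => @n3 t a b fun s hs => n4 s hs t a
  have n5 : ∀ {a b y}, a ∈ S → Inv2 a → b ∈ S → y ∈ H ⊔ H.map (MulAut.conj g).toMonoidHom → y * a * y⁻¹ = b → a = b :=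
    fun {a b y} a1 a2 b1 y1 e => by
      obtain ⟨m, m1, m2⟩ := H3.sylow_conj_in (y • S) S ((H ⊔ H.map (MulAut.conj g).toMonoidHom) ⊓ centralizer {b})
        (by
          rintro _ ⟨s, hs, rfl⟩
          exact mem_inf.2 ⟨mul_mem (mul_mem y1 (mem_sup_left (hH hs))) (inv_mem y1),
            mem_centralizer_singleton_iff.2 (e ▸ (n4 s hs a a1).map (MulAut.conj y))⟩)
        fun s hs => ⟨mem_sup_left (hH hs), mem_centralizer_singleton_iff.2 (n4 s hs b b1)⟩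
      rw [smul_smul, Sylow.smul_eq_iff_mem_normalizer] at m2
      rw [mem_inf] at m1
      have e1 : m * y * a = b * (m * y) := by
        rw [← mul_assoc, ← mem_centralizer_singleton_iff.1 m1.2, ← e]; group
      have e2 : ∀ {x}, x ∈ S → x ∈ H ⊔ H.map (MulAut.conj g).toMonoidHom := fun hx => mem_sup_left (hH hx)
      obtain e3 | e3 | e3 | e3 := (n3 a1 a2).2 b b1
      · exact absurd (conj_eq_one_iff.1 (e.trans e3)) a2.1
      · exact e3.symm
      · refine absurd ((mul_mem_cancel_right (mul_mem m1.1 y1)).1 (e2 (n2 a2 (n4 · · a a1)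
          (mul_mem (inv_mem hg) m2) ?_))) (by rwa [inv_mem_iff])
        rw [Commute, SemiconjBy, mul_assoc, e1, e3]; group
      · refine absurd ((mul_mem_cancel_right (mul_mem m1.1 y1)).1 (e2 (n2 a2 (n4 · · a a1) (mul_mem hg m2) ?_))) h0
        obtain e4 | e4 | e4 | e4 := (n3 a1 a2).2 _ (g2 a1)
        · exact absurd (conj_eq_one_iff.1 (show g⁻¹ * a * g⁻¹⁻¹ = 1 by rwa [inv_inv])) a2.1
        · exact absurd (by nth_rewrite 1 [← e4]; group) (n3 a1 a2).1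
        · exact absurd (n1 hg (n2 a2 (n4 · · a a1) (mul_mem hg hg) (by
            rw [Commute, SemiconjBy, mul_assoc, mul_inv_eq_iff_eq_mul.1 e4.symm]; group))) g0
        · rw [Commute, SemiconjBy, mul_assoc, e1, e3, ← e4]; group
  have n6 : ∀ {a x}, a ∈ S → Inv2 a → x ∈ H → Commute x a → x ∈ S := fun {a x} a1 a2 x1 x2 => by
    have k : ∀ {x}, x ∈ H → x ∈ T a → x ∈ S := fun {x} x1 x2 => by
      by_contra x3
      have b1 := g1 a1
      have c1 := mul_mem b1 a1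
      have k1 : ∀ {a b : G} (a1 : a ∈ S) (b1 : b ∈ S), Inv2 a → a ≠ b → ¬ IsConj (⟨a, mem_sup_left (hH a1)⟩ :
          ↥(H ⊔ H.map (MulAut.conj g).toMonoidHom)) ⟨b, mem_sup_left (hH b1)⟩ := fun a1 b1 a2 e e' =>
        let ⟨y, hy⟩ := isConj_iff.1 e'; e (n5 a1 a2 b1 y.2 (congrArg Subtype.val hy))
      have k2 : ∀ {a : G} (a1 : a ∈ S), Inv2 a →
          Inv2 (⟨a, mem_sup_left (hH a1)⟩ : ↥(H ⊔ H.map (MulAut.conj g).toMonoidHom)) := fun a1 a2 =>
        ⟨fun e => a2.1 (congrArg Subtype.val e), Subtype.ext a2.2⟩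
      refine (h.comap (H ⊔ H.map (MulAut.conj g).toMonoidHom)).three (k2 a1 a2) (k2 b1 (a2.conj g))
        (k2 c1 ⟨fun e => (n3 a1 a2).1 ?_, ?_⟩)
        (k1 a1 b1 a2 (n3 a1 a2).1.symm) (k1 a1 c1 a2 fun e => (a2.conj g).1 (right_eq_mul.1 e))
        (k1 b1 c1 (a2.conj g) fun e => a2.1 (left_eq_mul.1 e)) (x := ⟨x, mem_sup_left x1⟩) x2
        (fun e => x3 ((show x = 1 from congrArg Subtype.val e) ▸ one_mem _))
        (fun e => x3 ((show x = a from congrArg Subtype.val e) ▸ a1))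
        (y := ⟨g * x * g⁻¹, mem_sup_right (mem_map_of_mem _ x1)⟩) (h.conj g x2)
        (fun e => x3 (conj_eq_one_iff.1 (congrArg Subtype.val e) ▸ one_mem _))
        fun e => x3 ((MulAut.conj g).injective (congrArg Subtype.val e) ▸ a1)
      · rw [← mul_one (g * a * g⁻¹), ← a2.2, ← mul_assoc, e, one_mul]
      · rw [(n4 _ b1 a a1).symm.mul_mul_mul_comm, (a2.conj g).2, a2.2, one_mul]
    by_cases e : x ∈ T a
    · exact k x1 e
    · exact (mul_mem_cancel_right (g1 a1)).1 (k (mul_mem x1 (hH (g1 a1)))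
        (h.two a2 x2 (n4 _ (g1 a1) a a1) e (h.notMem a2 (a2.conj g) (n3 a1 a2).1)))
  obtain rfl : H = S := le_antisymm (fun x hx => by
    obtain ⟨w, w1, w2, w3, w4⟩ := exists_inv2_comm (hi.conj x) hj H (mul_mem (mul_mem hx (hH i1)) (inv_mem hx)) (hH j1)
      fun y hy e => h1 (n5 i1 hi j1 (mem_sup_left (mul_mem (inv_mem hy) hx)) (by
        rw [← mul_left_cancel_iff (a := y), ← mul_right_cancel_iff (a := y⁻¹), e]; group))
    exact n6 i1 hi hx (mul_inv_eq_iff_eq_mul.1 (n5 i1 hi (n6 (n6 j1 hj w1 w4) w2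
      (mul_mem (mul_mem hx (hH i1)) (inv_mem hx)) w3.symm) (mem_sup_left hx) rfl).symm)) hH
  exact ⟨1, one_mem _, (eq_of_le_of_card_ge (by rintro _ ⟨y, hy, rfl⟩; exact g1 hy)
    (card_map_of_injective (MulAut.conj g).injective).ge).trans (by simp; exact (map_id _).symm)⟩

theorem oddPron_of_ca {G' : Type*} [Group G'] [Finite G'] {π : G →* G'} (hπ : Surjective π) {z : G}
    (h1 : ∀ x, π x = 1 ↔ x = 1 ∨ x = z) (h2 : ∀ x, x * x = 1 ↔ x = 1 ∨ x = z) (h3 : ∀ x, Commute x z)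
    (h4 : ∀ x a b, x ≠ 1 → x ≠ z → Commute a x → Commute b x → Commute a b) {i j : G} (h5 : i * i = z)
    (h6 : j * j = z) (h7 : i * j = z * (j * i)) (h8 : z ≠ 1) : OddPron G' := by
  have z1 := (h1 z).2 (Or.inr rfl)
  have z2 := (h2 z).2 (Or.inr rfl)
  have a1 : ∀ {a b}, π a = π b → a = b ∨ a = z * b := fun e =>
    ((h1 _).1 (by rw [map_mul, map_inv, e, mul_inv_cancel])).imp mul_inv_eq_one.1 mul_inv_eq_iff_eq_mul.1
  have a2 : ∀ {x t}, π x ∈ (centralizer (π ⁻¹' {π t})).map π ↔ Commute x t := fun {x t} =>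
    ⟨fun ⟨y, y1, y2⟩ => by
      obtain rfl | rfl := a1 y2.symm
      exacts [(y1 t rfl).symm, (h3 t).symm.mul_left (y1 t rfl).symm],
    fun e => mem_map_of_mem π fun u hu => by
      obtain rfl | rfl := a1 hu
      exacts [e.symm, (h3 x).symm.mul_left e.symm]⟩
  have a3 : ∀ {t}, Inv2 (π t) → t * t = z := fun e =>
    ((h1 _).1 ((map_mul π _ _).trans e.2)).resolve_left fun e' => e.1 ((h1 _).2 ((h2 _).1 e'))
  have a4 : ∀ {x t}, Commute (π x) (π t) → ¬ Commute x t → x * t = z * (t * x) := fun e e' =>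
    (a1 (by simpa using e.eq)).resolve_left e'
  have a5 : ∀ {x y t}, x * t = z * (t * x) → y * t = z * (t * y) → Commute (x * y) t := fun {x y t} e e' => by
    rw [Commute, SemiconjBy, mul_assoc, e', ← mul_assoc, (h3 x).eq, mul_assoc, ← mul_assoc x, e, mul_assoc z,
      ← mul_assoc z, z2, one_mul, mul_assoc]
  have a6 : ∀ {t}, t * t = z → Inv2 (π t) := fun {t} e => ⟨fun e' => h8 (by
    obtain rfl | rfl := (h1 _).1 e'
    exacts [by rw [← e, mul_one], left_eq_mul.1 e.symm]), by rw [← map_mul, e, z1]⟩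
  refine Tori.oddPron (T := fun t => (centralizer (π ⁻¹' {t})).map π) ⟨fun {t} _ => ?_, fun {t x} => ?_,
    fun {t x} => ?_, fun {t x y} => ?_, fun {t u x} => ?_, fun {t x} y => ?_⟩ (a6 h5) (a6 h6) (fun e => h8 ?_) ?_
  · obtain ⟨t, rfl⟩ := hπ t
    exact a2.2 rfl
  · obtain ⟨t, rfl⟩ := hπ t
    obtain ⟨x, rfl⟩ := hπ x
    exact fun e => (a2.1 e).map π
  · obtain ⟨t, rfl⟩ := hπ t
    obtain ⟨x, rfl⟩ := hπ x
    intro _ b c
    rw [a2] at c
    rw [← map_mul, h1]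
    by_contra! d
    exact c (h4 _ _ _ d.1 d.2 ((Commute.refl x).mul_right rfl) (a5 (a4 b c) (a4 b c)).symm)
  · obtain ⟨t, rfl⟩ := hπ t
    obtain ⟨x, rfl⟩ := hπ x
    obtain ⟨y, rfl⟩ := hπ y
    intro _ b c d e
    rw [← map_mul, a2]
    exact a5 (a4 b fun h => d (a2.2 h)) (a4 c fun h => e (a2.2 h))
  · obtain ⟨t, rfl⟩ := hπ t
    obtain ⟨u, rfl⟩ := hπ u
    obtain ⟨x, rfl⟩ := hπ x
    intro a b c d e
    rw [Ne, h1, not_or] at c
    have := (h1 (t * u)).2 ((h2 _).1 (by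
      rw [(h4 x u t c.1 c.2 (a2.1 e).symm (a2.1 d).symm).mul_mul_mul_comm, a3 a, a3 b, z2]))
    rw [map_mul, ← b.2] at this
    exact mul_right_cancel this
  · obtain ⟨t, rfl⟩ := hπ t
    obtain ⟨x, rfl⟩ := hπ x
    obtain ⟨y, rfl⟩ := hπ y
    simp only [← map_inv, ← map_mul, a2]
    exact fun e => e.map (MulAut.conj y)
  · obtain rfl | rfl := a1 e
    · exact right_eq_mul.1 h7 
    · rw [← (h3 j).eq, mul_assoc, ← (h3 j).eq, ← mul_assoc j j] at h7
      exact right_eq_mul.1 h7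
  · rw [Commute, SemiconjBy, ← map_mul, h7, map_mul, z1, one_mul, map_mul]

end Cfsg.Agent.H5
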