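import Cfsg.Agent.H5.PronY
import Cfsg.Agent.H5.GLCard
import Cfsg.Agent.H2.SL2Conj

/-! Pronormality of subgroups of odd index in linear groups of dimension a power of two. -/

set_option autoImplicit false

namespace Cfsg.Agent.H5

open Subgroup Function Module Matrix

universe u v w

variable {F : Type w} [Field F]
variable {V : Type u} [AddCommGroup V] [Module F V] [FiniteDimensional F V]

theorem isom_zero : Isom (0 : Sesq (RingHom.id F) V) = ⊤ := eq_top_iff.2 fun _ _ _ _ => rfl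

theorem card_isom_zero [Fintype F] : Nat.card (Isom (0 : Sesq (RingHom.id F) V)) =
    ∏ i ∈ Finset.range (finrank F V), Fintype.card F ^ i * (Fintype.card F ^ (i + 1) - 1) := by
  rw [Finset.prod_mul_distrib, ← card_GL_prod, isom_zero, card_top]
  exact Nat.card_congr (((Matrix.GeneralLinearGroup.toLin' (finBasis F V)).trans
    (LinearMap.GeneralLinearGroup.generalLinearEquiv F V)).toEquiv.symm)

theorem oddPron_sl {n : ℕ} (hd : finrank F V = n) (H : OddPron (dI (0 : Sesq (RingHom.id F) V)).ker) :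
    OddPron (Matrix.SpecialLinearGroup (Fin n) F) := by
  obtain ⟨b⟩ : Nonempty (Basis (Fin n) F V) := ⟨finBasisOfFinrankEq F V hd⟩
  refine H.of_surj (f := ⟨⟨fun g => ⟨LinearMap.toMatrix b b g.1.1, (LinearMap.det_toMatrix b _).trans g.2⟩,
    Subtype.ext (LinearMap.toMatrix_id b)⟩, fun x y =>
      Subtype.ext (LinearMap.toMatrix_mul b (x.1.1 : End F V) y.1.1)⟩) fun m => ?_
  have h := (LinearMap.det_toLin b m.1).trans m.2
  exact ⟨⟨⟨LinearMap.equivOfDetNeZero _ (h.trans_ne one_ne_zero), fun _ _ => rfl⟩, h⟩,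
    Subtype.ext (LinearMap.toMatrix_toLin b b m.1)⟩

theorem val_two_gl [Fintype F] (h2 : (2 : F) ≠ 0) {q : ℕ} (hq : Fintype.card F = q) : Odd q ∧ 1 < q ∧
    (∏ i ∈ Finset.range 2, q ^ i * (q ^ (i + 1) - 1)).factorization 2 =
      padicValNat 2 (q - 1) + padicValNat 2 (q ^ 2 - 1) ∧
      ∀ w, (∏ i ∈ Finset.range (2 ^ (w + 2)), q ^ i * (q ^ (i + 1) - 1)).factorization 2 =
        2 * (∏ i ∈ Finset.range (2 ^ (w + 1)), q ^ i * (q ^ (i + 1) - 1)).factorization 2 + 1 := by
  have h1 : 1 < q := hq ▸ Fintype.one_lt_card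
  have h3 : Odd q := hq ▸ Nat.odd_iff.2 (FiniteField.odd_card_of_char_ne_two (H2.ringChar_ne_two_of h2))
  exact ⟨h3, h1, val_two_step h3 h1 (u := fun i => q ^ (i + 1) - 1)
    (fun k => Nat.sub_ne_zero_of_lt (Nat.one_lt_pow (Nat.add_one_ne_zero _) h1)) (val_two_odd_pow_sub h3 h1) fun _ => rfl⟩

/-- The Gaussian numbers over a field. -/
abbrev Gq (F : Type w) [Field F] := QuadraticAlgebra F (-1) 0

theorem exists_sylP_gl [Fintype F] (h2 : (2 : F) ≠ 0) : ∃ (M : Type w) (_ : AddCommGroup M) (_ : Module F M)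
    (_ : FiniteDimensional F M) (S : Sylow 2 (Isom (0 : Sesq (RingHom.id F) M))), finrank F M = 2 ∧ SylP S := by
  obtain ⟨a1, a2, a3, -⟩ := val_two_gl h2 rfl
  by_cases h : IsSquare (-1 : F)
  · have a4 := FiniteField.isSquare_neg_one_iff.1 h
    obtain ⟨i, hi⟩ := h
    have b3 : i ≠ 0 := by rintro rfl; simp at hi
    have := Nat.odd_iff.1 a1
    obtain ⟨S, hS⟩ := sylP_split' h2 (B := (0 : Sesq (RingHom.id F) _)) (fun _ _ => rfl) (by
        rw [card_isom_zero, isom_zero, comap_top, card_top, Nat.card_prod, Nat.card_units, finrank_prod,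
          finrank_self, a3, val_two_sq_sub a2, Nat.card_eq_fintype_card, Nat.factorization_def _ Nat.prime_two,
          padicValNat.mul (by omega) (by omega), val_two_eq_one (n := _ + 1) (by omega)]
        omega) (i := Units.mk0 i b3) (Units.ext hi.symm) fun _ _ => rfl
    exact ⟨_, _, _, inferInstance, S, by simp, hS⟩
  have a4 := not_not.1 (FiniteField.isSquare_neg_one_iff.not.1 h)
  have : Fact (∀ r : F, r ^ 2 ≠ -1 + 0 * r) := ⟨fun r e => h ⟨r, by linear_combination -e⟩⟩
  have a5 : finrank F (Gq F) = 2 := QuadraticAlgebra.finrank_eq_two _ _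
  have := finite_of_finiteDimensional F (Gq F)
  let ι : (Gq F)ˣ →* Isom (0 : Sesq (RingHom.id F) (Gq F)) :=
    (DistribMulAction.toModuleAut F (Gq F)).codRestrict _ fun _ _ _ => rfl
  have a6 : ∀ t v, (ι t).1 v = t * v := fun _ _ => rfl
  have a7 : ∀ t, Sc (ι t) → (t : Gq F).im = 0 := fun t ⟨c, e⟩ => by
    simpa [a6, QuadraticAlgebra.im_one] using congrArg (·.im) (e 1)
  have a8 : ∀ t, dI _ (ι t) = (t : Gq F).norm := fun t => QuadraticAlgebra.det_toLinearMap_eq_norm (t : Gq F)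
  let τ : Isom (0 : Sesq (RingHom.id F) (Gq F)) := ⟨⟨⟨⟨star, star_add⟩, fun c x => by ext <;> simp⟩, star, star_star,
    star_star⟩, fun _ _ => rfl⟩
  have a9 : ∀ v, τ.1 v = star v := fun _ => rfl
  have a10 : dI _ τ = -1 := by
    rw [dI_apply, ← LinearMap.det_toMatrix (QuadraticAlgebra.basis _ _), det_fin_two]
    simp [LinearMap.toMatrix_apply, a9, QuadraticAlgebra.basis]
  obtain ⟨a, b, e⟩ := H2.exists_form_eq (F := F) (t := 0) (d := 1) (Or.inr (by
    simpa using (show (4 : F) = 2 * 2 by norm_num) ▸ (mul_ne_zero h2 h2).symm)) (-1)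
  have b1 : (⟨a, b⟩ : Gq F).norm = -1 := by rw [QuadraticAlgebra.norm_def]; linear_combination e
  obtain ⟨k, n, b5, b6⟩ := Nat.exists_eq_two_pow_mul_odd (Nat.card_pos (α := (Gq F)ˣ)).ne'
  let ε : (Gq F)ˣ := Units.mk0 ⟨a, b⟩ (fun e => by simp [e] at b1) ^ n
  have b2 : (ε : Gq F).norm = -1 := by simp [ε, b1, b5.neg_one_pow]
  have b3 : ε ^ 2 ^ (k + 2) = 1 := by
    rw [← pow_mul, pow_add, mul_comm, mul_right_comm, ← b6, pow_mul, pow_card_eq_one', one_pow]
  let ω : (Gq F)ˣ := Units.mk0 QuadraticAlgebra.omega fun e => by simpa using congrArg (·.im) e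
  have b4 : ω * ω = -1 := Units.ext (by ext <;> simp [ω, QuadraticAlgebra.re_one, QuadraticAlgebra.im_one])
  refine ⟨Gq F, _, _, inferInstance, Exists.imp (fun S hS => ⟨a5, hS⟩) <| sylP_of_torus h2 a5 (D := (ι ω).1) (c := -1) (by simp) (by ext <;> simp [a6, ω])
    (fun c e => by simpa [ω] using a7 ω ⟨c, fun v => congrArg (· v) e⟩) (ι := ι)
    (fun x y e => Units.ext (by simpa [a6] using congrArg (fun g : Isom (0 : Sesq (RingHom.id F) (Gq F)) => g.1 1) e))
    (fun t => LinearMap.ext fun v => mul_left_comm (t : Gq F) ω v) (τ := τ) (Subtype.ext (LinearEquiv.ext star_star))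
    (by ext <;> simp [a6, a9, ω]) (fun t => ⟨star t, Subtype.ext (LinearEquiv.ext fun v => by
      change star (t * star v) = star (t : Gq F) * v
      simp [mul_comm])⟩) (by
      rw [card_isom_zero, a5, a3, Nat.card_units, Module.natCard_eq_pow_finrank (K := F), a5, Nat.card_eq_fintype_card,
        Nat.factorization_def _ Nat.prime_two, val_two_eq_one (by omega), add_comm])
    b3 (fun e => h ?_) (δ' := ω) (by rw [pow_add, mul_comm, pow_mul, sq, pow_mul, sq ω, b4]; simp)
    (fun e => by simpa [ω] using a7 ω e) (by simp [a8, ω, QuadraticAlgebra.norm_def]) b3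
    (by rw [map_mul, a8, b2, a10]; simp)⟩
  · have := a7 (ε * ε) (by rwa [map_mul])
    rw [QuadraticAlgebra.norm_def] at b2
    simp only [Units.val_mul, QuadraticAlgebra.im_mul, zero_mul, add_zero] at this b2
    obtain e | e := mul_eq_zero.1 ((mul_eq_zero.1 (show 2 * (ε.1.re * ε.1.im) = 0 by
      linear_combination this)).resolve_left h2)
    · exact ⟨ε.1.im, by rw [e] at b2; linear_combination -b2⟩
    · exact ⟨ε.1.re, by rw [e] at b2; linear_combination -b2⟩

theorem oddPron_sl_even [Finite F] [CharP F 2] (n : ℕ) : OddPron (Matrix.SpecialLinearGroup (Fin n) F) := by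
  have inv0 : ∀ {g : Matrix.SpecialLinearGroup (Fin n) F}, Lv 0 g.1 → Lv 0 (g⁻¹).1 := fun {g} h =>
    lv_zero_iff.2 (inv_mem (show Matrix.SpecialLinearGroup.toGL g ∈ upperTriangularGL n F from lv_zero_iff.1 h))
  have dg : ∀ {g : Matrix.SpecialLinearGroup (Fin n) F}, Lv 0 g.1 → ∀ i, (g⁻¹).1 i i * g.1 i i = 1 := fun h i => by
    rw [← (inv0 h).mul_apply h rfl rfl, ← Matrix.SpecialLinearGroup.coe_mul, inv_mul_cancel]; simp
  have mul := @Matrix.SpecialLinearGroup.coe_mul (Fin n) _ _ F _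
  let U : Subgroup (Matrix.SpecialLinearGroup (Fin n) F) :=
    { carrier := {g | Lv 1 (g.1 - 1)}
      one_mem' := by simp [Lv]
      mul_mem' := fun {a b} ha hb => by
        obtain ⟨a1, a2⟩ := lv_sub_one.1 ha
        obtain ⟨b1, b2⟩ := lv_sub_one.1 hb
        exact lv_sub_one.2 ⟨a1.mul b1, fun i => by rw [mul, a1.mul_apply b1 rfl rfl, a2, b2, one_mul]⟩
      inv_mem' := fun {a} ha => by
        obtain ⟨a1, a2⟩ := lv_sub_one.1 ha
        exact lv_sub_one.2 ⟨inv0 a1, fun i => by simpa only [a2, mul_one] using dg a1 i⟩ }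
  let s : Matrix (Fin n) (Fin n) F := of fun i j => if j.1 = i.1 + 1 then 1 else 0
  have s1 : Lv 1 s := fun i j e => if_neg (by omega)
  have s2 := lv_sub_one.1 (show Lv 1 (1 + s - 1) by simpa using s1)
  let u : Matrix.SpecialLinearGroup (Fin n) F := ⟨1 + s, by simp [s2.1.det, s2.2]⟩
  have u4 : u ∈ U := lv_sub_one.2 s2
  have hN : ∀ g, g ∈ normalizer (U : Set (Matrix.SpecialLinearGroup (Fin n) F)) ↔ Lv 0 g.1 := fun g => ⟨fun h => lv_of_reg u4
    ((mem_normalizer_iff''.1 h u).1 u4) (fun i j e => by simp [u, s, e]) (by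
      rw [mul_sub, sub_mul, ← mul, ← mul, mul_assoc, mul_inv_cancel_left, one_mul, mul_one]),
      fun h => mem_normalizer_fintype fun a ha => by
        obtain ⟨a1, a2⟩ := lv_sub_one.1 ha
        exact lv_sub_one.2 ⟨(h.mul a1).mul (inv0 h), fun i => by
          rw [mul, mul, (h.mul a1).mul_apply (inv0 h) rfl rfl, h.mul_apply a1 rfl rfl, a2, mul_one, mul_comm, dg h]⟩⟩
  obtain ⟨S, hS⟩ := exists_sylow_eq (p := 2) (U := U) (fun g => ⟨n, Subtype.ext (Subtype.ext (by
    have : CharP (Matrix (Fin n) (Fin n) F) 2 ∨ n = 0 := by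
      rcases n with _ | n
      exacts [Or.inr rfl, Or.inl inferInstance]
    rcases this with _ | rfl
    · change g.1.1 ^ _ = 1
      have := ((Lv.pow g.2 _).mono (Nat.lt_two_pow_self (n := n)).le).eq_zero
      rwa [sub_pow_char_pow_of_commute _ _ (Commute.one_right _), one_pow, sub_eq_zero] at this
    · exact Subsingleton.elim _ _))⟩) fun y hy k hk => lv_sub_one.2 ⟨(hN y).1 hy, fun i =>
      (iterateFrobenius F 2 k).injective (by
        rw [iterateFrobenius_def, ← (((hN y).1 hy).diag_pow _ i).2, ← Matrix.SpecialLinearGroup.coe_pow, hk]; simp)⟩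
  refine oddPron_of_borel S (fun a ha b hb => ?_) fun h b hb => ?_
  · rw [hS, hN] at ha hb
    exact hS.ge <| lv_sub_one.2 ⟨((ha.mul hb).mul (inv0 ha)).mul (inv0 hb), fun i => by
      rw [mul, mul, mul, ((ha.mul hb).mul (inv0 ha)).mul_apply (inv0 hb) rfl rfl,
        (ha.mul hb).mul_apply (inv0 ha) rfl rfl, ha.mul_apply hb rfl rfl]
      linear_combination (b⁻¹).1 i i * b.1 i i * dg ha i + dg hb i⟩
  rw [hS, hN] at hb
  obtain ⟨π, x, hx, y, hy, e⟩ := H6.bruhat (Matrix.SpecialLinearGroup.toGL h)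
  have x1 := lv_zero_iff.2 hx
  have x2 := lv_zero_iff.2 (inv_mem hx)
  have d1 : ∀ d : Fin n → F, Lv 0 (diagonal d) := fun d => lv_zero_iff.2 (blockTriangular_diagonal d)
  obtain ⟨a, ha⟩ : ∃ a, a = x.1 * diagonal b.1.diag * (x⁻¹).1 := ⟨_, rfl⟩
  have a1 : Lv 0 a := ha ▸ (x1.mul (d1 _)).mul x2
  have a2 : ∀ i, a i i = b.1 i i := fun i => by
    have := x1.mul_apply x2 (i := i) rfl rfl
    rw [Units.mul_inv, one_apply_eq] at this
    rw [ha, (x1.mul (d1 _)).mul_apply x2 rfl rfl, mul_diagonal, mul_right_comm, ← this, one_mul, Matrix.diag_apply]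
  let t : Matrix.SpecialLinearGroup (Fin n) F := ⟨a, by
    rw [a1.det, Finset.prod_congr rfl fun i _ => a2 i, ← hb.det, b.2]⟩
  refine ⟨t, ?_, hS.ge <| lv_sub_one.2 ⟨hb.mul (inv0 (g := t) a1), fun i => ?_⟩⟩
  · rw [hS, hN, show (h⁻¹ * t * h).1 = (y⁻¹).1 * diagonal (fun i => b.1 (π i) (π i)) * y.1 by
      have e' : Matrix.SpecialLinearGroup.toGL h⁻¹ = (x * H6.permGL F π * y)⁻¹ := by rw [map_inv, e]
      rw [mul, mul, show h.1 = _ from congrArg Units.val e, show (h⁻¹).1 = _ from congrArg Units.val e',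
        show t.1 = _ from ha]
      simp only [_root_.mul_inv_rev, Units.val_mul, mul_assoc, Units.inv_mul_cancel_left]
      rw [← mul_assoc (diagonal _), show diagonal b.1.diag * (H6.permGL F π).1 =
        (H6.permGL F π).1 * diagonal fun i => b.1 (π i) (π i) from ext fun i j => by
          rw [diagonal_mul, mul_diagonal, H6.permGL_apply]; split_ifs with h <;> simp [h],
        mul_assoc, Units.inv_mul_cancel_left]]
    exact ((lv_zero_iff.2 (inv_mem hy)).mul (d1 _)).mul (lv_zero_iff.2 hy)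
  · rw [mul, hb.mul_apply (inv0 (g := t) a1) rfl rfl, ← a2, mul_comm]
    exact dg (g := t) a1 i

theorem oddPron_psl_two [Finite F] (h2 : (2 : F) ≠ 0) : OddPron (ProjectiveSpecialLinearGroup (Fin 2) F) := by
  obtain ⟨a, b, e⟩ := H2.exists_form_eq (F := F) (t := 0) (d := 1) (Or.inr (by
    simpa using (show (4 : F) = 2 * 2 by norm_num) ▸ (mul_ne_zero h2 h2).symm)) (-1)
  refine oddPron_of_ca (QuotientGroup.mk'_surjective _) (z := -1)
    (fun x => (QuotientGroup.eq_one_iff x).trans H2.mem_center_SL_iff') (fun x => ⟨fun h => H2.isScal_SL_iff.1 ?_,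
      by rintro (rfl | rfl) <;> simp⟩) (fun x => Commute.neg_one_right x) (fun x a b h1 h3 h4 h5 => ?_)
    (i := H2.toSL !![0, -1; 1, 0] (by simp)) (j := H2.toSL !![a, b; b, -a] (by simp; linear_combination -e))
    (H2.SL_ext ?_) (H2.SL_ext ?_) (H2.SL_ext ?_) (H2.neg_one_ne_one_SL h2)
  · by_contra h1
    have h3 := H2.cayley x.1
    rw [show x.1 * x.1 = 1 from congrArg Subtype.val h, x.2] at h3
    exact h2 (H2.comb_injective h1 (a := 2) (b := 0) (a' := 0) (b' := x.1.trace)
      (by linear_combination (norm := module) h3)).1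
  · have h6 : ¬ H2.IsScal x.1 := fun h => (H2.isScal_SL_iff.1 h).elim h1 h3
    obtain ⟨c, d, e1⟩ := (H2.commute_iff_of_not_scal h6 a.1).1 (congrArg Subtype.val h4.eq)
    refine Subtype.ext (show Commute a.1 b.1 from ?_)
    rw [e1]
    exact ((Commute.one_left _).smul_left c).add_left (Commute.smul_left (congrArg Subtype.val h5.symm.eq) d)
  · change (!![0, -1; 1, 0] * !![0, -1; 1, 0] : Matrix _ _ F) = -1
    simp [one_fin_two]
  · change !![a, b; b, -a] * !![a, b; b, -a] = -1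
    simp [one_fin_two]
    exact ⟨⟨by linear_combination e, by ring⟩, by ring, by linear_combination e⟩
  · change !![0, -1; 1, 0] * !![a, b; b, -a] = -1 * (!![a, b; b, -a] * !![0, -1; 1, 0])
    simp

theorem oddPron_psl_two_pow [Fintype F] (w : ℕ) : OddPron (ProjectiveSpecialLinearGroup (Fin (2 ^ (w + 1))) F) := by
  by_cases h2 : (2 : F) = 0
  · have : CharP F 2 := (CharP.charP_iff_prime_eq_zero Nat.prime_two).2 h2
    exact (oddPron_sl_even _).of_surj (QuotientGroup.mk'_surjective _)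
  obtain _ | w := w
  · exact oddPron_psl_two h2
  obtain ⟨M, _, _, _, S, a1, a2⟩ := exists_sylP_gl h2
  obtain ⟨M, _, _, _, _, -, rfl, b2, -, b3⟩ := exists_strong h2 (fun _ _ _ B => B = 0)
    (fun _ _ _ _ h => by subst h; exact LinearMap.ext₂ fun _ _ => add_zero _)
    (fun n => (∏ i ∈ Finset.range n, Fintype.card F ^ i * (Fintype.card F ^ (i + 1) - 1)).factorization 2)
    (fun _ _ _ _ _ h' => by rw [h', card_isom_zero]) (val_two_gl h2 rfl).2.2.2 rfl a1 a2 w
  exact (oddPron_sl b2 b3).of_surj (QuotientGroup.mk'_surjective _)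

end Cfsg.Agent.H5
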