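import Cfsg.Agent.H5.TwoRank

/-! Involutions of `SU(3, q)` for odd `q`. -/

set_option autoImplicit false

namespace Cfsg.Agent.H5

open Module Matrix

variable {F : Type*} [Field F] [Fintype F] {σ : F →+* F} {q : ℕ}

theorem UF.exists_su (h : UF σ q) {n : ℕ} (z : Isom (stdU (Fin n) σ))
    (hz : LinearMap.det (z.1 : End F (Fin n → F)) = 1) :
    ∃ x : Cfsg.SU n F q, ∀ u, x.1.1 *ᵥ u = z.1 u := by
  obtain ⟨g, rfl⟩ := (h.guEquiv n).surjective z
  rw [h.guEquiv_coe, LinearMap.det_toLin'] at hz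
  obtain ⟨x, rfl⟩ := exists_su_of_det g hz
  exact ⟨x, fun _ => rfl⟩

omit [Fintype F] in
theorem su_ext {n : ℕ} {x y : Cfsg.SU n F q} (h : ∀ u, x.1.1 *ᵥ u = y.1.1 *ᵥ u) : x = y :=
  Subtype.ext (Subtype.ext (Matrix.toLin'.injective (LinearMap.ext h)))

omit [Fintype F] in
theorem su_mul_mulVec {n : ℕ} (x y : Cfsg.SU n F q) (u : Fin n → F) :
    (x * y).1.1 *ᵥ u = x.1.1 *ᵥ (y.1.1 *ᵥ u) := by rw [mulVec_mulVec]; rfl

omit [Fintype F] in
theorem su_one_mulVec {n : ℕ} (u : Fin n → F) : (1 : Cfsg.SU n F q).1.1 *ᵥ u = u := one_mulVec u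

theorem UF.su_pres (h : UF σ q) {n : ℕ} (x : Cfsg.SU n F q) (u v : Fin n → F) :
    stdU (Fin n) σ (x.1.1 *ᵥ u) (x.1.1 *ᵥ v) = stdU (Fin n) σ u v := h.mem_SU.1 x.2 u v

theorem UF.two_ne_zero (h : UF σ q) (hq : Odd q) : (2 : F) ≠ 0 :=
  two_ne_zero_of_odd (h.card ▸ hq.pow)

/-- `x` is the involution with axis the unit vector `v`. -/
def Rf (σ : F →+* F) (x : Cfsg.SU 3 F q) (v : Fin 3 → F) : Prop :=
  stdU (Fin 3) σ v v = 1 ∧ ∀ u, x.1.1 *ᵥ u = (2 * stdU (Fin 3) σ u v) • v - u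

omit [Fintype F] in
theorem sub_mem_perp {V : Type*} [AddCommGroup V] [Module F V] {B : Sesq σ V} {v : V}
    (hv : B v v = 1) (u : V) : u - B u v • v ∈ perp B (Submodule.span F {v}) := by
  rw [mem_perp_span]
  rintro _ rfl
  simp [hv]

theorem UF.finrank_perp_unit (h : UF σ q) {n : ℕ} {v : Fin (n + 1) → F} (hv : v ≠ 0) :
    finrank F (perp (stdU (Fin (n + 1)) σ) (Submodule.span F {v})) = n := by
  have := (h.isEps_std (Fin (n + 1))).finrank_perp (Submodule.span F {v})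
  rw [finrank_span_singleton hv] at this
  simpa using this

theorem UF.exists_rf (h : UF σ q) {v : Fin 3 → F} (hv : stdU (Fin 3) σ v v = 1) :
    ∃ x : Cfsg.SU 3 F q, Rf σ x v := by
  have hB := h.isEps_std (Fin 3)
  have h0 : v ≠ 0 := by rintro rfl; simp at hv
  obtain ⟨z, h1, h2, h3, -⟩ := exists_scalar_on hB (μ := -1)
    (hB.disjoint_perp_perp (single_disjoint (hv ▸ one_ne_zero))) (by simp)
  obtain ⟨x, hx⟩ := h.exists_su z (by rw [h3, h.finrank_perp_unit h0]; simp)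
  refine ⟨x, hv, fun u => ?_⟩
  have a1 := h1 _ (sub_mem_perp hv u)
  have a2 := h2 v (hB.le_perp_perp _ (Submodule.mem_span_singleton_self v))
  rw [map_sub, map_smul, a2, sub_eq_iff_eq_add] at a1
  rw [hx, a1]
  module

omit [Fintype F] in
theorem Rf.ne_zero {x : Cfsg.SU 3 F q} {v : Fin 3 → F} (hx : Rf σ x v) : v ≠ 0 := by
  rintro rfl; simpa using hx.1

omit [Fintype F] in
theorem Rf.fix {x : Cfsg.SU 3 F q} {v : Fin 3 → F} (hx : Rf σ x v) : x.1.1 *ᵥ v = v := by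
  rw [hx.2, hx.1]; module

omit [Fintype F] in
theorem Rf.sq {x : Cfsg.SU 3 F q} {v : Fin 3 → F} (hx : Rf σ x v) : x * x = 1 :=
  su_ext fun u => by
    rw [su_mul_mulVec, su_one_mulVec, hx.2 u, mulVec_sub, mulVec_smul, hx.fix, hx.2 u]; abel

omit [Fintype F] in
theorem Rf.fix_iff (h2 : (2 : F) ≠ 0) {x : Cfsg.SU 3 F q} {v : Fin 3 → F} (hx : Rf σ x v)
    {u : Fin 3 → F} (hu : x.1.1 *ᵥ u = u) : u = stdU (Fin 3) σ u v • v := by
  rw [hx.2, sub_eq_iff_eq_add, ← two_smul F, mul_smul] at hu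
  exact (smul_right_injective _ h2 hu).symm

theorem Rf.ne_one (h : UF σ q) (hq : Odd q) {x : Cfsg.SU 3 F q} {v : Fin 3 → F} (hx : Rf σ x v) :
    x ≠ 1 := by
  rintro rfl
  have h1 : Submodule.span F {v} = ⊤ := eq_top_iff.2 fun u _ =>
    Submodule.mem_span_singleton.2 ⟨_, (hx.fix_iff (h.two_ne_zero hq) (su_one_mulVec u)).symm⟩
  have := finrank_span_singleton (K := F) hx.ne_zero
  rw [h1] at this
  simp at this

omit [Fintype F] in
theorem Rf.smul {x : Cfsg.SU 3 F q} {v : Fin 3 → F} (hx : Rf σ x v) {c : F} (hc : c * σ c = 1) :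
    Rf σ x (c • v) := by
  refine ⟨by simp [hx.1, mul_comm, hc], fun u => ?_⟩
  rw [hx.2, LinearMap.map_smulₛₗ, smul_smul, smul_eq_mul]
  congr 2
  linear_combination (-2 * stdU (Fin 3) σ u v) * hc

omit [Fintype F] in
theorem Rf.unique {x y : Cfsg.SU 3 F q} {v : Fin 3 → F} (hx : Rf σ x v) (hy : Rf σ y v) : x = y :=
  su_ext fun u => by rw [hx.2, hy.2]

omit [Fintype F] in
theorem Rf.norm_of_smul {x : Cfsg.SU 3 F q} {v : Fin 3 → F} (hx : Rf σ x v) {c : F}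
    (hc : stdU (Fin 3) σ (c • v) (c • v) = 1) : c * σ c = 1 := by
  simpa [hx.1, mul_comm] using hc

omit [Fintype F] in
theorem Rf.eq_iff (h2 : (2 : F) ≠ 0) {x y : Cfsg.SU 3 F q} {v w : Fin 3 → F} (hx : Rf σ x v)
    (hy : Rf σ y w) : y = x ↔ w = stdU (Fin 3) σ w v • v := by
  refine ⟨fun hxy => hx.fix_iff h2 (hxy ▸ hy.fix), fun hw => ?_⟩
  exact hy.unique (hw ▸ hx.smul (hx.norm_of_smul (hw ▸ hy.1)))

theorem Rf.conj (h : UF σ q) {x : Cfsg.SU 3 F q} {v : Fin 3 → F} (hx : Rf σ x v) (g : Cfsg.SU 3 F q) :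
    Rf σ (g * x * g⁻¹) (g.1.1 *ᵥ v) := by
  refine ⟨(h.su_pres g v v).trans hx.1, fun u => ?_⟩
  have : g.1.1 *ᵥ (g⁻¹.1.1 *ᵥ u) = u := by rw [← su_mul_mulVec, mul_inv_cancel, su_one_mulVec]
  rw [su_mul_mulVec, su_mul_mulVec, hx.2, mulVec_sub, mulVec_smul, ← h.su_pres g, this]

theorem Rf.commute_iff (h : UF σ q) (hq : Odd q) {x y : Cfsg.SU 3 F q} {v w : Fin 3 → F}
    (hx : Rf σ x v) (hy : Rf σ y w) : Commute x y ↔ y = x ∨ stdU (Fin 3) σ w v = 0 := by
  have h2 := h.two_ne_zero hq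
  constructor
  · intro hc
    by_cases h0 : stdU (Fin 3) σ w v = 0
    · exact Or.inr h0
    left
    have h1 : y.1.1 *ᵥ (x.1.1 *ᵥ w) = x.1.1 *ᵥ w := by
      rw [← su_mul_mulVec, ← hc.eq, su_mul_mulVec, hy.fix]
    rw [hx.2, mulVec_sub, hy.fix, sub_left_inj, mulVec_smul] at h1
    exact ((hy.eq_iff h2 hx).2 (hy.fix_iff h2 (smul_right_injective _ (mul_ne_zero h2 h0) h1))).symm
  · rintro (rfl | h0)
    · exact Commute.refl _
    · have := hy.conj h x
      rw [hx.2, h0, mul_zero, zero_smul, zero_sub, ← neg_one_smul F] at this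
      exact mul_inv_eq_iff_eq_mul.1 (this.unique (hy.smul (by simp)))

theorem UF.exists_rf_of_inv (h : UF σ q) (hq : Odd q) {x : Cfsg.SU 3 F q} (h1 : x ≠ 1)
    (hx : x * x = 1) : ∃ v, Rf σ x v := by
  have h2 := h.two_ne_zero hq
  have hB := h.isEps_std (Fin 3)
  let g := h.guEquiv 3 (suToGU 3 F q x)
  have hg : ∀ u, g.1 u = x.1.1 *ᵥ u := fun _ => rfl
  have hsq : ∀ u, g.1 (g.1 u) = u := fun u => by rw [hg, hg, ← su_mul_mulVec, hx, su_one_mulVec]
  have hC : IsCompl (kerP (g.1 : End F (Fin 3 → F)) 1 1) (ranP (g.1 : End F (Fin 3 → F)) 1 1) :=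
    isCompl_ker_range_of fun v hv => by
      simp only [pow_one, one_smul, LinearMap.sub_apply, LinearEquiv.coe_coe, End.one_apply,
        map_sub, hsq] at hv ⊢
      have : (2 : F) • (g.1 v - v) = 0 := by rw [two_smul, ← neg_eq_zero, ← hv]; abel
      exact (smul_eq_zero.1 this).resolve_left h2
  have hp := ranP_le_perp hB g (c := 1) (by simp) 1
  have d2 := hB.disjoint_of_isCompl hC.symm (hB.le_perp_comm hp)
  have e2 := hB.eq_perp_of_isCompl hC.symm (hB.le_perp_comm hp)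
  have k1 : ∀ u ∈ kerP (g.1 : End F (Fin 3 → F)) 1 1, g.1 u = u := fun u hu => by
    simpa [sub_eq_zero] using hu
  have k2 : ∀ u ∈ ranP (g.1 : End F (Fin 3 → F)) 1 1, g.1 u = -u := by
    rintro _ ⟨u, rfl⟩; simp [hsq]
  obtain ⟨z, a1, a2, a3, -⟩ := exists_scalar_on hB (μ := -1) d2 (by simp)
  have hz : z = g := Subtype.ext (LinearEquiv.ext fun u => by
    obtain ⟨a, b, rfl⟩ := exists_add_of_isCompl hC u
    rw [map_add, map_add, a1 _ b.2, a2 _ (e2 ▸ a.2), k1 _ a.2, k2 _ b.2, neg_one_smul])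
  have a4 : LinearMap.det (g.1 : End F (Fin 3 → F)) = 1 := (LinearMap.det_toLin' _).trans x.1.2
  rw [hz, a4] at a3
  have e3 := Submodule.finrank_add_eq_of_isCompl hC
  have p2 : finrank F (ranP (g.1 : End F (Fin 3 → F)) 1 1) ≠ 0 := fun h0 => h1 (su_ext fun u => by
    have := LinearMap.congr_fun (LinearMap.range_eq_bot.1 (Submodule.finrank_eq_zero.1 h0)) u
    simpa [sub_eq_zero, hg] using this)
  have p3 : Even (finrank F (ranP (g.1 : End F (Fin 3 → F)) 1 1)) := by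
    by_contra h0
    rw [(Nat.not_even_iff_odd.1 h0).neg_one_pow] at a3
    exact h2 (by linear_combination a3)
  have p4 : finrank F (kerP (g.1 : End F (Fin 3 → F)) 1 1) = 1 := by
    simp only [finrank_fintype_fun_eq_card, Fintype.card_fin] at e3
    obtain ⟨k, hk⟩ := p3
    omega
  obtain ⟨w, hw, hw0⟩ := h.exists_aniso (B := stdU (Fin 3) σ) (W := kerP (g.1 : End F (Fin 3 → F)) 1 1)
    fun h0 => by
      rw [(hB.disjoint_of_isCompl hC hp).eq_bot_of_le h0] at p4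
      simp at p4
  obtain ⟨a, ha⟩ := h.exists_smul_unit hB.herm hw0 (c := 1) (map_one σ)
  have hv : a • w ∈ kerP (g.1 : End F (Fin 3 → F)) 1 1 := Submodule.smul_mem _ a hw
  generalize a • w = v at ha hv
  have hv0 : v ≠ 0 := by rintro rfl; simp at ha
  have hs : Submodule.span F {v} = kerP (g.1 : End F (Fin 3 → F)) 1 1 :=
    Submodule.eq_of_le_of_finrank_eq ((Submodule.span_singleton_le_iff_mem _ _).2 hv)
      (by rw [finrank_span_singleton hv0, p4])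
  refine ⟨v, ha, fun u => ?_⟩
  have := k2 (u - stdU (Fin 3) σ u v • v) (by
    rw [hB.eq_perp_of_isCompl hC hp, ← hs]; exact sub_mem_perp ha u)
  rw [map_sub, map_smul, k1 v hv, sub_eq_iff_eq_add] at this
  rw [← hg, this]
  module

theorem UF.card_inv (h : UF σ q) (hq : Odd q) (Q : Cfsg.SU 3 F q → Prop) (P : (Fin 3 → F) → Prop)
    (hQ : ∀ x v, Rf σ x v → (Q x ↔ P v)) :
    Nat.card {x : Cfsg.SU 3 F q // x ≠ 1 ∧ x * x = 1 ∧ Q x} * (q + 1) =
      Nat.card {v : Fin 3 → F // stdU (Fin 3) σ v v = 1 ∧ P v} := by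
  have h2 := h.two_ne_zero hq
  choose T hT using @UF.exists_rf F _ _ σ q h
  let f : {v : Fin 3 → F // stdU (Fin 3) σ v v = 1 ∧ P v} →
      {x : Cfsg.SU 3 F q // x ≠ 1 ∧ x * x = 1 ∧ Q x} :=
    fun v => ⟨T v.2.1, (hT _).ne_one h hq, (hT _).sq, (hQ _ _ (hT _)).2 v.2.2⟩
  have := Fintype.ofFinite {x : Cfsg.SU 3 F q // x ≠ 1 ∧ x * x = 1 ∧ Q x}
  rw [← Nat.card_congr (Equiv.sigmaFiberEquiv f), Nat.card_sigma, Nat.card_eq_fintype_card,
    ← smul_eq_mul, ← Finset.card_univ, ← Finset.sum_const]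
  refine Finset.sum_congr rfl fun x _ => ?_
  obtain ⟨v, hv⟩ := h.exists_rf_of_inv hq x.2.1 x.2.2.1
  rw [← h.card_norm_one]
  refine Nat.card_eq_of_bijective (fun c => ⟨⟨c.1 • v, (hv.smul c.2).1,
    (hQ _ _ (hv.smul c.2)).1 x.2.2.2⟩, Subtype.ext ((hT _).unique (hv.smul c.2))⟩) ⟨fun a b hab => ?_, ?_⟩
  · exact Subtype.ext (smul_left_injective F hv.ne_zero (congrArg (·.1.1) hab))
  · rintro ⟨w, hw⟩
    have := (hv.eq_iff h2 (hT w.2.1)).1 (congrArg Subtype.val hw)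
    exact ⟨⟨_, hv.norm_of_smul (this ▸ w.2.1)⟩, Subtype.ext (Subtype.ext this.symm)⟩

theorem Rf.exists_conj (h : UF σ q) {x y : Cfsg.SU 3 F q} {v w : Fin 3 → F} (hx : Rf σ x v)
    (hy : Rf σ y w) : ∃ g : Cfsg.SU 3 F q, g * x * g⁻¹ = y := by
  have hB := h.isEps_std (Fin 3)
  obtain ⟨e, he, he'⟩ := witt (h.good hB) (h.good hB) rfl (v := fun _ : Unit => v) (v' := fun _ => w)
    (linearIndependent_unique_iff.2 hx.ne_zero) (linearIndependent_unique_iff.2 hy.ne_zero)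
    fun _ _ => hy.1.trans hx.1.symm
  have hd := h.det_norm ((h.guEquiv 3).symm ⟨e, he⟩)
  rw [← LinearMap.det_toLin', ← h.guEquiv_coe, MulEquiv.apply_symm_apply] at hd
  have hμ : σ (LinearMap.det (e : End F (Fin 3 → F))) * σ (σ (LinearMap.det (e : End F (Fin 3 → F)))) = 1 := by
    rw [h.invol, mul_comm]; exact hd
  obtain ⟨z, h1, -, h3, -⟩ := exists_scalar_on hB (single_disjoint (hy.1 ▸ one_ne_zero)) hμ
  obtain ⟨g, hg⟩ := h.exists_su (z * ⟨e, he⟩) (by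
    change LinearMap.det ((z.1 : End F (Fin 3 → F)) * (e : End F (Fin 3 → F))) = 1
    rw [map_mul, h3, finrank_span_singleton hy.ne_zero, pow_one, mul_comm]; exact hd)
  refine ⟨g, (hx.conj h g).unique ?_⟩
  rw [hg, show (z * ⟨e, he⟩ : Isom _).1 v = z.1 (e v) from rfl, he' (),
    h1 _ (Submodule.mem_span_singleton_self w)]
  exact hy.smul hμ

omit [Fintype F] in
theorem IsEps.aniso_of_finrank_one {V : Type*} [AddCommGroup V] [Module F V] {B : Sesq σ V} {ε : F}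
    (hB : IsEps B ε) (hd : finrank F V = 1) {w : V} (hw : w ≠ 0) : B w w ≠ 0 := fun h =>
  hw (hB.nondeg w fun y => by
    obtain ⟨c, rfl⟩ := exists_smul_eq_of_finrank_eq_one hd hw y
    simp [h])

theorem UF.perp_two (h : UF σ q) {e w : Fin 3 → F} (he : stdU (Fin 3) σ e e = 1)
    (hw : stdU (Fin 3) σ w w ≠ 0) (hwe : stdU (Fin 3) σ w e = 0) :
    Nat.card {y : Fin 3 → F // stdU (Fin 3) σ y y = 1 ∧ stdU (Fin 3) σ y e = 0 ∧
      stdU (Fin 3) σ y w = 0} = q + 1 ∧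
    ∀ y, y ≠ 0 → stdU (Fin 3) σ y e = 0 → stdU (Fin 3) σ y w = 0 → stdU (Fin 3) σ y y ≠ 0 := by
  have hB := h.isEps_std (Fin 3)
  have h0 : e ≠ 0 := by rintro rfl; simp at he
  have hW := hB.restrict_perp (single_disjoint (he ▸ one_ne_zero))
  have hm : ∀ {y}, y ∈ perp (stdU (Fin 3) σ) (Submodule.span F {e}) ↔ stdU (Fin 3) σ y e = 0 := by
    simp [mem_perp_span]
  let w' : perp (stdU (Fin 3) σ) (Submodule.span F {e}) := ⟨w, hm.2 hwe⟩
  have hU := hW.restrict_perp (single_disjoint (v := w') hw)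
  have hm' : ∀ {y}, y ∈ perp (res (stdU (Fin 3) σ) _) (Submodule.span F {w'}) ↔
      stdU (Fin 3) σ y w = 0 := by simp [mem_perp_span, w', res_apply]
  have hd := hW.finrank_perp (Submodule.span F {w'})
  rw [finrank_span_singleton (fun h1 => hw (by rw [show w = 0 from congrArg Subtype.val h1]; simp)),
    h.finrank_perp_unit h0] at hd
  refine ⟨?_, fun y h1 h2 h3 => hU.aniso_of_finrank_one (by omega) (w := ⟨⟨y, hm.2 h2⟩, hm'.2 h3⟩)
    fun h4 => h1 (congrArg (·.1.1) h4)⟩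
  have := h.card_unit_vec hU (n := 0) (by omega) (c := 1) (map_one σ) one_ne_zero
  simp only [pow_zero, one_mul, uq, zero_add, Nat.not_even_one, if_false, pow_one] at this
  rw [← this]
  exact Nat.card_congr
    { toFun := fun y => ⟨⟨⟨y.1, hm.2 y.2.2.1⟩, hm'.2 y.2.2.2⟩, y.2.1⟩
      invFun := fun y => ⟨y.1.1.1, y.2, hm.1 y.1.1.2, hm'.1 y.1.2⟩ }

omit [Fintype F] in
theorem norm_sub_proj {V : Type*} [AddCommGroup V] [Module F V] {B : Sesq σ V} (hB : IsEps B 1)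
    {e : V} (he : B e e = 1) (v : V) :
    B (v - B v e • e) (v - B v e • e) = B v v - B v e * σ (B v e) := by
  simp only [map_sub, LinearMap.map_smulₛₗ, LinearMap.sub_apply, LinearMap.smul_apply, he,
    RingHom.id_apply, smul_eq_mul, hB.herm v e]
  ring

theorem Rf.exists_mid (h : UF σ q) (hq : Odd q) {t : Cfsg.SU 3 F q} {e w : Fin 3 → F} (ht : Rf σ t e)
    (hw : stdU (Fin 3) σ w w ≠ stdU (Fin 3) σ w e * σ (stdU (Fin 3) σ w e)) :
    ∃ y u, Rf σ y u ∧ Commute t y ∧ stdU (Fin 3) σ w u = 0 := by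
  have hB := h.isEps_std (Fin 3)
  obtain ⟨⟨u, h1, h2, h3⟩⟩ := (Nat.card_pos_iff.1 ((Nat.succ_pos q).trans_eq
    (h.perp_two ht.1 (w := w - stdU (Fin 3) σ w e • e)
      (by rw [norm_sub_proj hB ht.1]; exact sub_ne_zero.2 hw) (by simp [ht.1])).1.symm)).1
  obtain ⟨y, hy⟩ := h.exists_rf h1
  exact ⟨y, u, hy, (ht.commute_iff h hq hy).2 (Or.inr h2), hB.refl (by simpa [h2] using h3)⟩

theorem Rf.mid_iff (h : UF σ q) (hq : Odd q) {t x : Cfsg.SU 3 F q} {e v : Fin 3 → F} (ht : Rf σ t e)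
    (hx : Rf σ x v) (hc : ¬ Commute t x) :
    (∃ y : Cfsg.SU 3 F q, y ≠ 1 ∧ y * y = 1 ∧ Commute t y ∧ Commute y x) ↔
      stdU (Fin 3) σ v e * σ (stdU (Fin 3) σ v e) ≠ 1 := by
  have hB := h.isEps_std (Fin 3)
  constructor
  · rintro ⟨y, h1, h2, h3, h4⟩
    obtain ⟨u, hy⟩ := h.exists_rf_of_inv hq h1 h2
    have a1 := ((ht.commute_iff h hq hy).1 h3).resolve_left fun h => hc (h ▸ h4)
    have a2 := ((hy.commute_iff h hq hx).1 h4).resolve_left fun h => hc (h ▸ h3)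
    have a3 := (h.perp_two ht.1 (hy.1 ▸ one_ne_zero) a1).2 (v - stdU (Fin 3) σ v e • e)
      (fun h0 => hc ((ht.commute_iff h hq hx).2 (Or.inl ((ht.eq_iff (h.two_ne_zero hq) hx).2
        (sub_eq_zero.1 h0))))) (by simp [ht.1]) (by simp [a2, hB.refl a1])
    rw [norm_sub_proj hB ht.1, hx.1] at a3
    exact (sub_ne_zero.1 a3).symm
  · intro h1
    obtain ⟨y, u, hy, h2, h3⟩ := ht.exists_mid h hq (w := v) (hx.1 ▸ h1.symm)
    exact ⟨y, hy.ne_one h hq, hy.sq, h2, (hy.commute_iff h hq hx).2 (Or.inr h3)⟩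

theorem UF.card_decomp (h : UF σ q) {e : Fin 3 → F} (he : stdU (Fin 3) σ e e = 1) (P : F → Prop)
    [DecidablePred P] [DecidableEq F] :
    Nat.card {v : Fin 3 → F // stdU (Fin 3) σ v v = 1 ∧ v ≠ stdU (Fin 3) σ v e • e ∧
      P (stdU (Fin 3) σ v e)} = ∑ a with P a,
        if a * σ a = 1 then (q ^ 2 - 1) * (q + 1) else q * (q ^ 2 - 1) := by
  classical
  have hB := h.isEps_std (Fin 3)
  have h0 : e ≠ 0 := by rintro rfl; simp at he
  have hW := hB.restrict_perp (single_disjoint (he ▸ one_ne_zero))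
  have hm : ∀ {y}, y ∈ perp (stdU (Fin 3) σ) (Submodule.span F {e}) ↔ stdU (Fin 3) σ y e = 0 := by
    simp [mem_perp_span]
  rw [← Nat.card_congr (Equiv.sigmaFiberEquiv fun v : {v : Fin 3 → F // stdU (Fin 3) σ v v = 1 ∧
    v ≠ stdU (Fin 3) σ v e • e ∧ P (stdU (Fin 3) σ v e)} => stdU (Fin 3) σ v.1 e), Nat.card_sigma,
    Finset.sum_filter]
  refine Finset.sum_congr rfl fun a _ => ?_
  by_cases hP : P a
  swap
  · rw [if_neg hP, Nat.card_eq_zero]
    exact Or.inl ⟨fun v => hP (v.2 ▸ v.1.2.2.2)⟩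
  rw [if_pos hP]
  have key : Nat.card {v : {v : Fin 3 → F // stdU (Fin 3) σ v v = 1 ∧
      v ≠ stdU (Fin 3) σ v e • e ∧ P (stdU (Fin 3) σ v e)} // stdU (Fin 3) σ v.1 e = a} =
      Nat.card {w : perp (stdU (Fin 3) σ) (Submodule.span F {e}) //
        res (stdU (Fin 3) σ) _ w w = 1 - a * σ a ∧ w ≠ 0} := by
    refine Nat.card_eq_of_bijective (fun v => ⟨⟨_, sub_mem_perp he v.1.1⟩, ?_, fun h1 =>
      v.1.2.2.1 (sub_eq_zero.1 (congrArg Subtype.val h1))⟩) ⟨fun v w hvw => ?_, ?_⟩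
    · rw [res_apply, norm_sub_proj hB he, v.1.2.1, v.2]
    · have := congrArg (·.1.1) hvw
      simp only [v.2, w.2, sub_left_inj] at this
      exact Subtype.ext (Subtype.ext this)
    · rintro ⟨⟨w, hw⟩, h1, h2⟩
      have h3 : stdU (Fin 3) σ (w + a • e) e = a := by simp [hm.1 hw, he]
      refine ⟨⟨⟨w + a • e, ?_, ?_, h3.symm ▸ hP⟩, h3⟩, Subtype.ext (Subtype.ext (by simp [hm.1 hw, he]))⟩
      · have := norm_sub_proj hB he (w + a • e)
        rw [h3, add_sub_cancel_right, show stdU (Fin 3) σ w w = _ from h1] at this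
        linear_combination -this
      · rw [h3]
        exact fun h4 => h2 (Subtype.ext (add_eq_right.1 h4))
  rw [key]
  split_ifs with h1
  · have := h.card_iso_vec hW (n := 1) (h.finrank_perp_unit h0)
    have := finite_of_finiteDimensional F (perp (stdU (Fin 3) σ) (Submodule.span F {e}))
    rw [h1, sub_self]
    have h2 := Nat.card_congr (Equiv.optionSubtypeNe (⟨0, by simp⟩ :
      {w : perp (stdU (Fin 3) σ) (Submodule.span F {e}) // res (stdU (Fin 3) σ) _ w w = 0}))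
    rw [Finite.card_option, Nat.card_congr ((Equiv.subtypeEquivRight (q := fun x => x.1 ≠ 0)
      fun x => Subtype.ext_iff.not).trans (Equiv.subtypeSubtypeEquivSubtypeInter _ (· ≠ 0)))] at h2
    simp only [uq, Nat.reduceAdd, even_two, if_true, Nat.not_even_one, if_false, pow_one] at *
    omega
  · have := h.card_unit_vec hW (n := 1) (h.finrank_perp_unit h0) (c := 1 - a * σ a)
      (by rw [map_sub, map_one, h.norm_fixed]) (sub_ne_zero.2 (Ne.symm h1))
    simp only [uq, Nat.reduceAdd, even_two, if_true, pow_one] at this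
    rw [← this]
    refine Nat.card_congr (Equiv.subtypeEquivRight fun w => and_iff_left_of_imp ?_)
    rintro h2 rfl
    exact h1 (sub_eq_zero.1 (h2.symm.trans (by simp))).symm

end Cfsg.Agent.H5
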