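import Cfsg.Agent.H5.SU3Inv

/-! Unipotent elements of `SU(3, q)` and isotropic points. -/

set_option autoImplicit false

namespace Cfsg.Agent.H5

open Module Matrix

variable {F : Type*} [Field F] {σ : F →+* F} {q : ℕ}
variable {V : Type*} [AddCommGroup V] [Module F V] [FiniteDimensional F V] {B : Sesq σ V} {ε : F}

theorem IsEps.parallel_of_iso (hB : IsEps B ε) (hd : finrank F V = 3) {v s : V} (hs : s ≠ 0)
    (h1 : B s s = 0) (h2 : B v v = 0) (h3 : B v s = 0) : ∃ c : F, v = c • s := by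
  by_contra h
  have hl : LinearIndependent F ![s, v] := (LinearIndependent.pair_iff' hs).2 fun a ha => h ⟨a, ha.symm⟩
  have h4 := hB.finrank_perp (Submodule.span F (Set.range ![s, v]))
  have h5 : Submodule.span F (Set.range ![s, v]) ≤ perp B (Submodule.span F (Set.range ![s, v])) := by
    rw [Submodule.span_le]
    rintro _ ⟨i, rfl⟩
    rw [SetLike.mem_coe, mem_perp_span]
    rintro _ ⟨j, rfl⟩
    fin_cases i <;> fin_cases j <;> simp [h1, h2, h3, hB.refl h3]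
  have h6 := Submodule.finrank_mono h5
  rw [finrank_span_eq_card hl, Fintype.card_fin] at h4 h6
  omega

omit [FiniteDimensional F V] in
theorem eq_of_nilpotent_of_eigen {f : End F V} {μ c : F} (h : IsNilpotent (f - μ • 1)) {v : V}
    (hv : v ≠ 0) (hc : f v = c • v) : c = μ := by
  obtain ⟨k, hk⟩ := h
  have h1 : ∀ k, ((f - μ • 1 : End F V) ^ k) v = (c - μ) ^ k • v := fun k => by
    induction k with
    | zero => simp
    | succ k ih => rw [pow_succ', End.mul_apply, ih, map_smul, pow_succ, mul_smul]; simp [hc, sub_smul]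
  have := h1 k
  rw [hk, LinearMap.zero_apply, eq_comm, smul_eq_zero] at this
  exact sub_eq_zero.1 (pow_eq_zero_iff'.1 (this.resolve_right hv)).1

omit [FiniteDimensional F V] in
theorem perp_of_eigen (hB : IsEps B ε) (g : Isom B) {μ : F} (hμ : μ * σ μ = 1) {v : V}
    (hv : g.1 v = μ • v) (u : V) : B (g.1 u - μ • u) v = 0 :=
  ranP_le_perp hB g hμ 1 ⟨u, by simp⟩ v (by simp [hv])

omit [FiniteDimensional F V] in
theorem exists_sq_zero_of_nilpotent {N : End F V} (h : IsNilpotent N) {u : V} (hu : N u ≠ 0) :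
    ∃ w, N w ≠ 0 ∧ N (N w) = 0 := by
  obtain ⟨k, hk⟩ := h
  have h1 : (N ^ k) (N u) = 0 := by rw [hk]; rfl
  clear hk
  induction k generalizing u with
  | zero => exact absurd h1 hu
  | succ k ih =>
    by_cases h2 : N (N u) = 0
    · exact ⟨u, hu, h2⟩
    · exact ih h2 (by rwa [pow_succ, End.mul_apply] at h1)

theorem exists_iso_fixed (hB : IsEps B ε) (hd : finrank F V = 3) (g : Isom B) {μ : F}
    (hμ : μ * σ μ = 1) (h : IsNilpotent ((g.1 : End F V) - μ • 1)) (h0 : ¬ ∀ v, g.1 v = μ • v) :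
    ∃ s, s ≠ 0 ∧ B s s = 0 ∧ g.1 s = μ • s ∧
      ∀ v (c : F), B v v = 0 → g.1 v = c • v → ∃ a : F, v = a • s := by
  obtain ⟨u, hu⟩ := not_forall.1 h0
  obtain ⟨w, h1, h2⟩ := exists_sq_zero_of_nilpotent h (u := u) (by simpa [sub_eq_zero] using hu)
  have h3 := sub_eq_zero.1 (show g.1 (g.1 w - μ • w) - μ • (g.1 w - μ • w) = 0 from h2)
  have h4 := perp_of_eigen hB g hμ h3 w
  refine ⟨g.1 w - μ • w, h1, h4, h3, fun v c h5 h6 => ?_⟩
  by_cases hv : v = 0
  · exact ⟨0, by simp [hv]⟩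
  obtain rfl := eq_of_nilpotent_of_eigen h hv h6
  exact hB.parallel_of_iso hd h1 h4 h5 (hB.refl (perp_of_eigen hB g hμ h6 w))

theorem sub_mem_span_of_perp (hB : IsEps B ε) (hd : finrank F V = 3) (g : Isom B) {μ : F}
    (hμ : μ * σ μ = 1) (h : IsNilpotent ((g.1 : End F V) - μ • 1)) {s : V} (hs : s ≠ 0)
    (h1 : B s s = 0) (h2 : g.1 s = μ • s) {u : V} (hu : B u s = 0) :
    ∃ a : F, g.1 u - μ • u = a • s := by
  have hm : ∀ {y}, y ∈ perp B (Submodule.span F {s}) ↔ B y s = 0 := by simp [mem_perp_span]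
  have hi : ∀ y ∈ perp B (Submodule.span F {s}),
      ((g.1 : End F V) - μ • 1 : End F V) y ∈ perp B (Submodule.span F {s}) :=
    fun y _ => hm.2 (perp_of_eigen hB g hμ h2 y)
  have h3 := hB.finrank_perp (Submodule.span F {s})
  rw [finrank_span_singleton hs] at h3
  have h4 := LinearMap.aeval_self_charpoly (((g.1 : End F V) - μ • 1 : End F V).restrict hi)
  rw [(Module.End.isNilpotent.restrict hi h).charpoly_eq_X_pow_finrank,
    show finrank F (perp B (Submodule.span F {s})) = 2 by omega, map_pow, Polynomial.aeval_X] at h4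
  have h5 := congrArg Subtype.val (LinearMap.congr_fun h4 ⟨u, hm.2 hu⟩)
  have h6 := sub_eq_zero.1 (show g.1 (g.1 u - μ • u) - μ • (g.1 u - μ • u) = 0 from h5)
  exact hB.parallel_of_iso hd hs h1 (perp_of_eigen hB g hμ h6 u) (perp_of_eigen hB g hμ h2 u)

theorem isNilpotent_mul_of_fixed (hB : IsEps B ε) (hd : finrank F V = 3) (g k : Isom B) {μ ν : F}
    (hμ : μ * σ μ = 1) (hν : ν * σ ν = 1) (hg : IsNilpotent ((g.1 : End F V) - μ • 1))
    (hk : IsNilpotent ((k.1 : End F V) - ν • 1)) {s : V} (hs : s ≠ 0) (h1 : B s s = 0)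
    (h2 : g.1 s = μ • s) (h3 : k.1 s = ν • s) :
    IsNilpotent (((g * k).1 : End F V) - (μ * ν) • 1) := by
  have e : ∀ u, (((g * k).1 : End F V) - (μ * ν) • 1 : End F V) u =
      (g.1 (k.1 u - ν • u) - μ • (k.1 u - ν • u)) + μ • (k.1 u - ν • u) + ν • (g.1 u - μ • u) :=
    fun u => by
      change g.1 (k.1 u) - (μ * ν) • u = _
      rw [map_sub, map_smul]; module
  refine ⟨3, LinearMap.ext fun u => ?_⟩
  have a1 : B ((((g * k).1 : End F V) - (μ * ν) • 1 : End F V) u) s = 0 := by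
    rw [e]
    simp only [map_add, map_smul, LinearMap.add_apply, LinearMap.smul_apply, perp_of_eigen hB g hμ h2,
      perp_of_eigen hB k hν h3, smul_zero, add_zero]
  rw [pow_succ, End.mul_apply]
  generalize (((g * k).1 : End F V) - (μ * ν) • 1 : End F V) u = w at a1
  obtain ⟨a, ha⟩ := sub_mem_span_of_perp hB hd g hμ hg hs h1 h2 a1
  obtain ⟨b, hb⟩ := sub_mem_span_of_perp hB hd k hν hk hs h1 h3 a1
  rw [sq, End.mul_apply, e w, ha, hb, map_smul, h2, e]
  simp only [map_add, map_sub, map_smul, h2, h3, LinearMap.zero_apply]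
  module

theorem UF.psu_pelt_iff [Fintype F] (h : UF σ q) (p : ℕ) [Fact p.Prime] [CharP F p] {n : ℕ}
    (g : Cfsg.SU (n + 1) F q) :
    (∃ k, (QuotientGroup.mk g : Cfsg.PSU (n + 1) F q) ^ p ^ k = 1) ↔ ∃ μ, μ * σ μ = 1 ∧
      IsNilpotent (((h.guEquiv _ (suToGU _ F q g)).1 : End F (Fin (n + 1) → F)) - μ • 1) := by
  have key : ∀ μ : F, (((h.guEquiv _ (suToGU _ F q g)).1 : End F (Fin (n + 1) → F)) - μ • 1) =
      Matrix.toLinAlgEquiv' (g.1.1 - μ • 1) := fun μ => by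
    rw [map_sub, map_smul, map_one]; rfl
  have hp : ∀ (μ : F) k, (g.1.1 - μ • 1) ^ p ^ k = (g ^ p ^ k).1.1 - μ ^ p ^ k • 1 := fun μ k => by
    rw [sub_pow_char_pow_of_commute _ _ ((Commute.one_right _).smul_right μ), smul_pow, one_pow]
    simp
  simp only [key, ← QuotientGroup.mk_pow, QuotientGroup.eq_one_iff, h.mem_center_SU]
  constructor
  · rintro ⟨k, c, hc⟩
    obtain ⟨μ, rfl⟩ := Finite.surjective_of_injective (iterateFrobenius F p k).injective c
    refine ⟨μ, (iterateFrobenius F p k).injective ?_, IsNilpotent.map ⟨p ^ k, ?_⟩ _⟩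
    · have := congrFun (congrFun (h.su_mul (g ^ p ^ k)) 0) 0
      rw [hc] at this
      simpa [iterateFrobenius_def, mul_pow, Matrix.mul_apply, Matrix.one_apply] using this
    · rw [hp, hc, iterateFrobenius_def, sub_self]
  · rintro ⟨μ, -, k, hk⟩
    rw [← map_pow, map_eq_zero_iff _ (AlgEquiv.injective _)] at hk
    exact ⟨k, _, sub_eq_zero.1 ((hp μ k).symm.trans (pow_eq_zero_of_le
      (Nat.lt_pow_self (Fact.out : p.Prime).one_lt).le hk))⟩

/-- In the normaliser of a non-trivial `p`-subgroup of `PSU(3, q)` the `p`-elements are closed under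
multiplication. -/
theorem UF.psu3_pelt_mul [Fintype F] (h : UF σ q) (p : ℕ) [Fact p.Prime] [CharP F p]
    {Q : Subgroup (Cfsg.PSU 3 F q)} (hQ : IsPGroup p Q) (h0 : Q ≠ ⊥) {x y : Cfsg.PSU 3 F q}
    (hx : x ∈ Subgroup.normalizer (Q : Set (Cfsg.PSU 3 F q)))
    (hy : y ∈ Subgroup.normalizer (Q : Set (Cfsg.PSU 3 F q)))
    (h1 : ∃ k, x ^ p ^ k = 1) (h2 : ∃ k, y ^ p ^ k = 1) : ∃ k, (x * y) ^ p ^ k = 1 := by
  have hB := h.isEps_std (Fin 3)
  have hd : finrank F (Fin 3 → F) = 3 := by simp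
  have := (Subgroup.nontrivial_iff_ne_bot Q).2 h0
  obtain ⟨⟨⟨z, hzQ⟩, hz⟩, hz1⟩ := @_root_.exists_ne _ hQ.center_nontrivial 1
  obtain ⟨z, rfl⟩ := QuotientGroup.mk_surjective z
  obtain ⟨μ, a1, a2⟩ := (h.psu_pelt_iff p z).1 ((hQ ⟨_, hzQ⟩).imp fun k hk => congrArg Subtype.val hk)
  obtain ⟨s, s1, s2, s3, s4⟩ := exists_iso_fixed hB hd _ a1 a2 fun h3 => hz1 (Subtype.ext (Subtype.ext
    ((QuotientGroup.eq_one_iff _).2 (h.mem_center_SU.2 ⟨μ, Matrix.toLin'.injective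
      (LinearMap.ext fun v => (h3 v).trans (by simp))⟩))))
  change z.1.1 *ᵥ s = μ • s at s3
  have k1 : ∀ (g : Cfsg.SU 3 F q) (c : F), (g⁻¹ * z * g).1.1 *ᵥ s = c • s → ∃ a : F, g.1.1 *ᵥ s = a • s :=
    fun g c hg => s4 _ c ((h.su_pres g s s).trans s2) (by
      change z.1.1 *ᵥ _ = _
      rw [← mulVec_smul, ← hg, ← su_mul_mulVec, ← su_mul_mulVec, ← mul_assoc, mul_inv_cancel_left])
  have k2 : ∀ g : Cfsg.SU 3 F q, (g : Cfsg.PSU 3 F q) ∈ Q → ∃ a : F, g.1.1 *ᵥ s = a • s := fun g hg => by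
    have := congrArg Subtype.val (Subgroup.mem_center_iff.1 hz ⟨g, hg⟩)
    obtain ⟨c, hc⟩ := h.mem_center_SU.1 (QuotientGroup.eq.1 (show ((g * z : Cfsg.SU 3 F q) :
      Cfsg.PSU 3 F q) = (z * g : Cfsg.SU 3 F q) from this))
    refine k1 g (c * μ) ?_
    rw [show g⁻¹ * z * g = z * ((g * z)⁻¹ * (z * g)) by group, su_mul_mulVec, hc, smul_mulVec, one_mulVec,
      mulVec_smul, s3, smul_smul]
  have k3 : ∀ g : Cfsg.SU 3 F q, (g : Cfsg.PSU 3 F q) ∈ Subgroup.normalizer (Q : Set (Cfsg.PSU 3 F q)) →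
      ∃ a : F, g.1.1 *ᵥ s = a • s := fun g hg => by
    obtain ⟨c, hc⟩ := k2 (g⁻¹ * z * g) ((Subgroup.mem_normalizer_iff''.1 hg _).1 hzQ)
    exact k1 g c hc
  obtain ⟨x, rfl⟩ := QuotientGroup.mk_surjective x
  obtain ⟨y, rfl⟩ := QuotientGroup.mk_surjective y
  obtain ⟨a, b1, b2⟩ := (h.psu_pelt_iff p x).1 h1
  obtain ⟨b, c1, c2⟩ := (h.psu_pelt_iff p y).1 h2
  obtain ⟨a', b3⟩ := k3 x hx
  obtain ⟨b', c3⟩ := k3 y hy
  obtain rfl := eq_of_nilpotent_of_eigen b2 s1 b3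
  obtain rfl := eq_of_nilpotent_of_eigen c2 s1 c3
  refine (h.psu_pelt_iff p (x * y)).2 ⟨a' * b', by rw [map_mul, mul_mul_mul_comm, b1, c1, one_mul], ?_⟩
  rw [map_mul, map_mul]
  exact isNilpotent_mul_of_fixed hB hd _ _ b1 c1 b2 c2 s1 s2 b3 c3

end Cfsg.Agent.H5
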