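import Cfsg.Agent.H7.TT0
import Cfsg.Agent.S2251
import Cfsg.Agent.H2.R3a

/-! Two-transitive actions of the Suzuki groups. -/

set_option autoImplicit false

namespace Cfsg.Agent.H5

open MulAction H2 H2.Suz

theorem sz_not_trans {F : Type*} [Field F] {m : ℕ} [hF : SzF F m] {M : Subgroup (Sz F m)} (hM : M ≠ ⊤)
    (h : ∀ x y : Pt F m, ∃ g ∈ M, g • x = y) : False := by
  have := finite_Sz F m
  have := finite_Pt F m
  have := Fintype.ofFinite (Pt F m)
  have hq := hF.card
  have hm := hF.pos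
  have hc := card_Pt F m
  have : Finite F := Nat.finite_of_card_ne_zero (by rw [hq]; positivity)
  have h8 : 2 ^ (2 * m + 1) = 2 * (2 ^ m) ^ 2 := by ring
  have h2 : 2 ≤ 2 ^ m := Nat.le_self_pow (by omega) 2
  have h4 : 8 ≤ 2 * (2 ^ m) ^ 2 := by nlinarith
  have big : Nat.card F ^ 2 + 1 ≤ Nat.card M := by
    have := orb_stab M (inf F m) Finset.univ fun y => by simpa using h _ y
    rw [Finset.card_univ, ← Nat.card_eq_fintype_card, hc] at this
    exact this ▸ Nat.le_mul_of_pos_right _ Nat.card_pos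
  have third : ∀ p p' : Pt F m, ∃ r, r ≠ p ∧ r ≠ p' := fun p p' => by
    classical
    obtain ⟨r, -, hr⟩ := Finset.exists_mem_notMem_of_card_lt_card (s := {p, p'}) (t := Finset.univ) (by
      rw [Finset.card_univ, ← Nat.card_eq_fintype_card, hc, hq, h8]
      exact Finset.card_le_two.trans_lt (by nlinarith [Nat.pow_le_pow_left h4 2]))
    exact ⟨r, by simpa using hr⟩
  rcases subgroup_cases M with ⟨p, hp⟩ | ⟨x, hx, h1⟩ | ⟨K, x, hy, h1⟩
  · obtain ⟨r, hr, -⟩ := third p p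
    obtain ⟨g, hg, e⟩ := h p r
    exact hr (e.symm.trans (hp hg))
  · rcases elt_cases x with ⟨p, hp⟩ | ⟨p, p', hne, hg⟩ | hd
    · exact hx p hp
    · have x1 : x ≠ 1 := by rintro rfl; exact hx (inf F m) (one_mem _)
      obtain ⟨r, hr, hr'⟩ := third p p'
      obtain ⟨g, hg', rfl⟩ := h p r
      have h3 := (Subgroup.mem_normalizer_iff.1 (h1 hg') x).1 (self_mem_Cen x)
      rw [Cen_eq_Tp hne hg x1] at h3
      rcases fix_cases hne h3 (by simpa [mul_inv_eq_one] using x1) (r := g • p)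
        (by rw [mul_smul, inv_smul_smul, mul_smul, hg.1]) with e | e
      exacts [hr e, hr' e]
    · have h3 := (Subgroup.card_le_of_le h1).trans hd.card_normalizer_le
      rw [hq, h8] at big
      rcases hd.card_Cen with e | e <;> rw [e, h8, pow_succ 2 m] at h3
      · nlinarith [Nat.mul_le_mul_left (2 * (2 ^ m) ^ 2) h4]
      · have : 2 * (2 ^ m) ^ 2 - 2 ^ m * 2 ≤ 2 * (2 ^ m) ^ 2 := Nat.sub_le _ _
        nlinarith [Nat.mul_le_mul_left (2 * (2 ^ m) ^ 2) h4]
  · obtain ⟨k, hk, hd, hK⟩ := subfield_card (m := m) K hy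
    have := SzF_galois (F := F) (m := m) hk
    obtain ⟨e⟩ := SzK_equiv (m := m) K (K' := GaloisField 2 (2 * k + 1)) hK
    have hkm : k ≠ m := by
      rintro rfl
      have h3 : K = ⊤ := subfield_eq_of_card (by
        rw [hK, ← SzF.card (F := F) (m := k)]
        exact (Nat.card_congr Subfield.topEquiv.toEquiv).symm)
      rw [h3, SzK_top] at h1
      apply hM
      rw [← conjS_one M, ← inv_mul_cancel x, ← conjS_conjS, h1, conjS_top]
    obtain ⟨d, hd⟩ := hd
    have h3 : 3 ≤ d := by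
      rcases d with _ | _ | _ | d <;> omega
    rw [Nat.card_congr (((conjSEquiv x M).trans (MulEquiv.subgroupCongr h1)).trans e).toEquiv, card_Sz,
      this.card, hq, hd, pow_mul] at big
    generalize hs : 2 ^ (2 * k + 1) = s at big
    have s1 : 1 ≤ s := hs ▸ Nat.one_le_two_pow
    have h4 : s ^ 3 ≤ s ^ d := Nat.pow_le_pow_right s1 h3
    obtain ⟨s, rfl⟩ := Nat.exists_eq_add_of_le' s1
    have h5 := Nat.pow_le_pow_left h4 2
    rw [Nat.add_sub_cancel] at big
    nlinarith [Nat.zero_le (s ^ 2), Nat.zero_le (s ^ 3), Nat.zero_le (s ^ 4), Nat.zero_le (s ^ 5),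
      Nat.zero_le (s ^ 6)]

/-- Two-transitive actions of the Suzuki groups. -/
theorem pieceR_sz {F : Type} [Field F] [Fintype F] {m : ℕ} (hm : 1 ≤ m) (hF : Fintype.card F = 2 ^ (2 * m + 1))
    {Ω : Type*} [Finite Ω] [MulAction (Lie.Sz F (2 ^ (m + 1))) Ω] (h : H7.TT (Lie.Sz F (2 ^ (m + 1))) Ω) :
    H7.TTConcl (Lie.Sz F (2 ^ (m + 1))) (Nat.card Ω) := by
  have := SzF.of_fintype hm hF
  have := finite_Sz F m
  have := finite_Pt F m
  letI := MulAction.compHom Ω (equivLie F m).toMonoidHom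
  have h' : H7.TT (Sz F m) Ω := h.comp _ (equivLie F m).surjective
  have hX : H7.TT (Sz F m) (Pt F m) := ⟨Finite.one_lt_card_iff_nontrivial.1 (by
    rw [card_Pt]; have := Nat.card_pos (α := F); nlinarith), fun _ _ _ _ => exists_two_trans⟩
  rcases h'.compare hX with tr | ⟨e, -⟩
  · obtain ⟨ω, -⟩ := h.nt
    obtain ⟨g, hg⟩ := h'.exists_ne_smul ω
    exact (sz_not_trans (M := stabilizer (Sz F m) ω) (fun e => hg (e ▸ Subgroup.mem_top g :
      g ∈ stabilizer (Sz F m) ω)) (tr ω)).elim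
  · exact .inr <| .inr <| .inr <| .inl ⟨F, _, _, m, hm, hF, ⟨MulEquiv.refl _⟩, by
      rw [e, card_Pt, Nat.card_eq_fintype_card]⟩

end Cfsg.Agent.H5
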