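import Mathlib

/-! Abstract counting lemmas for group actions used for subgroups of `SU(3, q)`. -/

set_option autoImplicit false

namespace Cfsg.Agent.H5

open MulAction Finset

section Act

variable {G X : Type*} [Group G] [MulAction G X]

theorem dvd_ncard_of_index (K : Subgroup G) {n : ℕ} (m : ℕ) : ∀ (S : Set X), S.Finite → S.ncard = m →
    (∀ k ∈ K, ∀ x ∈ S, k • x ∈ S) → (∀ x ∈ S, n ∣ (stabilizer K x).index) → n ∣ S.ncard := by
  induction m using Nat.strong_induction_on with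
  | _ m ih =>
    intro S hS hm hinv h
    rcases S.eq_empty_or_nonempty with rfl | ⟨x, hx⟩
    · simp
    have hsub : orbit K x ⊆ S := by
      rintro _ ⟨k, rfl⟩
      exact hinv k k.2 x hx
    have hfin := hS.subset hsub
    have h1 := Set.ncard_sdiff_add_ncard_of_subset hsub hS
    have h2 : 0 < (orbit K x).ncard := (Set.ncard_pos hfin).2 ⟨x, mem_orbit_self x⟩
    rw [← h1]
    refine Nat.dvd_add (ih _ (by omega) _ (hS.subset Set.sdiff_subset) rfl ?_ fun y hy => h y hy.1) ?_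
    · rintro k hk y ⟨hy, hy'⟩
      refine ⟨hinv k hk y hy, fun ⟨l, hl⟩ => hy' ⟨(⟨k, hk⟩ : K)⁻¹ * l, ?_⟩⟩
      simp only [mul_smul] at hl ⊢
      rw [hl]
      exact inv_smul_smul (⟨k, hk⟩ : K) y
    · rw [← index_stabilizer]; exact h x hx

theorem card_dvd_mul_ncard [Finite G] {K Z : Subgroup G} (hZ : Z ≤ K) {S : Set X} (hS : S.Finite)
    (hinv : ∀ k ∈ K, ∀ x ∈ S, k • x ∈ S) (h : ∀ x ∈ S, ∀ k ∈ K, k • x = x ↔ k ∈ Z) :
    Nat.card K ∣ Nat.card Z * S.ncard := by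
  rw [← (Z.subgroupOf K).card_mul_index,
    Nat.card_congr (Subgroup.subgroupOfEquivOfLe hZ).toEquiv]
  refine Nat.mul_dvd_mul_left _ (dvd_ncard_of_index K _ S hS rfl hinv fun x hx => ?_)
  have : stabilizer K x = Z.subgroupOf K := by
    ext k
    exact h x hx k k.2
  rw [this]

theorem card_dvd_ncard [Finite G] {K : Subgroup G} {S : Set X} (hS : S.Finite)
    (hinv : ∀ k ∈ K, ∀ x ∈ S, k • x ∈ S) (h : ∀ x ∈ S, ∀ k ∈ K, k • x = x → k = 1) :
    Nat.card K ∣ S.ncard := by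
  simpa using card_dvd_mul_ncard (Z := ⊥) bot_le hS hinv fun x hx k hk =>
    ⟨h x hx k hk, fun h => by rw [Subgroup.mem_bot.1 h, one_smul]⟩

theorem trans_of_prime [Finite G] (H : Subgroup G) {S : Set X} (hS : S.Finite)
    (hinv : ∀ k ∈ H, ∀ x ∈ S, k • x ∈ S) {p : ℕ} (hp : p ≠ 1)
    (h : ∀ x ∈ S, ∃ K ≤ H, p ∣ Nat.card K ∧ (∀ k ∈ K, k • x = x) ∧
      ∀ k ∈ K, ∀ y ∈ S, k • y = y → y = x ∨ k = 1) {x y : X} (hx : x ∈ S) (hy : y ∈ S) :
    ∃ g ∈ H, g • x = y := by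
  by_contra hn
  have hsub : orbit H x ⊆ S := by
    rintro _ ⟨k, rfl⟩
    exact hinv k k.2 x hx
  have hfin := hS.subset hsub
  have hO : ∀ k ∈ H, ∀ z ∈ orbit H x, k • z ∈ orbit H x := by
    rintro k hk _ ⟨l, rfl⟩
    exact ⟨⟨k, hk⟩ * l, mul_smul _ _ _⟩
  obtain ⟨K, hK, hpK, hKx, hK'⟩ := h x hx
  obtain ⟨L, hL, hpL, -, hL'⟩ := h y hy
  have h1 := hpL.trans (card_dvd_ncard hfin (fun k hk => hO k (hL hk)) fun z hz k hk e =>
    (hL' k hk z (hsub hz) e).resolve_left fun e' => by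
      obtain ⟨l, hl⟩ := hz
      exact hn ⟨l, l.2, hl.trans e'⟩)
  have h2 := hpK.trans (card_dvd_ncard (S := orbit H x \ {x}) (hfin.subset Set.sdiff_subset)
    (fun k hk z hz => ⟨hO k (hK hk) z hz.1, fun e => hz.2 (by
      rw [Set.mem_singleton_iff, ← hKx k hk] at e
      exact smul_left_cancel k e)⟩) fun z hz k hk e =>
    (hK' k hk z (hsub hz.1) e).resolve_left hz.2)
  rw [← Set.ncard_sdiff_singleton_add_one (mem_orbit_self x) hfin] at h1
  exact hp (Nat.dvd_one.1 ((Nat.dvd_add_right h2).1 h1))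

theorem card_eq_of_trans [Finite G] (H : Subgroup G) {S : Set X}
    (hinv : ∀ k ∈ H, ∀ x ∈ S, k • x ∈ S) {x : X} (hx : x ∈ S) (h : ∀ y ∈ S, ∃ g ∈ H, g • x = y) :
    Nat.card H = S.ncard * Nat.card (H ⊓ stabilizer G x : Subgroup G) := by
  have h1 : orbit H x = S := by
    refine Set.Subset.antisymm ?_ fun y hy => ?_
    · rintro _ ⟨k, rfl⟩
      exact hinv k k.2 x hx
    · obtain ⟨g, hg, e⟩ := h y hy
      exact ⟨⟨g, hg⟩, e⟩
  rw [← h1, ← index_stabilizer, ← (stabilizer H x).card_mul_index, mul_comm]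
  congr 1
  rw [← Nat.card_congr (Subgroup.subgroupOfEquivOfLe (inf_le_left : H ⊓ stabilizer G x ≤ H)).toEquiv]
  congr 2
  ext k
  simp [Subgroup.mem_subgroupOf, mem_stabilizer_iff, Subgroup.smul_def]

theorem sum_fix_eq [Fintype G] (H : Subgroup G) {S : Set X} (hS : S.Finite)
    (hinv : ∀ k ∈ H, ∀ x ∈ S, k • x ∈ S) {x : X} (h : ∀ y ∈ S, ∃ g ∈ H, g • x = y)
    (p : G → Prop) (hp : ∀ g ∈ H, ∀ k, p k → p (g * k * g⁻¹)) [DecidablePred fun k => k ∈ H ∧ p k]
    [DecidablePred fun k => k ∈ H ∧ k • x = x ∧ p k] :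
    ∑ k with k ∈ H ∧ p k, (S ∩ fixedBy X k).ncard = S.ncard * #{k | k ∈ H ∧ k • x = x ∧ p k} := by
  classical
  have h1 : ∀ k : G, (S ∩ fixedBy X k).ncard = #{y ∈ hS.toFinset | k • y = y} := fun k => by
    rw [← Set.ncard_coe_finset]
    congr 1
    ext y
    simp [mem_fixedBy]
  simp only [h1, card_filter]
  rw [sum_comm, Set.ncard_eq_toFinset_card S hS, ← smul_eq_mul, ← sum_const]
  refine sum_congr rfl fun y hy => ?_
  obtain ⟨g, hg, rfl⟩ := h y (hS.mem_toFinset.1 hy)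
  rw [← card_filter, ← card_filter, filter_filter]
  symm
  refine card_bijective (MulAut.conj g) (MulAut.conj g).bijective fun k => ?_
  simp only [mem_filter, mem_univ, true_and, MulAut.conj_apply, mul_smul, inv_smul_smul,
    smul_left_cancel_iff]
  refine ⟨fun ⟨a, b, c⟩ => ⟨⟨H.mul_mem (H.mul_mem hg a) (H.inv_mem hg), hp g hg k c⟩, b⟩,
    fun ⟨⟨a, c⟩, b⟩ => ⟨?_, b, ?_⟩⟩
  · simpa [mul_assoc] using H.mul_mem (H.mul_mem (H.inv_mem hg) a) hg
  · simpa [mul_assoc] using hp _ (H.inv_mem hg) _ c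

theorem ncard_fix_conj {H : Subgroup G} {S : Set X} (hinv : ∀ k ∈ H, ∀ x ∈ S, k • x ∈ S) {g : G}
    (hg : g ∈ H) (k : G) : (S ∩ fixedBy X (g * k * g⁻¹)).ncard = (S ∩ fixedBy X k).ncard := by
  rw [← Set.ncard_image_of_injective (S ∩ fixedBy X k) (MulAction.injective g)]
  congr 1
  ext y
  refine ⟨fun ⟨a, b⟩ => ⟨g⁻¹ • y, ⟨hinv _ (H.inv_mem hg) _ a, ?_⟩, smul_inv_smul _ _⟩, ?_⟩
  · rw [mem_fixedBy, mul_smul, mul_smul, ← eq_inv_smul_iff] at b
    exact b
  · rintro ⟨z, ⟨a, b⟩, rfl⟩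
    refine ⟨hinv _ hg _ a, ?_⟩
    rw [mem_fixedBy] at b ⊢
    simp [mul_smul, b]

/-- Lower bound for the number of elements with a fixed point. -/
theorem count_fix [Finite G] (H : Subgroup G) {S : Set X} (hS : S.Finite)
    (hinv : ∀ k ∈ H, ∀ x ∈ S, k • x ∈ S) {x : X} (hx : x ∈ S) (h : ∀ y ∈ S, ∃ g ∈ H, g • x = y) :
    S.ncard * (Nat.card (H ⊓ stabilizer G x : Subgroup G) +
      {k | k ∈ H ∧ k • x = x ∧ (S ∩ fixedBy X k).ncard = 1}.ncard) ≤
      2 * {k | k ∈ H ∧ ∃ y ∈ S, k • y = y}.ncard +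
        S.ncard * {k | k ∈ H ∧ k • x = x ∧ 3 ≤ (S ∩ fixedBy X k).ncard}.ncard := by
  classical
  have := Fintype.ofFinite G
  have h1 := fun j => sum_fix_eq H hS hinv h (fun k => (S ∩ fixedBy X k).ncard = j)
    fun g hg k hk => (ncard_fix_conj hinv hg k).trans hk
  have h2 : ∀ j, #{k | k ∈ H ∧ (S ∩ fixedBy X k).ncard = j} * j =
      S.ncard * #{k | k ∈ H ∧ k • x = x ∧ (S ∩ fixedBy X k).ncard = j} := fun j => by
    rw [← h1, ← smul_eq_mul, ← sum_const]
    exact sum_congr rfl fun k hk => (mem_filter.1 hk).2.2.symm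
  have h3 : #{k | k ∈ H ∧ (S ∩ fixedBy X k).ncard = 1} +
      #{k | k ∈ H ∧ (S ∩ fixedBy X k).ncard = 2} ≤ {k | k ∈ H ∧ ∃ y ∈ S, k • y = y}.ncard := by
    rw [← card_union_of_disjoint (disjoint_filter.2 fun k _ a b => by omega), ← Set.ncard_coe_finset]
    refine Set.ncard_le_ncard (fun k hk => ?_)
    simp only [coe_union, coe_filter, mem_univ, true_and, Set.mem_union, Set.mem_ofPred_eq] at hk
    have : k ∈ H ∧ (S ∩ fixedBy X k).ncard ≠ 0 := by
      rcases hk with hk | hk <;> exact ⟨hk.1, by omega⟩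
    obtain ⟨y, hy⟩ := Set.nonempty_of_ncard_ne_zero this.2
    exact ⟨this.1, y, hy.1, hy.2⟩
  have h4 : Nat.card (H ⊓ stabilizer G x : Subgroup G) ≤
      #{k | k ∈ H ∧ k • x = x ∧ (S ∩ fixedBy X k).ncard = 1} +
      #{k | k ∈ H ∧ k • x = x ∧ (S ∩ fixedBy X k).ncard = 2} +
      {k | k ∈ H ∧ k • x = x ∧ 3 ≤ (S ∩ fixedBy X k).ncard}.ncard := by
    rw [← Set.ncard_coe_finset, ← Set.ncard_coe_finset]
    refine le_trans ?_ (add_le_add_left (Set.ncard_union_le _ _) _)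
    refine le_trans ?_ (Set.ncard_union_le _ _)
    refine Set.ncard_le_ncard (s := ((H ⊓ stabilizer G x : Subgroup G) : Set G)) (fun k hk => ?_)
    have : (S ∩ fixedBy X k).ncard ≠ 0 :=
      ((Set.ncard_pos (s := S ∩ fixedBy X k) (hS.subset Set.inter_subset_left)).2
        ⟨x, hx, hk.2⟩).ne'
    have h5 : k • x = x := hk.2
    have h6 : k ∈ H := hk.1
    simp only [coe_filter, mem_univ, true_and, Set.mem_union, Set.mem_ofPred_eq, h6, h5]
    omega
  have h5 : {k | k ∈ H ∧ k • x = x ∧ (S ∩ fixedBy X k).ncard = 1}.ncard =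
      #{k | k ∈ H ∧ k • x = x ∧ (S ∩ fixedBy X k).ncard = 1} := by
    rw [← Set.ncard_coe_finset]; simp
  have a1 := h2 1
  have a2 := h2 2
  rw [h5]
  nlinarith [Nat.mul_le_mul_left S.ncard h4]

end Act

section Singer

variable {Γ : Type*} [Group Γ] [Finite Γ]

theorem ncard_class_mul (g : Γ) :
    {y | IsConj g y}.ncard * Nat.card (Subgroup.centralizer {g}) = Nat.card Γ := by
  have h1 : {y | IsConj g y} = orbit (ConjAct Γ) g := by
    ext y; rw [ConjAct.mem_orbit_conjAct, isConj_comm]; rfl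
  rw [h1, ← index_stabilizer, Subgroup.nat_card_centralizer_nat_card_stabilizer,
    Subgroup.index_mul_card]
  rfl

/-- A family of elements with abelian trivial-intersection centralisers. -/
structure Sing (Z : Subgroup Γ) (I : Set Γ) : Prop where
  central : ∀ z ∈ Z, ∀ g, Commute z g
  conj : ∀ g ∈ I, ∀ h, h * g * h⁻¹ ∈ I
  comm : ∀ g ∈ I, ∀ a b, Commute a g → Commute b g → Commute a b
  mem : ∀ g ∈ I, ∀ a, Commute a g → a ∉ Z → a ∈ I
  notMem : ∀ g ∈ I, g ∉ Z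
  eps : ∀ g ∈ I, {a | Commute a g ∧ IsConj g a}.ncard = 1 ∨ {a | Commute a g ∧ IsConj g a}.ncard = 3

variable {Z : Subgroup Γ} {I : Set Γ} {g : Γ}

omit [Finite Γ] in
theorem mem_cent {a : Γ} : a ∈ Subgroup.centralizer {g} ↔ Commute a g :=
  Subgroup.mem_centralizer_singleton_iff

omit [Finite Γ] in
theorem Sing.cent_eq (h : Sing Z I) (hg : g ∈ I) {a : Γ} (ha : Commute a g) (hZ : a ∉ Z) :
    Subgroup.centralizer {a} = Subgroup.centralizer {g} := by
  ext b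
  simp only [mem_cent]
  exact ⟨fun hb => h.comm a (h.mem g hg a ha hZ) _ _ hb ha.symm, fun hb => h.comm g hg _ _ hb ha⟩

omit [Finite Γ] in
theorem Sing.le_cent (h : Sing Z I) (g : Γ) : Z ≤ Subgroup.centralizer {g} := fun z hz =>
  mem_cent.2 (h.central z hz g)

omit [Finite Γ] in
theorem Sing.isConj (h : Sing Z I) (hg : g ∈ I) {y : Γ} (hy : IsConj g y) : y ∈ I := by
  obtain ⟨c, rfl⟩ := isConj_iff.1 hy
  exact h.conj g hg c

theorem Sing.modEq (h : Sing Z I) (hg : g ∈ I) {a : ℕ}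
    (ha : Nat.card (Subgroup.centralizer {g}) = Nat.card Z * a) :
    {y | IsConj g y}.ncard ≡ {a | Commute a g ∧ IsConj g a}.ncard [MOD a] := by
  have h1 := @card_dvd_mul_ncard Γ Γ _ (MulAction.compHom Γ (MulAut.conj : Γ →* MulAut Γ)) _ _ _
    (h.le_cent g) ({y | IsConj g y} \ {a | Commute a g ∧ IsConj g a}) (Set.toFinite _) (by
      rintro k hk y ⟨hy, hy'⟩
      have hy1 : IsConj g (k * y * k⁻¹) := hy.trans (isConj_iff.2 ⟨k, rfl⟩)
      refine ⟨hy1, fun hc => hy' ⟨?_, hy⟩⟩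
      have hc' : Commute (k * y * k⁻¹) g := hc.1
      have := ((mem_cent.1 hk).inv_left.mul_left hc').mul_left (mem_cent.1 hk)
      simpa [mul_assoc] using this) (by
      rintro y ⟨hy, hy'⟩ k hk
      change k * y * k⁻¹ = y ↔ _
      rw [mul_inv_eq_iff_eq_mul]
      refine ⟨fun e => by_contra fun hZ => hy' ⟨mem_cent.1 ?_, hy⟩, fun hZ => h.central k hZ y⟩
      rw [← h.cent_eq hg (mem_cent.1 hk) hZ]
      exact mem_cent.2 e.symm)
  rw [ha, Nat.mul_dvd_mul_iff_left Nat.card_pos] at h1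
  rw [← Set.ncard_sdiff_add_ncard_of_subset (s := {a | Commute a g ∧ IsConj g a})
    (t := {y | IsConj g y}) (fun y hy => hy.2) (Set.toFinite _)]
  exact (Nat.modEq_iff_dvd' (Nat.le_add_left _ _)).2 (by simpa using h1) |>.symm

theorem Sing.count (h : Sing Z I) (hg : g ∈ I) {k a : ℕ}
    (ha : Nat.card (Subgroup.centralizer {g}) = Nat.card Z * a)
    (hk : ∀ x, Commute x g → x ∉ Z → {a | Commute a x ∧ IsConj x a}.ncard ≤ k) :
    (a - 1) * Nat.card Γ ≤ {y | ∃ x, Commute x g ∧ x ∉ Z ∧ IsConj x y}.ncard * k * a := by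
  classical
  have := Fintype.ofFinite Γ
  have h1 := card_mul_le_card_mul (fun x y : Γ => IsConj x y) (s := {x | Commute x g ∧ x ∉ Z})
    (t := {y | ∃ x, Commute x g ∧ x ∉ Z ∧ IsConj x y}) (m := {y | IsConj g y}.ncard) (n := k)
    (fun x hx => ?_) (fun y hy => ?_)
  · have h2 : #{x | Commute x g ∧ x ∉ Z} + Nat.card Z = Nat.card Z * a := by
      rw [← ha, ← Set.ncard_coe_finset]
      refine Eq.trans ?_ (Set.ncard_sdiff_add_ncard_of_subset (s := (Z : Set Γ))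
        (t := (Subgroup.centralizer {g} : Subgroup Γ)) (h.le_cent g) (Set.toFinite _))
      congr 2
      ext x
      simp [mem_cent]
    have h3 : #{x | Commute x g ∧ x ∉ Z} = Nat.card Z * (a - 1) := by
      rw [Nat.mul_sub_one]; omega
    have h4 : {y | ∃ x, Commute x g ∧ x ∉ Z ∧ IsConj x y}.ncard =
        #{y | ∃ x, Commute x g ∧ x ∉ Z ∧ IsConj x y} := by
      rw [← Set.ncard_coe_finset]; simp
    have h5 : 0 < Nat.card Z := Nat.card_pos
    rw [← ncard_class_mul g, ha, h4]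
    rw [h3] at h1
    nlinarith [Nat.mul_le_mul_right a h1]
  · obtain ⟨h1, h2⟩ := (mem_filter.1 hx).2
    have h3 := ncard_class_mul x
    rw [h.cent_eq hg h1 h2, ← ncard_class_mul g] at h3
    rw [← Nat.eq_of_mul_eq_mul_right Nat.card_pos h3, ← Set.ncard_coe_finset]
    refine Set.ncard_le_ncard fun y hy => ?_
    exact mem_coe.2 (mem_bipartiteAbove _ |>.2 ⟨mem_filter.2 ⟨mem_univ _, x, h1, h2, hy⟩, hy⟩)
  · obtain ⟨x, h1, h2, h3⟩ := (mem_filter.1 hy).2
    refine le_trans ?_ (hk x h1 h2)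
    rw [← Set.ncard_coe_finset]
    refine Set.ncard_le_ncard fun z hz => ?_
    have hz := (mem_bipartiteBelow _).1 (mem_coe.1 hz)
    exact ⟨h.comm g hg _ _ (mem_filter.1 hz.1).2.1 h1, h3.trans hz.2.symm⟩

theorem exists_cent_pow {r : ℕ} (hr : r.Prime) {m : ℕ} (hm : m ∣ Nat.card Γ) (h : r ∣ m) :
    ∃ g : Γ, orderOf g = r ∧ r ^ m.factorization r ∣ Nat.card (Subgroup.centralizer {g}) := by
  have := Fact.mk hr
  have hm0 : m ≠ 0 := by
    rintro rfl
    exact Nat.card_pos.ne' (zero_dvd_iff.1 hm)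
  obtain ⟨K, hK⟩ := Sylow.exists_subgroup_card_pow_prime r ((Nat.ordProj_dvd m r).trans hm)
  have h1 : 1 < Nat.card K := hK ▸ Nat.one_lt_pow (hr.factorization_pos_of_dvd hm0 h).ne' hr.one_lt
  have := Finite.one_lt_card_iff_nontrivial.1 h1
  have hp : IsPGroup r K := IsPGroup.of_card hK
  have := hp.center_nontrivial
  obtain ⟨n, hn, hc⟩ := (hp.to_subgroup (Subgroup.center K)).nontrivial_iff_card.1 this
  obtain ⟨z, hz⟩ := exists_prime_orderOf_dvd_card' (G := Subgroup.center K) r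
    (hc ▸ dvd_pow_self r hn.ne')
  refine ⟨z.1.1, by rw [Subgroup.orderOf_coe, Subgroup.orderOf_coe, hz], hK ▸ Subgroup.card_dvd_of_le fun k hk => mem_cent.2 ?_⟩
  exact congrArg Subtype.val (Subgroup.mem_center_iff.1 z.2 ⟨k, hk⟩)

theorem Sing.main (h : Sing Z I) {m : ℕ} (hm : m ∣ Nat.card Γ) (hm1 : 1 < m)
    (hmZ : m.Coprime (Nat.card Z))
    (hr : ∀ r, r.Prime → r ∣ m → 7 ≤ r ∧ ∀ g : Γ, orderOf g = r → g ∈ I) :
    (77 ≤ m ∧ 136 * Nat.card Γ ≤ 231 * I.ncard) ∨ ∃ g ∈ I, ∃ a n ε,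
      Nat.card (Subgroup.centralizer {g}) = Nat.card Z * a ∧ m ∣ a ∧
      Nat.card Γ = Nat.card Z * a * n ∧ n ≡ ε [MOD a] ∧
      (ε = 3 ∨ ε = 1 ∧ 6 * Nat.card Γ ≤ 7 * I.ncard) := by
  have key : ∀ r, r.Prime → r ∣ m → ∃ g ∈ I, ∃ a,
      Nat.card (Subgroup.centralizer {g}) = Nat.card Z * a ∧ r ^ m.factorization r ∣ a ∧ r ≤ a := by
    intro r hp hrm
    obtain ⟨g, hg, hd⟩ := exists_cent_pow hp hm hrm
    obtain ⟨a, ha⟩ := Subgroup.card_dvd_of_le (h.le_cent g)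
    have h1 : r ^ m.factorization r ∣ a :=
      (Nat.Coprime.coprime_dvd_left (Nat.ordProj_dvd m r) hmZ).dvd_of_dvd_mul_left (ha ▸ hd)
    refine ⟨g, (hr r hp hrm).2 g hg, a, ha, h1, Nat.le_of_dvd (Nat.pos_of_ne_zero ?_)
      ((dvd_pow_self r (hp.factorization_pos_of_dvd (by omega) hrm).ne').trans h1)⟩
    rintro rfl
    exact Nat.card_pos.ne' ha
  have hX : ∀ g ∈ I, {y | ∃ x, Commute x g ∧ x ∉ Z ∧ IsConj x y} ⊆ I := by
    rintro g hg y ⟨x, h1, h2, h3⟩
    exact h.isConj (h.mem g hg x h1 h2) h3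
  have h3 : ∀ g ∈ I, ∀ x, Commute x g → x ∉ Z → {a | Commute a x ∧ IsConj x a}.ncard ≤ 3 :=
    fun g hg x h1 h2 => by rcases h.eps x (h.mem g hg x h1 h2) with e | e <;> omega
  obtain ⟨r, hp, hrm⟩ := Nat.exists_prime_and_dvd hm1.ne'
  obtain ⟨g, hg, a, ha, hd, hle⟩ := key r hp hrm
  have h7 := (hr r hp hrm).1
  by_cases hma : m ∣ a
  · refine Or.inr ⟨g, hg, a, _, _, ha, hma, by rw [← ha, mul_comm, ncard_class_mul], h.modEq hg ha,
      (h.eps g hg).symm.imp_right fun e => ⟨e, ?_⟩⟩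
    have h1 := h.count hg (k := 1) ha fun x h1 h2 => by
      have h4 := h.modEq (h.mem g hg x h1 h2) (a := a) (by rw [h.cent_eq hg h1 h2, ha])
      have h5 := ncard_class_mul x
      rw [h.cent_eq hg h1 h2, ← ncard_class_mul g] at h5
      rw [Nat.eq_of_mul_eq_mul_right Nat.card_pos h5] at h4
      have h6 := (h.modEq hg ha).symm.trans h4
      rw [e] at h6
      rcases h.eps x (h.mem g hg x h1 h2) with e' | e'
      · omega
      · rw [e'] at h6
        have := Nat.le_of_dvd two_pos ((Nat.modEq_iff_dvd' (by norm_num)).1 h6)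
        omega
    have h2 := Set.ncard_le_ncard (hX g hg)
    obtain ⟨b, rfl⟩ : ∃ b, a = b + 7 := ⟨a - 7, by omega⟩
    rw [show b + 7 - 1 = b + 6 from rfl] at h1
    refine Nat.le_of_mul_le_mul_right ?_ (show 0 < b + 7 by omega)
    nlinarith [Nat.mul_le_mul_right (b + 7) h2]
  · left
    obtain ⟨s, hs⟩ : ∃ s, s.Prime ∧ ¬ s ^ m.factorization s ∣ a := by
      by_contra hn
      push Not at hn
      exact hma ((Nat.dvd_iff_prime_pow_dvd_dvd _ _).2 fun p k hp hk => (pow_dvd_pow p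
        ((hp.pow_dvd_iff_le_factorization (by omega)).1 hk)).trans (hn p hp))
    have hsm : s ∣ m := by
      by_contra hn
      exact hs.2 (by rw [Nat.factorization_eq_zero_of_not_dvd hn, pow_zero]; exact one_dvd _)
    obtain ⟨g', hg', a', ha', hd', hle'⟩ := key s hs.1 hsm
    have h7' := (hr s hs.1 hsm).1
    have hne : r ≠ s := fun e => hs.2 (e ▸ hd)
    have h11 : ∀ t, t.Prime → 7 ≤ t → t = 7 ∨ 11 ≤ t := fun t ht h7 => by
      by_contra hn
      have : t = 8 ∨ t = 9 ∨ t = 10 := by omega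
      rcases this with rfl | rfl | rfl <;> norm_num at ht
    have hdis : Disjoint {y | ∃ x, Commute x g ∧ x ∉ Z ∧ IsConj x y}
        {y | ∃ x, Commute x g' ∧ x ∉ Z ∧ IsConj x y} := by
      rw [Set.disjoint_left]
      rintro y ⟨x, h1, h2, h3⟩ ⟨x', h1', h2', h3'⟩
      have h4 := ncard_class_mul x
      have h5 := ncard_class_mul x'
      have h6 : {y | IsConj x y} = {y | IsConj x' y} := by
        ext z
        exact ⟨fun hz => (h3'.trans h3.symm).trans hz, fun hz => (h3.trans h3'.symm).trans hz⟩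
      rw [h6, ← h5, h.cent_eq hg h1 h2, h.cent_eq hg' h1' h2', ha, ha'] at h4
      have h7 := Nat.eq_of_mul_eq_mul_left Nat.card_pos (Nat.eq_of_mul_eq_mul_left
        ((Set.ncard_pos (Set.toFinite _)).2 ⟨x', IsConj.refl _⟩) h4)
      exact hs.2 (h7 ▸ hd')
    have h1 := Set.ncard_le_ncard (Set.union_subset (hX g hg) (hX g' hg'))
    rw [Set.ncard_union_eq hdis] at h1
    have c1 := h.count hg ha (h3 g hg)
    have c2 := h.count hg' ha' (h3 g' hg')
    have hb : ∀ (t a x : ℕ), t + 1 ≤ a → (a - 1) * Nat.card Γ ≤ x * 3 * a →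
        t * Nat.card Γ ≤ 3 * (t + 1) * x := fun t a x h1 h2 => by
      obtain ⟨b, rfl⟩ := Nat.exists_eq_add_of_le h1
      rw [show t + 1 + b - 1 = t + b by omega] at h2
      refine Nat.le_of_mul_le_mul_right ?_ (show 0 < t + 1 + b by omega)
      nlinarith [Nat.mul_le_mul_left (t + 1) h2]
    have hrs : r * s ≤ m := Nat.le_of_dvd (by omega)
      (((Nat.coprime_primes hp hs.1).2 hne).mul_dvd_of_dvd_of_dvd hrm hsm)
    rcases h11 r hp h7 with e | e
    · have e' : 11 ≤ s := (h11 s hs.1 h7').resolve_left (by omega)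
      have := hb 6 _ _ (by omega) c1
      have := hb 10 _ _ (by omega) c2
      exact ⟨by nlinarith, by omega⟩
    · have := hb 10 _ _ (by omega) c1
      have := hb 6 _ _ (by omega) c2
      exact ⟨by nlinarith, by omega⟩

end Singer

end Cfsg.Agent.H5
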