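import Cfsg.Agent.H5.U3A

/-! Endomorphisms of a three-dimensional space without eigenvectors. -/

set_option autoImplicit false

namespace Cfsg.Agent.H5

open Module

variable {F : Type*} [Field F] {E : Type*} [AddCommGroup E] [Module F E] [FiniteDimensional F E]

/-- `g` has no eigenvector. -/
def NoEig (g : End F E) : Prop := ∀ (v : E) (c : F), g v = c • v → v = 0

variable {g : End F E}

theorem NoEig.eq_top (hg : NoEig g) (h3 : finrank F E = 3) {W : Submodule F E} (hW : W ≠ ⊥)
    (hinv : ∀ w ∈ W, g w ∈ W) : W = ⊤ := by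
  by_contra hn
  have h1 := Submodule.finrank_lt hn
  have h2 : finrank F W ≠ 0 := fun h => hW (Submodule.finrank_eq_zero.1 h)
  obtain h | h : finrank F W = 1 ∨ finrank F W = 2 := by omega
  · obtain ⟨w, hw, hw0⟩ := Submodule.exists_mem_ne_zero_of_ne_bot hW
    obtain ⟨c, hc⟩ := exists_smul_eq_of_finrank_eq_one h (x := ⟨w, hw⟩) (by simpa using hw0)
      ⟨g w, hinv w hw⟩
    exact hw0 (hg w c (congrArg Subtype.val hc).symm)
  · obtain ⟨u, hu⟩ : ∃ u, u ∉ W := by
      by_contra h'
      push Not at h'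
      exact hn (Submodule.eq_top_iff'.2 h')
    have h4 : W ⊔ F ∙ u = ⊤ := Submodule.eq_top_of_finrank_eq (by
      rw [Submodule.finrank_sup_span_singleton hu]; omega)
    have h5 : ∀ v, ∃ w ∈ W, ∃ c : F, v = w + c • u := fun v => by
      obtain ⟨w, hw, y, hy, rfl⟩ := Submodule.mem_sup.1 (h4 ▸ Submodule.mem_top : v ∈ W ⊔ F ∙ u)
      obtain ⟨c, rfl⟩ := Submodule.mem_span_singleton.1 hy
      exact ⟨w, hw, c, rfl⟩
    obtain ⟨w, hw, c, hc⟩ := h5 (g u)
    have h6 : Function.Injective (g - c • 1 : End F E) := by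
      rw [injective_iff_map_eq_zero]
      intro v hv
      exact hg v c (by simpa [sub_eq_zero] using hv)
    obtain ⟨v, hv⟩ := LinearMap.injective_iff_surjective.1 h6 u
    obtain ⟨w', hw', d, rfl⟩ := h5 v
    refine hu (hv ▸ ?_)
    have : (g - c • 1 : End F E) (w' + d • u) = g w' - c • w' + d • w := by
      simp only [LinearMap.sub_apply, LinearMap.smul_apply, End.one_apply, map_add, map_smul, hc]
      module
    rw [this]
    exact W.add_mem (W.sub_mem (hinv _ hw') (W.smul_mem _ hw')) (W.smul_mem _ hw)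

theorem NoEig.scalar (hg : NoEig g) (h3 : finrank F E = 3) {a : End F E} (ha : Commute a g) {v : E}
    (hv : v ≠ 0) {c : F} (hc : a v = c • v) : a = c • 1 := by
  have h1 := hg.eq_top h3 (W := LinearMap.ker (a - c • 1)) (fun h => hv (by
    have : v ∈ LinearMap.ker (a - c • 1) := by simp [hc]
    rwa [h] at this)) fun w hw => by
      have h2 : a w = c • w := by simpa [sub_eq_zero] using hw
      have h3 : a (g w) = g (a w) := LinearMap.congr_fun ha w
      simp [h3, h2]
  exact sub_eq_zero.1 (LinearMap.ker_eq_top.1 h1)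

theorem NoEig.noEig (hg : NoEig g) (h3 : finrank F E = 3) {a : End F E} (ha : Commute a g)
    (h : ∀ c : F, a ≠ c • 1) : NoEig a := fun _ c hc =>
  by_contra fun hv => h c (hg.scalar h3 ha hv hc)

theorem NoEig.cancel (hg : NoEig g) (h3 : finrank F E = 3) {a b : End F E} (ha : Commute a g)
    (h0 : a ≠ 0) (h : a * b = 0) : b = 0 := by
  ext v
  by_contra hv
  exact h0 (by simpa using hg.scalar h3 ha (c := 0) hv (by simpa using LinearMap.congr_fun h v))

theorem NoEig.not_quad (hg : NoEig g) (h3 : finrank F E = 3) {v : E} (hv : v ≠ 0) :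
    g (g v) ∉ Submodule.span F {v, g v} := fun h => by
  classical
  have h1 := hg.eq_top h3 (W := Submodule.span F {v, g v}) (fun h => hv (by
    have : v ∈ Submodule.span F {v, g v} := Submodule.subset_span (by simp)
    rwa [h] at this)) fun w hw => by
      obtain ⟨a, b, rfl⟩ := Submodule.mem_span_pair.1 hw
      rw [map_add, map_smul, map_smul]
      exact Submodule.add_mem _ (Submodule.smul_mem _ _ (Submodule.subset_span (by simp)))
        (Submodule.smul_mem _ _ h)
  have h2 := finrank_span_finset_le_card (R := F) ({v, g v} : Finset E)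
  rw [Set.finrank, Finset.coe_pair, h1, finrank_top] at h2
  have := Finset.card_le_two (a := v) (b := g v)
  omega

theorem NoEig.poly (hg : NoEig g) (h3 : finrank F E = 3) {a : End F E} (ha : Commute a g) :
    ∃ c₀ c₁ c₂ : F, a = c₀ • 1 + c₁ • g + c₂ • (g * g) := by
  have : Nontrivial E := Module.nontrivial_of_finrank_pos (R := F) (by omega)
  obtain ⟨v, hv⟩ := exists_ne (0 : E)
  have h1 : g v ∉ F ∙ v := fun h => by
    obtain ⟨c, hc⟩ := Submodule.mem_span_singleton.1 h
    exact hv (hg v c hc.symm)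
  have h2 := Submodule.finrank_sup_span_singleton h1
  rw [finrank_span_singleton hv, ← Submodule.span_union, Set.singleton_union] at h2
  have h4 := Submodule.finrank_sup_span_singleton (hg.not_quad h3 hv)
  have h5 := Submodule.eq_top_of_finrank_eq (h4.trans (by omega : _ = finrank F E))
  obtain ⟨w, hw, y, hy, e⟩ := Submodule.mem_sup.1 (h5 ▸ Submodule.mem_top :
    a v ∈ Submodule.span F {v, g v} ⊔ F ∙ g (g v))
  obtain ⟨c₂, rfl⟩ := Submodule.mem_span_singleton.1 hy
  obtain ⟨c₀, c₁, rfl⟩ := Submodule.mem_span_pair.1 hw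
  refine ⟨c₀, c₁, c₂, sub_eq_zero.1 ?_⟩
  have := hg.scalar h3 (a := a - (c₀ • 1 + c₁ • g + c₂ • (g * g))) (ha.sub_left
    ((((Commute.one_left g).smul_left _).add_left ((Commute.refl g).smul_left _)).add_left
      (((Commute.refl g).mul_left (Commute.refl g)).smul_left _))) hv (c := 0) (by simp [← e])
  simpa using this

theorem NoEig.comm (hg : NoEig g) (h3 : finrank F E = 3) {a b : End F E} (ha : Commute a g)
    (hb : Commute b g) : Commute a b := by
  obtain ⟨c₀, c₁, c₂, rfl⟩ := hg.poly h3 hb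
  exact (((Commute.one_right a).smul_right _).add_right (ha.smul_right _)).add_right
    ((ha.mul_right ha).smul_right _)

theorem NoEig.sum_roots (hg : NoEig g) (h3 : finrank F E = 3) {c₀ c₁ c₂ : F} {x y z : End F E}
    (hx : Commute x g) (hy : Commute y g) (hz : Commute z g)
    (ex : x * x * x = c₀ • 1 + c₁ • x + c₂ • (x * x))
    (ey : y * y * y = c₀ • 1 + c₁ • y + c₂ • (y * y))
    (ez : z * z * z = c₀ • 1 + c₁ • z + c₂ • (z * z)) (h1 : x ≠ y) (h2 : x ≠ z) (h4 : y ≠ z) :
    x + y + z = c₂ • 1 := by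
  have key : ∀ y : End F E, Commute y g → y * y * y = c₀ • 1 + c₁ • y + c₂ • (y * y) → x ≠ y →
      x * x + x * y + y * y - c₂ • (x + y) - c₁ • 1 = 0 := fun y hy ey h => by
    have e : x * y = y * x := hg.comm h3 hx hy
    refine hg.cancel h3 (hx.sub_left hy) (sub_ne_zero.2 h) ?_
    simp only [mul_sub, mul_add, sub_mul, mul_smul_comm, smul_add, smul_sub, mul_one, ← mul_assoc]
    have e1 : x * x * y = y * x * x := by rw [mul_assoc, e, ← mul_assoc, e]
    rw [ex, ey, e1, e]
    rw [mul_assoc y x y, e, ← mul_assoc]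
    module
  have e1 : y * z = z * y := hg.comm h3 hy hz
  have e2 : x * y = y * x := hg.comm h3 hx hy
  have e3 : x * z = z * x := hg.comm h3 hx hz
  refine sub_eq_zero.1 (hg.cancel h3 (hy.sub_left hz) (sub_ne_zero.2 h4) ?_)
  have := congrArg₂ (· - ·) (key y hy ey h1) (key z hz ez h2)
  simp only [sub_zero] at this
  rw [← this]
  simp only [mul_sub, mul_add, sub_mul, mul_smul_comm, smul_add, smul_sub, mul_one, e1, e2, e3]
  module

theorem ncard_conj_comm {G : Type*} [Group G] (ρ : G →* End F E) (hρ : Function.Injective ρ)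
    (h3 : finrank F E = 3) {g : G} (hg : NoEig (ρ g)) :
    {a | Commute a g ∧ IsConj g a}.ncard = 1 ∨ {a | Commute a g ∧ IsConj g a}.ncard = 3 := by
  by_cases h : ∀ a, Commute a g → IsConj g a → a = g
  · left
    rw [Set.ncard_eq_one]
    exact ⟨g, Set.eq_singleton_iff_unique_mem.2 ⟨⟨Commute.refl g, IsConj.refl g⟩,
      fun a ha => h a ha.1 ha.2⟩⟩
  right
  push Not at h
  obtain ⟨g', h1, h2, hne⟩ := h
  obtain ⟨k, rfl⟩ := isConj_iff.1 h2
  have hk : ∀ x : G, ρ (k * x * k⁻¹) * ρ k = ρ k * ρ x := fun x => by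
    rw [← map_mul, ← map_mul, inv_mul_cancel_right]
  have hg' : NoEig (ρ (k * g * k⁻¹)) := fun v c hv => by
    have h4 : ρ k⁻¹ * ρ (k * g * k⁻¹) = ρ g * ρ k⁻¹ := by
      rw [← map_mul, ← map_mul]; congr 1; group
    have h5 := LinearMap.congr_fun h4 v
    rw [End.mul_apply, End.mul_apply, hv, map_smul] at h5
    have h6 := congrArg (ρ k) (hg _ c h5.symm)
    rwa [← End.mul_apply, ← map_mul, mul_inv_cancel, map_one, map_zero] at h6
  have h4 : Commute (k * (k * g * k⁻¹) * k⁻¹) g := hρ (by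
    rw [map_mul ρ _ g, map_mul ρ g]
    exact hg'.comm h3 ((h1.conj k).map ρ) (h1.symm.map ρ))
  have h5 : k * (k * g * k⁻¹) * k⁻¹ ≠ k * g * k⁻¹ := fun e => hne (by simpa using e)
  have h6 : k * (k * g * k⁻¹) * k⁻¹ ≠ g := fun e => by
    have : Nontrivial E := Module.nontrivial_of_finrank_pos (R := F) (by omega)
    obtain ⟨v, hv⟩ := exists_ne (0 : E)
    have hs : ∀ b : End F E, Commute b (ρ g) → Commute b (ρ k) → ∃ c : F, b = c • 1 :=
      fun b hb hb' => by
        by_contra hn
        push Not at hn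
        have : k * g = g * k := hρ (by
          rw [map_mul, map_mul]; exact (hg.noEig h3 hb hn).comm h3 hb'.symm hb.symm)
        exact hne (by rw [this, mul_inv_cancel_right])
    have e1 := hk g
    have e2 := hk (k * g * k⁻¹)
    rw [e] at e2
    have e3 : ρ (k * g * k⁻¹) * ρ g = ρ g * ρ (k * g * k⁻¹) := h1.map ρ
    obtain ⟨s, hs'⟩ := hs (ρ g + ρ (k * g * k⁻¹)) ((Commute.refl _).add_left e3) (by
      change _ * _ = _ * _
      rw [add_mul, mul_add, e1, e2, add_comm])
    obtain ⟨t, ht⟩ := hs (ρ g * ρ (k * g * k⁻¹)) ((Commute.refl _).mul_left e3) (by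
      change _ * _ = _ * _
      rw [mul_assoc, e1, ← mul_assoc, e2, mul_assoc, e3])
    refine hg.not_quad h3 hv (Submodule.mem_span_pair.2 ⟨-t, s, ?_⟩)
    have a1 := congrArg (ρ g) (LinearMap.congr_fun hs' v)
    have a2 := LinearMap.congr_fun ht v
    simp only [LinearMap.add_apply, map_add, LinearMap.smul_apply, End.one_apply, map_smul,
      End.mul_apply] at a1 a2
    rw [← a1, a2]
    module
  obtain ⟨c₀, c₁, c₂, hp⟩ := hg.poly h3 (a := ρ g * ρ g * ρ g)
    (((Commute.refl _).mul_left (Commute.refl _)).mul_left (Commute.refl _))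
  have hp' : ∀ a, IsConj g a → ρ a * ρ a * ρ a = c₀ • 1 + c₁ • ρ a + c₂ • (ρ a * ρ a) :=
    fun a ha => by
      obtain ⟨l, rfl⟩ := isConj_iff.1 ha
      have e1 : ρ l * ρ l⁻¹ = 1 := by rw [← map_mul, mul_inv_cancel, map_one]
      have e2 := congrArg (fun x => ρ l * x * ρ l⁻¹) hp
      simp only [mul_add, add_mul, mul_smul_comm, smul_mul_assoc, mul_one, e1, ← map_mul] at e2 ⊢
      simpa only [mul_assoc, inv_mul_cancel_left] using e2
  have h7 : IsConj g (k * (k * g * k⁻¹) * k⁻¹) := h2.trans (isConj_iff.2 ⟨k, rfl⟩)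
  rw [Set.ncard_eq_three]
  refine ⟨g, _, _, hne.symm, h6.symm, h5.symm, Set.Subset.antisymm (fun a ha => ?_) ?_⟩
  · by_contra hn
    simp only [Set.mem_insert_iff, Set.mem_singleton_iff, not_or] at hn
    have a1 := hg.sum_roots h3 (Commute.refl _) (h1.map ρ) (h4.map ρ) hp (hp' _ h2) (hp' _ h7)
      (hρ.ne hne.symm) (hρ.ne h6.symm) (hρ.ne h5.symm)
    have a2 := hg.sum_roots h3 (Commute.refl _) (h1.map ρ) (ha.1.map ρ) hp (hp' _ h2) (hp' _ ha.2)
      (hρ.ne hne.symm) (hρ.ne (Ne.symm hn.1)) (hρ.ne (Ne.symm hn.2.1))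
    exact hn.2.2 (hρ (add_left_cancel (a2.trans a1.symm)))
  · rintro a (rfl | rfl | rfl)
    exacts [⟨Commute.refl _, IsConj.refl _⟩, ⟨h1, h2⟩, ⟨h4, h7⟩]

end Cfsg.Agent.H5
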