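import Cfsg.Agent.H5.U3B
import Cfsg.Agent.H5.SU3Pt
import Cfsg.Agent.H1.MIU6

/-! Frames and point stabilisers in `SU(3, q)`. -/

set_option autoImplicit false
set_option linter.unusedSectionVars false

namespace Cfsg.Agent.H5

open Module H1 MulAction Projectivization
open scoped LinearAlgebra.Projectivization

variable {F : Type*} [Field F] {σ : F →+* F} {E : Type*} [AddCommGroup E] [Module F E]
  [FiniteDimensional F E] {B : Sesq σ E}

/-- A hyperbolic frame of a three-dimensional hermitian space. -/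
structure Fr3 (B : Sesq σ E) (e w f : E) : Prop where
  eps : IsEps B 1
  dim : finrank F E = 3
  ee : B e e = 0
  ff : B f f = 0
  fe : B f e = 1
  we : B w e = 0
  wf : B w f = 0
  ww : B w w = 1

namespace Fr3

variable {e w f : E} (h : Fr3 B e w f)
include h

theorem ef : B e f = 1 := by rw [h.eps.herm, h.fe, map_one]
theorem ew : B e w = 0 := h.eps.refl h.we
theorem fw : B f w = 0 := h.eps.refl h.wf
theorem e0 : e ≠ 0 := fun e0 => by simpa [e0] using h.fe
theorem f0 : f ≠ 0 := fun e0 => by simpa [e0] using h.fe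
theorem w0 : w ≠ 0 := fun e0 => by simpa [e0] using h.ww

theorem symm : Fr3 B f w e := ⟨h.eps, h.dim, h.ff, h.ee, h.ef, h.wf, h.we, h.ww⟩

theorem li : LinearIndependent F ![e, w, f] := by
  rw [Fintype.linearIndependent_iff]
  intro c hc
  rw [Fin.sum_univ_three] at hc
  have h1 := congrArg (B · f) hc
  have h2 := congrArg (B · w) hc
  have h3 := congrArg (B · e) hc
  simp [h.ee, h.ff, h.fe, h.we, h.wf, h.ww, h.ef, h.ew, h.fw] at h1 h2 h3
  intro i
  fin_cases i <;> assumption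

/-- The basis given by a frame. -/
noncomputable def basis : Basis (Fin 3) F E :=
  basisOfLinearIndependentOfCardEqFinrank h.li (by simp [h.dim])

theorem basis_apply (i : Fin 3) : h.basis i = ![e, w, f] i := by simp [basis]

theorem exists_dec (v : E) : ∃ a b c : F, v = a • e + b • w + c • f :=
  ⟨_, _, _, by simpa [Fin.sum_univ_three, basis_apply] using (h.basis.sum_repr v).symm⟩

theorem dec (v : E) : v = B v f • e + B v w • w + B v e • f := by
  obtain ⟨a, b, c, rfl⟩ := h.exists_dec v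
  simp [h.ee, h.ff, h.fe, h.we, h.wf, h.ww, h.ef, h.ew, h.fw]

theorem ext {g k : SUb B} (h1 : suAct B g e = suAct B k e) (h2 : suAct B g w = suAct B k w)
    (h3 : suAct B g f = suAct B k f) : g = k := H1.su_ext fun v => by
  obtain ⟨a, b, c, rfl⟩ := h.exists_dec v
  simp [h1, h2, h3]

theorem det_eq {T : End F E} {a₁ a₂ a₃ b₁ b₂ b₃ c₁ c₂ c₃ : F} (h1 : T e = a₁ • e + a₂ • w + a₃ • f)
    (h2 : T w = b₁ • e + b₂ • w + b₃ • f) (h3 : T f = c₁ • e + c₂ • w + c₃ • f) :
    LinearMap.det T = a₁ * b₂ * c₃ - a₁ * c₂ * b₃ - b₁ * a₂ * c₃ + b₁ * c₂ * a₃ + c₁ * a₂ * b₃ -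
      c₁ * b₂ * a₃ := by
  have r : ∀ a b c : F, h.basis.repr (a • e + b • w + c • f) =
      Finsupp.single 0 a + Finsupp.single 1 b + Finsupp.single 2 c := fun a b c => by
    have e1 : e = h.basis 0 := by simp [basis_apply]
    have e2 : w = h.basis 1 := by simp [basis_apply]
    have e3 : f = h.basis 2 := by simp [basis_apply]
    generalize h.basis = β at *
    subst e1 e2 e3
    simp
  rw [← LinearMap.det_toMatrix h.basis, Matrix.det_fin_three]
  simp [LinearMap.toMatrix_apply, basis_apply, h1, h2, h3, r]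

theorem stab {g : SUb B} {l : F} (hg : suAct B g e = l • e) : l ≠ 0 ∧ ∃ ν a b c : F,
    suAct B g w = ν • w + a • e ∧ suAct B g f = (σ l)⁻¹ • f + b • w + c • e ∧ ν * σ ν = 1 ∧
      ν * l = σ l ∧ (σ l)⁻¹ * σ a + b * σ ν = 0 := by
  have h0 : l ≠ 0 := by
    rintro rfl
    exact h.e0 (rep_injective _ g (by simpa using hg))
  have h0' : σ l ≠ 0 := by simpa using h0
  obtain ⟨a, ν, t, h1⟩ := h.exists_dec (suAct B g w)
  obtain ⟨c, b, s, h2⟩ := h.exists_dec (suAct B g f)
  have a1 := suAct_pres g w e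
  have a2 := suAct_pres g f e
  have a3 := suAct_pres g w w
  have a4 := suAct_pres g f w
  have a5 := h.det_eq (T := suAct B g) (a₁ := l) (a₂ := 0) (a₃ := 0) (by simp [hg]) h1 h2
  rw [suAct_det] at a5
  simp [hg, h1, h2, h.ee, h.ff, h.fe, h.we, h.wf, h.ww, h.ef, h.ew, h.fw, h0] at a1 a2 a3 a4
  subst a1
  obtain rfl : s = (σ l)⁻¹ := eq_inv_of_mul_eq_one_right a2
  refine ⟨h0, ν, a, b, c, by rw [h1]; module, by rw [h2]; module, by simpa [mul_comm] using a3, ?_,
    by simpa [add_comm] using a4⟩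
  field_simp at a5
  linear_combination -a5

theorem eq_one {g : SUb B} (h1 : suAct B g e = e) {c : F} (h2 : suAct B g f = c • f) : g = 1 := by
  obtain ⟨-, ν, a, b, d, a1, a2, a3, a4, a5⟩ := h.stab (g := g) (l := 1) (by simp [h1])
  simp only [map_one, inv_one, one_smul, mul_one, one_mul] at a2 a4 a5
  subst a4
  have b1 := congrArg (B · w) (h2.symm.trans a2)
  have b2 := congrArg (B · e) (h2.symm.trans a2)
  simp [h.ee, h.ff, h.fe, h.we, h.wf, h.ww, h.ef, h.ew, h.fw] at b1 b2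
  subst b1 b2
  have : a = 0 := by simpa using a5
  subst this
  exact h.ext (by simp [h1]) (by simp [a1]) (by simp [h2])

end Fr3

variable [Fintype F] {q : ℕ}

theorem exists_fr3_of_pair (hU : UF σ q) (hB : IsEps B 1) (h3 : finrank F E = 3) {e f : E}
    (he : B e e = 0) (hf : B f f = 0) (hfe : B f e = 1) : ∃ w, Fr3 B e w f := by
  obtain ⟨h1, h2⟩ := disjoint_sup_hyp hB (W := ⊥) (by simp) (e := e) (f := f)
    (by simp [mem_perp]) (by simp [mem_perp]) he hf (by simp [hfe])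
  obtain ⟨w, hw, -, hw1⟩ := (hU.good hB).unit _ (fun h0 => by
    have := hB.finrank_perp ((⊥ ⊔ F ∙ e) ⊔ F ∙ f)
    rw [h0, h2, h3] at this
    simp at this) (hB.disjoint_perp_perp h1)
  exact ⟨w, hB, h3, he, hf, hfe,
    hw e (Submodule.mem_sup_left (Submodule.mem_sup_right (Submodule.mem_span_singleton_self e))),
    hw f (Submodule.mem_sup_right (Submodule.mem_span_singleton_self f)), hw1⟩

theorem exists_fr3 (hU : UF σ q) (hB : IsEps B 1) (h3 : finrank F E = 3) {e : E} (h0 : e ≠ 0)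
    (he : B e e = 0) : ∃ w f, Fr3 B e w f := by
  obtain ⟨f, -, hf, hfe⟩ := exists_hyp hB hU (W := ⊥) (by simp) (e := e) (by simp [mem_perp]) h0 he
  obtain ⟨w, hw⟩ := exists_fr3_of_pair hU hB h3 he hf hfe
  exact ⟨w, f, hw⟩

theorem Fr3.shift (hU : UF σ q) {e w f : E} (h : Fr3 B e w f) (t : F) :
    ∃ f', Fr3 B e (w + t • e) f' := by
  obtain ⟨s, hs⟩ := hU.trace_surj (hU.norm_fixed t)
  refine ⟨f - σ t • w - s • e, h.eps, h.dim, h.ee, ?_, ?_, ?_, ?_, ?_⟩ <;>
    simp [h.ee, h.ff, h.fe, h.we, h.wf, h.ww, h.ef, h.ew, h.fw, hU.invol]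
  linear_combination hs

/-- The isotropic points. -/
def Om (B : Sesq σ E) : Set (ℙ F E) := {x | B x.rep x.rep = 0}

omit [Fintype F] in
theorem mk_mem_Om {v : E} (hv : v ≠ 0) : Projectivization.mk F v hv ∈ Om B ↔ B v v = 0 := by
  obtain ⟨a, ha⟩ := exists_smul_eq_mk_rep F v hv
  simp [Om, ← ha, Units.smul_def]

omit [Fintype F] in
theorem su_smul_mk (g : SUb B) {v : E} (hv : v ≠ 0) :
    g • Projectivization.mk F v hv = Projectivization.mk F (suAct B g v) fun h => hv (rep_injective _ g (by simpa using h)) := rfl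

omit [Fintype F] in
theorem smul_mk_eq {g : SUb B} {v u : E} {hv : v ≠ 0} {hu : u ≠ 0} :
    g • Projectivization.mk F v hv = Projectivization.mk F u hu ↔ ∃ c : F, suAct B g v = c • u := by
  rw [su_smul_mk, mk_eq_mk_iff']
  simp only [eq_comm]

omit [Fintype F] in
theorem smul_mem_Om (g : SUb B) {x : ℙ F E} (hx : x ∈ Om B) : g • x ∈ Om B := by
  induction x using Projectivization.ind with
  | h v hv => rw [su_smul_mk, mk_mem_Om, suAct_pres]; exact (mk_mem_Om hv).1 hx

theorem Om_finite (B : Sesq σ E) : (Om B).Finite := by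
  have := finite_of_finiteDimensional F E
  exact Set.toFinite _

theorem ncard_Om (hU : UF σ q) (hB : IsEps B 1) (h3 : finrank F E = 3) :
    (Om B).ncard = q ^ 3 + 1 := by
  obtain ⟨v, -, hv, hvv⟩ := exists_iso_vec hB hU ⊤ (by rw [finrank_top, h3]; omega)
  have h1 := index_PS_iso hB hU (k := 2) h3 le_rfl hv hvv
  have h2 : orbit (SUb B) (Projectivization.mk F v hv) = Om B := by
    refine Set.Subset.antisymm ?_ fun x hx => ?_
    · rintro _ ⟨g, rfl⟩
      exact smul_mem_Om g ((mk_mem_Om hv).2 hvv)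
    · obtain ⟨g, hg⟩ := su_move_iso hB hU h3.ge hvv hv hx x.rep_nonzero
      exact ⟨g, (smul_mk_eq.2 ⟨1, by simp [hg]⟩).trans x.mk_rep⟩
  have h4 : stabilizer (SUb B) (Projectivization.mk F v hv) = PS (suAct B) v := by
    ext g
    rw [mem_stabilizer_iff, smul_mk_eq]
    exact ⟨fun ⟨c, hc⟩ => mem_PS _ hv (Submodule.mem_span_singleton.2 ⟨c, hc.symm⟩),
      fun ⟨c, hc⟩ => ⟨c, hc⟩⟩
  rw [← h2, ← index_stabilizer, h4]
  rw [uq, uq, if_neg (by decide), if_pos (by decide)] at h1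
  have : 2 ^ 2 ≤ q ^ 2 := Nat.pow_le_pow_left hU.two_le 2
  exact Nat.eq_of_mul_eq_mul_right (by omega) h1

omit [Fintype F] in
theorem Fr3.exists_rep {e w f : E} (h : Fr3 B e w f) {y : ℙ F E} (hy : y ∈ Om B)
    (hne : y ≠ Projectivization.mk F e h.e0) : ∃ (u : E) (hu : u ≠ 0), y = Projectivization.mk F u hu ∧ B u u = 0 ∧ B u e = 1 := by
  have h1 : B y.rep e ≠ 0 := fun h0 => hne (by
    obtain ⟨c, hc⟩ := h.eps.parallel_of_iso h.dim h.e0 h.ee hy h0
    rw [← y.mk_rep, mk_eq_mk_iff']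
    exact ⟨c, hc.symm⟩)
  refine ⟨(B y.rep e)⁻¹ • y.rep, smul_ne_zero (inv_ne_zero h1) y.rep_nonzero, ?_, ?_, by simp [h1]⟩
  · rw [eq_comm]
    exact ((mk_eq_mk_iff' _ _ _ _ _).2 ⟨_, rfl⟩).trans y.mk_rep
  · have : B y.rep y.rep = 0 := hy
    simp [this]

theorem Fr3.semireg (hU : UF σ q) {e w f : E} (h : Fr3 B e w f) {g : SUb B}
    (hg : suAct B g e = e) {y : ℙ F E} (hy : y ∈ Om B) (hgy : g • y = y) :
    y = Projectivization.mk F e h.e0 ∨ g = 1 := by
  refine or_iff_not_imp_left.2 fun hne => ?_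
  obtain ⟨u, hu, rfl, h1, h2⟩ := h.exists_rep hy hne
  obtain ⟨w', h'⟩ := exists_fr3_of_pair hU h.eps h.dim h.ee h1 h2
  obtain ⟨c, hc⟩ := smul_mk_eq.1 hgy
  exact h'.eq_one hg hc

/-- The scalars. -/
def Zs (B : Sesq σ E) : Subgroup (SUb B) where
  carrier := {g | ∃ c : F, ∀ v, suAct B g v = c • v}
  one_mem' := ⟨1, by simp⟩
  mul_mem' := fun ⟨c, hc⟩ ⟨d, hd⟩ => ⟨c * d, fun v => by
    rw [act_mul_apply, hd, hc, mul_smul]⟩
  inv_mem' := fun {g} ⟨c, hc⟩ => ⟨c⁻¹, fun v => by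
    by_cases h0 : c = 0
    · rw [← act_inv_apply (suAct B) g v, hc, h0]; simp
    · rw [eq_inv_smul_iff₀ h0, ← map_smul, ← hc, act_inv_apply]⟩

theorem exists_scalar_su (hB : IsEps B 1) (h3 : finrank F E = 3) {c : F} (h1 : c ^ 3 = 1)
    (h2 : c * σ c = 1) : ∃ g : SUb B, ∀ v, suAct B g v = c • v :=
  ⟨⟨hB.toIsom (c • 1) fun u v => by
    simp only [LinearMap.smul_apply, End.one_apply, map_smul, LinearMap.map_smulₛₗ, smul_eq_mul,
      RingHom.id_apply]
    linear_combination B u v * h2, by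
      change LinearMap.det (c • 1 : End F E) = 1
      rw [LinearMap.det_smul, h3, h1, map_one, mul_one]⟩, fun _ => rfl⟩

theorem Fr3.scalar {e w f : E} (h : Fr3 B e w f) {g : SUb B} {c : F}
    (hc : ∀ v, suAct B g v = c • v) : c ^ 3 = 1 ∧ c * σ c = 1 := by
  have h1 := suAct_det g
  have h2 := suAct_pres g w w
  rw [show suAct B g = c • 1 from LinearMap.ext hc, LinearMap.det_smul, h.dim] at h1
  exact ⟨by simpa using h1, by simpa [hc, h.ww, mul_comm] using h2⟩

theorem Fr3.card_Zs (hU : UF σ q) {e w f : E} (h : Fr3 B e w f) :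
    Nat.card (Zs B) = if 3 ∣ q + 1 then 3 else 1 := by
  split_ifs with hq
  · obtain ⟨ζ, hζ⟩ := hU.exists_prim
    obtain ⟨k, hk⟩ := hq
    have hω : IsPrimitiveRoot (ζ ^ k) 3 := hζ.pow (by omega) (by rw [hk, mul_comm])
    obtain ⟨s, hs⟩ := exists_scalar_su h.eps h.dim hω.pow_eq_one (by
      rw [hU.norm_eq, ← pow_mul, mul_comm, pow_mul, hζ.pow_eq_one, one_pow])
    have hp : ∀ (i : ℕ) v, suAct B (s ^ i) v = (ζ ^ k) ^ i • v := fun i v => by
      induction i with
      | zero => simp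
      | succ i ih => rw [pow_succ', act_mul_apply, ih, hs, smul_smul, ← pow_succ']
    have h1 : Zs B = Subgroup.zpowers s := le_antisymm (fun g ⟨c, hc⟩ => by
      obtain ⟨i, -, hi⟩ := hω.eq_pow_of_pow_eq_one (h.scalar hc).1
      exact ⟨i, H1.su_ext fun v => by simp only [zpow_natCast, hp, hi, hc]⟩) (Subgroup.zpowers_le.2 ⟨_, hs⟩)
    rw [h1, Nat.card_zpowers]
    refine orderOf_eq_prime (H1.su_ext fun v => by rw [hp, hω.pow_eq_one]; simp) fun e1 => ?_
    have := hs e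
    exact hω.ne_one (by norm_num) (by simpa [e1, h.ef] using congrArg (B · f) this.symm)
  · rw [Subgroup.card_eq_one, eq_bot_iff]
    rintro g ⟨c, hc⟩
    obtain ⟨h1, h2⟩ := h.scalar hc
    rw [hU.norm_eq] at h2
    have h4 := (pow_gcd_eq_one (a := c)).2 ⟨h1, h2⟩
    rw [(Nat.Prime.coprime_iff_not_dvd Nat.prime_three).2 hq, pow_one] at h4
    exact H1.su_ext fun v => by simp [hc, h4]

end Cfsg.Agent.H5
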