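import Cfsg.Agent.H5.U3C

/-! Subgroups of `SU(3, q)`: the point stabiliser. -/

set_option autoImplicit false
set_option linter.unusedSectionVars false

namespace Cfsg.Agent.H5

open Module H1 MulAction Projectivization
open scoped LinearAlgebra.Projectivization

variable {F : Type*} [Field F] {σ : F →+* F} {E : Type*} [AddCommGroup E] [Module F E]
  [FiniteDimensional F E] {B : Sesq σ E}

theorem su_smul (g : SUb B) (v : E) : g • v = suAct B g v := rfl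

theorem act_inv_eq {g : SUb B} {u v : E} (h : suAct B g u = v) : suAct B g⁻¹ v = u := by
  rw [← h, act_inv_apply]

/-- The eigenvalues on `e`. -/
def Dg (H : Subgroup (SUb B)) (e : E) : Subgroup Fˣ where
  carrier := {l | ∃ h ∈ H, suAct B h e = (l : F) • e}
  one_mem' := ⟨1, H.one_mem, by simp⟩
  mul_mem' := fun {l m} ⟨h, hh, e1⟩ ⟨k, hk, e2⟩ => ⟨h * k, H.mul_mem hh hk, by
    rw [act_mul_apply, e2, map_smul, e1, smul_smul, mul_comm, Units.val_mul]⟩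
  inv_mem' := fun {l} ⟨h, hh, e1⟩ => ⟨h⁻¹, H.inv_mem hh, act_inv_eq (by
    rw [map_smul, e1, smul_smul]; simp)⟩

theorem mem_Dg {H : Subgroup (SUb B)} {e : E} {l : Fˣ} :
    l ∈ Dg H e ↔ ∃ h ∈ H, suAct B h e = (l : F) • e := Iff.rfl

/-- The translation part. -/
def Pt (H : Subgroup (SUb B)) (e w : E) : AddSubgroup F where
  carrier := {a | ∃ h ∈ H, suAct B h e = e ∧ suAct B h w = w + a • e}
  zero_mem' := ⟨1, H.one_mem, by simp⟩
  add_mem' := fun {a b} ⟨h, hh, e1, e2⟩ ⟨k, hk, e3, e4⟩ => ⟨h * k, H.mul_mem hh hk, by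
    rw [act_mul_apply, e3, e1], by rw [act_mul_apply, e4, map_add, map_smul, e1, e2]; module⟩
  neg_mem' := fun {a} ⟨h, hh, e1, e2⟩ => ⟨h⁻¹, H.inv_mem hh, act_inv_eq e1, act_inv_eq (by
    rw [map_add, map_smul, e1, e2]; module)⟩

/-- The transvection part. -/
def P0 (H : Subgroup (SUb B)) {e : E} (he : B e e = 0) : AddSubgroup F where
  carrier := {c | ∃ h ∈ H, ∀ z, suAct B h z = z + (c * B z e) • e}
  zero_mem' := ⟨1, H.one_mem, by simp⟩
  add_mem' := fun {a b} ⟨h, hh, e1⟩ ⟨k, hk, e2⟩ => ⟨h * k, H.mul_mem hh hk, fun z => by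
    rw [act_mul_apply, e2, e1]; simp [he]; module⟩
  neg_mem' := fun {a} ⟨h, hh, e1⟩ => ⟨h⁻¹, H.inv_mem hh, fun z => act_inv_eq (by
    rw [e1]; simp [he])⟩

variable {H : Subgroup (SUb B)} {e w f : E}

theorem Fr3.mem_P0 (h : Fr3 B e w f) {c : F} : c ∈ P0 H h.ee ↔
    ∃ k ∈ H, suAct B k e = e ∧ suAct B k w = w ∧ suAct B k f = f + c • e := by
  refine ⟨fun ⟨k, hk, e1⟩ => ⟨k, hk, by simp [e1, h.ee], by simp [e1, h.we], by simp [e1, h.fe]⟩,
    fun ⟨k, hk, e1, e2, e3⟩ => ⟨k, hk, fun z => ?_⟩⟩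
  obtain ⟨a, b, d, rfl⟩ := h.exists_dec z
  simp [e1, e2, e3, h.ee, h.we, h.fe]
  module

theorem Fr3.skew (h : Fr3 B e w f) {c : F} (hc : c ∈ P0 H h.ee) : σ c = -c := by
  obtain ⟨k, -, -, -, e3⟩ := h.mem_P0.1 hc
  have := suAct_pres k f f
  simp [e3, h.ee, h.ff, h.fe, h.ef] at this
  linear_combination this

theorem Fr3.unip (h : Fr3 B e w f) {k : SUb B} (e1 : suAct B k e = e) : ∃ a c : F,
    suAct B k w = w + a • e ∧ suAct B k f = f - σ a • w + c • e := by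
  obtain ⟨-, ν, a, b, d, a1, a2, -, a4, a5⟩ := h.stab (g := k) (l := 1) (by simp [e1])
  simp only [map_one, inv_one, one_smul, mul_one, one_mul] at a2 a4 a5
  subst a4
  obtain rfl : b = -σ a := by rw [map_one] at a5; linear_combination a5
  exact ⟨a, d, by simpa using a1, by rw [a2]; module⟩

theorem Fr3.unip' (h : Fr3 B e w f) {k : SUb B} {a : F} (e1 : suAct B k e = e)
    (e2 : suAct B k w = w + a • e) : ∃ c : F, suAct B k f = f - σ a • w + c • e := by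
  obtain ⟨a', c, a1, a2⟩ := h.unip e1
  obtain rfl : a' = a := by simpa [h.ef, h.wf] using congrArg (B · f) (a1.symm.trans e2)
  exact ⟨c, a2⟩

theorem P0_conj {u : E} (he : B e e = 0) (hu : B u u = 0) {g : SUb B} (hg : g ∈ H) {a c : F}
    (ha : suAct B g e = a • u) (hc : c ∈ P0 H he) : c * (a * σ a) ∈ P0 H hu := by
  obtain ⟨k, hk, e1⟩ := hc
  refine ⟨g * k * g⁻¹, H.mul_mem (H.mul_mem hg hk) (H.inv_mem hg), fun z => ?_⟩
  rw [act_mul_apply, act_mul_apply, e1, map_add, map_smul, act_apply_inv, ← suAct_pres g,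
    act_apply_inv, ha]
  simp only [LinearMap.map_smulₛₗ, smul_eq_mul, smul_smul]
  congr 2
  ring

theorem Fr3.Pt_comm (h : Fr3 B e w f) {a b : F} (ha : a ∈ Pt H e w) (hb : b ∈ Pt H e w) :
    σ a * b - σ b * a ∈ P0 H h.ee := by
  obtain ⟨k, hk, e1, e2⟩ := ha
  obtain ⟨l, hl, e3, e4⟩ := hb
  obtain ⟨c, e5⟩ := h.unip' e1 e2
  obtain ⟨d, e6⟩ := h.unip' e3 e4
  have a1 : suAct B ((l * k)⁻¹ * (k * l)) e = e := by
    rw [act_mul_apply]; exact act_inv_eq (by simp [e1, e3])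
  refine h.mem_P0.2 ⟨(l * k)⁻¹ * (k * l),
    H.mul_mem (H.inv_mem (H.mul_mem hl hk)) (H.mul_mem hk hl), a1, ?_, ?_⟩ <;>
    rw [act_mul_apply] <;> refine act_inv_eq ?_ <;> simp [e1, e2, e3, e4, e5, e6] <;> module

theorem Fr3.Pt_sq (h : Fr3 B e w f) (h2 : (2 : F) = 0) {a : F} (ha : a ∈ Pt H e w) :
    a * σ a ∈ P0 H h.ee := by
  obtain ⟨k, hk, e1, e2⟩ := ha
  obtain ⟨c, e5⟩ := h.unip' e1 e2
  refine h.mem_P0.2 ⟨k * k, H.mul_mem hk hk, by simp [e1], ?_, ?_⟩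
  · simp [e1, e2]
    linear_combination (norm := module) h2 • a • e
  · simp [e1, e2, e5]
    linear_combination (norm := module) h2 • ((c - a * σ a) • e - σ a • w)

theorem Fr3.Pt_conj (h : Fr3 B e w f) {k : SUb B} (hk : k ∈ H) {l : F} (hl : suAct B k e = l • e)
    {a : F} (ha : a ∈ Pt H e w) : l ^ 2 / σ l * a ∈ Pt H e w := by
  obtain ⟨h0, ν, b, -, -, a1, -, -, a4, -⟩ := h.stab hl
  obtain ⟨u, hu, e1, e2⟩ := ha
  have h0' : σ l ≠ 0 := by simpa using h0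
  have hν : ν ≠ 0 := by rintro rfl; exact h0' (by rw [← a4, zero_mul])
  have b1 : suAct B k⁻¹ e = l⁻¹ • e := act_inv_eq (by rw [map_smul, hl, inv_smul_smul₀ h0])
  have b2 : suAct B k⁻¹ w = ν⁻¹ • w - (ν⁻¹ * b * l⁻¹) • e := act_inv_eq (by
    simp only [map_sub, map_smul, hl, a1]
    match_scalars <;> field_simp <;> ring)
  refine ⟨k * u * k⁻¹, H.mul_mem (H.mul_mem hk hu) (H.inv_mem hk), ?_, ?_⟩
  · simp [b1, e1, hl, h0]
  · simp only [act_mul_apply, b2, map_sub, map_add, map_smul, e1, e2, hl, a1, ← a4]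
    match_scalars <;> field_simp <;> ring

variable [Fintype F] {q : ℕ}

theorem Fr3.card_stab1 (h : Fr3 B e w f) (H : Subgroup (SUb B)) :
    Nat.card (H ⊓ stabilizer (SUb B) (Projectivization.mk F e h.e0) : Subgroup (SUb B)) =
      Nat.card (Dg H e) * Nat.card (H ⊓ stabilizer (SUb B) e : Subgroup (SUb B)) := by
  have := finite_SUb B
  rw [card_eq_of_trans (X := E) _ (S := (fun l : Fˣ => (l : F) • e) '' Dg H e) (x := e) ?_
    ⟨1, one_mem _, by simp⟩ ?_, Set.ncard_image_of_injective _ ?_]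
  · congr 3
    refine le_antisymm (inf_le_inf_right _ inf_le_left) (le_inf (le_inf inf_le_left fun g hg => ?_)
      inf_le_right)
    exact smul_mk_eq.2 ⟨1, by simpa [su_smul] using hg.2⟩
  · intro a b hab
    exact Units.ext (smul_left_injective F h.e0 hab)
  · rintro k ⟨hk, hk'⟩ _ ⟨l, hl, rfl⟩
    obtain ⟨c, hc⟩ := smul_mk_eq.1 hk'
    exact ⟨l * Units.mk0 c (h.stab hc).1, mul_mem hl (mem_Dg.2 ⟨k, hk, hc⟩), by
      simp [su_smul, hc, smul_smul]⟩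
  · rintro _ ⟨l, hl, rfl⟩
    obtain ⟨k, hk, hl⟩ := mem_Dg.1 hl
    exact ⟨k, ⟨hk, smul_mk_eq.2 ⟨_, hl⟩⟩, hl⟩

theorem Fr3.card_stab2 (h : Fr3 B e w f) (H : Subgroup (SUb B)) :
    Nat.card (H ⊓ stabilizer (SUb B) e : Subgroup (SUb B)) =
      Nat.card (Pt H e w) * Nat.card (P0 H h.ee) := by
  have := finite_SUb B
  rw [card_eq_of_trans (X := E) _ (S := (fun a : F => w + a • e) '' Pt H e w) (x := w) ?_
    ⟨0, zero_mem _, by simp⟩ ?_, Set.ncard_image_of_injective _ ?_,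
    card_eq_of_trans (X := E) _ (S := (fun a : F => f + a • e) '' P0 H h.ee) (x := f) ?_
    ⟨0, zero_mem _, by simp⟩ ?_, Set.ncard_image_of_injective _ ?_]
  · rw [(Subgroup.card_eq_one (H := _ ⊓ stabilizer (SUb B) f)).2, mul_one]
    · rfl
    · rw [eq_bot_iff]
      exact fun g hg => h.eq_one (c := 1) hg.1.1.2 (by simpa [su_smul] using hg.2)
  · intro a b hab
    exact smul_left_injective F h.e0 (add_left_cancel hab)
  · rintro k ⟨⟨hk, e1⟩, e2⟩ _ ⟨c, hc, rfl⟩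
    obtain ⟨d, hd⟩ := h.unip' (k := k) (a := 0) e1 (by simpa [su_smul] using e2)
    refine ⟨d + c, add_mem (h.mem_P0.2 ⟨k, hk, e1, e2, by simpa using hd⟩) hc, ?_⟩
    have e1' : suAct B k e = e := e1
    simp [su_smul, hd, e1', add_smul, add_assoc]
  · rintro _ ⟨c, hc, rfl⟩
    obtain ⟨k, hk, e1, e2, e3⟩ := h.mem_P0.1 hc
    exact ⟨k, ⟨⟨hk, e1⟩, e2⟩, e3⟩
  · intro a b hab
    exact smul_left_injective F h.e0 (add_left_cancel hab)
  · rintro k ⟨hk, e1⟩ _ ⟨a, ha, rfl⟩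
    obtain ⟨b, -, hb, -⟩ := h.unip (k := k) e1
    have e1' : suAct B k e = e := e1
    exact ⟨b + a, add_mem ⟨k, hk, e1, hb⟩ ha, by simp [su_smul, hb, e1', add_smul, add_assoc]⟩
  · rintro _ ⟨a, ⟨k, hk, e1, e2⟩, rfl⟩
    exact ⟨k, ⟨hk, e1⟩, e2⟩

theorem card_dvd_of_pow {D : Subgroup Fˣ} {n : ℕ} (h : ∀ l ∈ D, (l : F) ^ n = 1) :
    Nat.card D ∣ n := by
  rw [← IsCyclic.exponent_eq_card]
  exact Monoid.exponent_dvd_of_forall_pow_eq_one fun l => Subtype.ext (Units.ext (h l l.2))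

theorem UF.card_sub_dvd (hU : UF σ q) (D : Subgroup Fˣ) : Nat.card D ∣ (q + 1) * (q - 1) :=
  hU.card_units ▸ D.card_subgroup_dvd_card

theorem Fr3.card_dvd_cube (hU : UF σ q) (h : Fr3 B e w f) {K : Subgroup (SUb B)}
    (hK : ∀ k ∈ K, suAct B k e = e) : Nat.card K ∣ q ^ 3 := by
  have := finite_SUb B
  have h1 := card_dvd_ncard (K := K) (S := Om B \ {Projectivization.mk F e h.e0})
    ((Om_finite B).subset Set.sdiff_subset) (fun k hk y hy => ⟨smul_mem_Om k hy.1, fun e1 => hy.2 (by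
      rw [Set.mem_singleton_iff, ← (smul_mk_eq (g := k) (hv := h.e0) (hu := h.e0)).2
        ⟨1, by simp [hK k hk]⟩] at e1
      exact smul_left_cancel k e1)⟩) fun y hy k hk e1 =>
    (h.semireg hU (hK k hk) hy.1 e1).resolve_left hy.2
  rwa [Set.ncard_sdiff_singleton_of_mem ((mk_mem_Om _).2 h.ee), ncard_Om hU h.eps h.dim] at h1

theorem trans_of_unip (hU : UF σ q) (hB : IsEps B 1) (h3 : finrank F E = 3) {S : Set (ℙ F E)}
    (hS : S ⊆ Om B) (hinv : ∀ k ∈ H, ∀ x ∈ S, k • x ∈ S)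
    (h : ∀ x ∈ S, ∃ k ∈ H, suAct B k x.rep = x.rep ∧ k ≠ 1) {x y : ℙ F E} (hx : x ∈ S)
    (hy : y ∈ S) : ∃ g ∈ H, g • x = y := by
  have := finite_SUb B
  obtain ⟨p, hp⟩ := CharP.exists F
  obtain ⟨hp', j, -, rfl⟩ := exists_char_pow hU.card p
  refine trans_of_prime H ((Om_finite B).subset hS) hinv hp'.one_lt.ne' (fun z hz => ?_) hx hy
  obtain ⟨w, f, hf⟩ := exists_fr3 hU hB h3 z.rep_nonzero (hS hz)
  obtain ⟨k, hk, e1, e2⟩ := h z hz
  refine ⟨H ⊓ stabilizer (SUb B) z.rep, inf_le_left, ?_, fun g hg => ?_, fun g hg u hu e3 => ?_⟩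
  · have h1 := hf.card_dvd_cube hU (K := H ⊓ stabilizer (SUb B) z.rep) fun _ hg => hg.2
    rw [← pow_mul] at h1
    obtain ⟨i, -, hi⟩ := (Nat.dvd_prime_pow hp').1 h1
    refine hi ▸ dvd_pow_self p ?_
    rintro rfl
    exact e2 (Subgroup.mem_bot.1 (Subgroup.card_eq_one.1 hi ▸ ⟨hk, e1⟩))
  · rw [← z.mk_rep]
    exact smul_mk_eq.2 ⟨1, by simpa [su_smul] using hg.2⟩
  · simpa using hf.semireg hU hg.2 (hS hu) e3

theorem trans_of_card (hU : UF σ q) (hB : IsEps B 1) (h3 : finrank F E = 3)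
    (hH : (q ^ 3 + 1) * ((q + 1) * (q - 1)) ≤ Nat.card H) {x y : ℙ F E} (hx : x ∈ Om B)
    (hy : y ∈ Om B) : ∃ g ∈ H, g • x = y := by
  have := finite_SUb B
  by_cases h : ∀ x ∈ Om B, ∃ k ∈ H, suAct B k x.rep = x.rep ∧ k ≠ 1
  · exact trans_of_unip hU hB h3 subset_rfl (fun k _ _ => smul_mem_Om k) h hx hy
  push Not at h
  obtain ⟨z, hz, h⟩ := h
  obtain ⟨w, f, hf⟩ := exists_fr3 hU hB h3 z.rep_nonzero hz
  have h1 := hf.card_stab1 H
  rw [z.mk_rep, (Subgroup.card_eq_one (H := H ⊓ stabilizer (SUb B) z.rep)).2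
    (eq_bot_iff.2 fun k hk => h k hk.1 hk.2), mul_one] at h1
  have hsub : orbit H z ⊆ Om B := by
    rintro _ ⟨k, rfl⟩
    exact smul_mem_Om k.1 hz
  have h2 := card_eq_of_trans H (S := orbit H z) (x := z) (by
    rintro k hk _ ⟨l, rfl⟩
    exact ⟨⟨k, hk⟩ * l, mul_smul _ _ _⟩) (mem_orbit_self z) fun y ⟨k, hk⟩ => ⟨k, k.2, hk⟩
  have h4 := Nat.le_of_dvd (by have := hU.two_le; exact Nat.mul_pos (by omega) (by omega))
    (hU.card_sub_dvd (Dg H z.rep))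
  have h5 : orbit H z = Om B := Set.eq_of_subset_of_ncard_le hsub (by
    rw [ncard_Om hU hB h3]
    rw [h2, h1] at hH
    exact Nat.le_of_mul_le_mul_right (hH.trans (Nat.mul_le_mul_left _ h4))
      (lt_of_lt_of_le Nat.card_pos h4)) (Om_finite B)
  rw [← h5] at hx hy
  obtain ⟨k, rfl⟩ := hx
  obtain ⟨l, rfl⟩ := hy
  exact ⟨l * k⁻¹, (l * k⁻¹).2, by simp [mul_smul, Subgroup.smul_def]⟩

end Cfsg.Agent.H5
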