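import Cfsg.Agent.H5.U3E

/-! Irreducible elements and fixed points in `SU(3, q)`. -/

set_option autoImplicit false
set_option linter.unusedSectionVars false

namespace Cfsg.Agent.H5

open Module H1 MulAction Projectivization
open scoped LinearAlgebra.Projectivization

variable {F : Type*} [Field F] {σ : F →+* F} {E : Type*} [AddCommGroup E] [Module F E]
  [FiniteDimensional F E] {B : Sesq σ E} {H : Subgroup (SUb B)} {e w f : E} [Fintype F] {q : ℕ}

theorem Fr3.sing (h : Fr3 B e w f) (H : Subgroup (SUb B)) :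
    Sing ((Zs B).subgroupOf H) {g : H | NoEig (suAct B g)} where
  central z hz g := by
    obtain ⟨c, hc⟩ := hz
    have hc : ∀ v, suAct B z v = c • v := hc
    exact Subtype.ext (H1.su_ext fun v => by simp [hc])
  conj g hg k v c hv := by
    have h1 := congrArg (suAct B (k : SUb B)⁻¹) hv
    simp only [Subgroup.coe_mul, Subgroup.coe_inv, act_mul_apply, act_inv_apply, map_smul] at h1
    exact rep_injective _ _ ((hg _ c h1).trans (map_zero _).symm)
  comm g hg a b ha hb := Subtype.ext (suAct_injective B (by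
    simp only [Subgroup.coe_mul, map_mul]
    exact NoEig.comm hg h.dim (ha.map ((suAct B).comp H.subtype))
      (hb.map ((suAct B).comp H.subtype))))
  mem g hg a ha hZ := NoEig.noEig hg h.dim (ha.map ((suAct B).comp H.subtype)) fun c hc =>
    hZ ⟨c, fun v => LinearMap.congr_fun hc v⟩
  notMem g hg := fun ⟨c, hc⟩ => h.e0 (hg e c (hc e))
  eps g hg := ncard_conj_comm ((suAct B).comp H.subtype)
    ((suAct_injective B).comp Subtype.val_injective) h.dim hg

theorem exists_fr3_of_unit (hU : UF σ q) (hB : IsEps B 1) (h3 : finrank F E = 3) (hw : B w w = 1) :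
    ∃ e f, Fr3 B e w f := by
  have h0 : w ≠ 0 := fun h => by simp [h] at hw
  have h1 := hB.finrank_perp (F ∙ w)
  rw [finrank_span_singleton h0, h3] at h1
  obtain ⟨e, he, he0, hee⟩ := exists_iso_vec hB hU (perp B (F ∙ w)) (by omega)
  obtain ⟨f, hf, hff, hfe⟩ := exists_hyp hB hU (single_disjoint (by simp [hw])) he he0 hee
  exact ⟨e, f, hB, h3, hee, hff, hfe, hB.refl (he w (Submodule.mem_span_singleton_self w)),
    hB.refl (hf w (Submodule.mem_span_singleton_self w)), hw⟩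

theorem noEig_of_prime (hU : UF σ q) (hB : IsEps B 1) (h3 : finrank F E = 3) {r : ℕ} (hr : r.Prime)
    (h1 : ¬ r ∣ q) (h2 : ¬ r ∣ q + 1) (h4 : ¬ r ∣ q - 1) {g : SUb B} (hg : orderOf g = r) :
    NoEig (suAct B g) := by
  have := finite_SUb B
  have := Fact.mk hr
  have hp : ∀ (k : SUb B) v (c : F), suAct B k v = c • v → ∀ i : ℕ, suAct B (k ^ i) v = c ^ i • v :=
    fun k v c hc i => by
      induction i with
      | zero => simp
      | succ i ih => rw [pow_succ', act_mul_apply, ih, map_smul, hc, smul_smul, pow_succ]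
  have hfix : ∀ k : SUb B, k ^ r = 1 → ∀ v (c : F), v ≠ 0 → suAct B k v = c • v →
      suAct B k v = v := fun k hk v c hv hc => by
    have a1 := hp k v c hc r
    rw [hk, map_one, End.one_apply] at a1
    have a2 : c ^ r = 1 := smul_left_injective F hv (by simpa using a1.symm)
    have a3 : c ^ ((q + 1) * (q - 1)) = 1 := by
      have := pow_card_eq_one' (x := Units.mk0 c (by rintro rfl; simp [hr.ne_zero] at a2))
      rw [hU.card_units] at this
      simpa using congrArg Units.val this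
    have a4 := (pow_gcd_eq_one (a := c)).2 ⟨a2, a3⟩
    rw [Nat.Coprime.mul_right (hr.coprime_iff_not_dvd.2 h2) (hr.coprime_iff_not_dvd.2 h4),
      pow_one] at a4
    simp [hc, a4]
  have hiso : ∀ k : SUb B, orderOf k = r → ∀ v, B v v = 0 → suAct B k v = v → v = 0 :=
    fun k hk v hv hc => by
      by_contra h0
      obtain ⟨w, f, hf⟩ := exists_fr3 hU hB h3 h0 hv
      have := hf.card_dvd_cube hU (K := Subgroup.zpowers k)
        fun _ hl => (Subgroup.zpowers_le (H := stabilizer (SUb B) v)).2 hc hl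
      rw [Nat.card_zpowers, hk] at this
      exact h1 (hr.dvd_of_dvd_pow this)
  intro v c hc
  by_contra hv
  have hc := hfix g (hg ▸ pow_orderOf_eq_one g) v c hv hc
  obtain ⟨a, ha⟩ := hU.exists_smul_unit hB.herm (fun h0 => hv (hiso g hg v h0 hc)) (map_one σ)
  obtain ⟨e, f, hf⟩ := exists_fr3_of_unit hU hB h3 ha
  have h5 := card_dvd_ncard (K := Subgroup.zpowers g) (S := {y ∈ Om B | B y.rep (a • v) = 0})
    ((Om_finite B).subset fun _ h => h.1) (fun k hk y hy => ?_) fun y hy k hk e1 => ?_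
  · rw [Nat.card_zpowers, hg, hf.ncard_line hU] at h5
    exact h2 h5
  · refine ⟨smul_mem_Om k hy.1, ?_⟩
    obtain ⟨b, hb⟩ := (smul_mk_eq (g := k) (hv := y.rep_nonzero) (hu := (k • y).rep_nonzero)).1
      (by simp)
    have h0 : b ≠ 0 := by
      rintro rfl
      exact y.rep_nonzero (rep_injective _ k (by simpa using hb))
    have h1 := suAct_pres k y.rep (a • v)
    rw [hb, map_smul (suAct B k), show suAct B k v = v from
      (Subgroup.zpowers_le (H := stabilizer (SUb B) v)).2 hc hk, hy.2] at h1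
    rw [map_smul B, LinearMap.smul_apply, smul_eq_zero] at h1
    exact h1.resolve_left h0
  · by_contra hk1
    have h6 : k ^ r = 1 := by
      obtain ⟨i, rfl⟩ := hk
      simp only [← hg, ← zpow_natCast, ← zpow_mul, mul_comm i]
      rw [zpow_mul, zpow_natCast, pow_orderOf_eq_one, one_zpow]
    obtain ⟨b, hb⟩ := (smul_mk_eq (g := k) (hv := y.rep_nonzero) (hu := y.rep_nonzero)).1
      (by simpa using e1)
    exact y.rep_nonzero (hiso k (orderOf_eq_prime h6 hk1) _ hy.1 (hfix k h6 _ b y.rep_nonzero hb))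

theorem prime_facts {q Q r : ℕ} (hq : 0 < q) (hQ : Q + q = q ^ 2 + 1) (hr : r.Prime) (h : r ∣ Q)
    (h3 : r ≠ 3) : 7 ≤ r ∧ ¬ r ∣ q ∧ ¬ r ∣ q + 1 ∧ ¬ r ∣ q - 1 := by
  have z2 : ∀ x : ZMod 2, x ^ 2 - x + 1 ≠ 0 := by decide
  have z5 : ∀ x : ZMod 5, x ^ 2 - x + 1 ≠ 0 := by decide
  have := Fact.mk hr
  have h1 : (q : ZMod r) ^ 2 - q + 1 = 0 := by
    have := congrArg (Nat.cast : ℕ → ZMod r) hQ
    push_cast at this
    rw [(ZMod.natCast_eq_zero_iff _ _).2 h] at this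
    linear_combination -this
  refine ⟨?_, fun h2 => ?_, fun h2 => h3 ?_, fun h2 => ?_⟩
  · by_contra hn
    have := hr.two_le
    have : r = 2 ∨ r = 4 ∨ r = 5 ∨ r = 6 := by omega
    rcases this with rfl | rfl | rfl | rfl
    · exact z2 _ h1
    · norm_num at hr
    · exact z5 _ h1
    · norm_num at hr
  · simp [(ZMod.natCast_eq_zero_iff _ _).2 h2] at h1
  · have h4 := (ZMod.natCast_eq_zero_iff _ _).2 h2
    push_cast at h4
    refine (Nat.prime_dvd_prime_iff_eq hr Nat.prime_three).1 ((ZMod.natCast_eq_zero_iff _ _).1 ?_)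
    push_cast
    linear_combination h1 - (q - 2) * h4
  · have h4 := (ZMod.natCast_eq_zero_iff _ _).2 h2
    rw [Nat.cast_pred hq] at h4
    exact one_ne_zero (α := ZMod r) (by linear_combination h1 - q * h4)

theorem Fr3.singer (hU : UF σ q) (hq : 3 ≤ q) (h : Fr3 B e w f) (hZ : Zs B ≤ H) (hT : Tr H) :
    ∃ z m, z * m + q = q ^ 2 + 1 ∧ z = (if 3 ∣ q + 1 then 3 else 1) ∧ ¬ 3 ∣ m ∧
      ((77 ≤ m ∧ 231 * {k | k ∈ H ∧ ∃ y ∈ Om B, k • y = y}.ncard ≤ 95 * Nat.card H) ∨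
      ∃ k n ε, k ∣ z ∧ Nat.card H = z * (m * k) * n ∧ n ≡ ε [MOD m] ∧
        (ε = 3 ∨ ε = 1 ∧ 7 * {k | k ∈ H ∧ ∃ y ∈ Om B, k • y = y}.ncard ≤ Nat.card H)) := by
  have := finite_SUb B
  have := finite_of_finiteDimensional F E
  obtain ⟨m, hm, hm3⟩ : ∃ m, (if 3 ∣ q + 1 then 3 else 1) * m + q = q ^ 2 + 1 ∧ ¬ 3 ∣ m := by
    split_ifs with h3
    · obtain ⟨j, rfl⟩ : ∃ j, q = 3 * j + 2 := ⟨(q - 2) / 3, by omega⟩
      exact ⟨3 * (j ^ 2 + j) + 1, by ring, by omega⟩
    · obtain ⟨t, rfl⟩ : ∃ t, q = t + 1 := ⟨q - 1, by omega⟩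
      refine ⟨t ^ 2 + t + 1, by ring, fun h4 => h3 (Nat.prime_three.dvd_of_dvd_pow (n := 2) ?_)⟩
      rw [show (t + 1 + 1) ^ 2 = t ^ 2 + t + 1 + 3 * (t + 1) by ring]
      exact dvd_add h4 (dvd_mul_right _ _)
  have hz : Nat.card ((Zs B).subgroupOf H) = if 3 ∣ q + 1 then 3 else 1 := by
    rw [Nat.card_congr (Subgroup.subgroupOfEquivOfLe hZ).toEquiv, h.card_Zs hU]
  refine ⟨_, m, hm, rfl, hm3, ?_⟩
  rw [← hz] at hm ⊢
  have hz3 : Nat.card ((Zs B).subgroupOf H) ∣ 3 := by rw [hz]; split_ifs <;> simp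
  generalize hz' : Nat.card ((Zs B).subgroupOf H) = z at hm hz3 ⊢
  have hN : q ^ 3 + 1 = (q + 1) * (z * m) := by nlinarith
  have h1 := card_eq_of_trans H (fun k _ _ => smul_mem_Om k) ((mk_mem_Om h.e0).2 h.ee)
    (hT _ ((mk_mem_Om h.e0).2 h.ee))
  rw [ncard_Om hU h.eps h.dim, hN] at h1
  have h2 : {g : H | NoEig (suAct B g)}.ncard + {k | k ∈ H ∧ ∃ y ∈ Om B, k • y = y}.ncard ≤
      Nat.card H := by
    rw [← Set.ncard_image_of_injective _ Subtype.val_injective, ← Set.ncard_union_eq]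
    · refine Set.ncard_le_ncard (t := (H : Set (SUb B))) ?_
      rintro _ (⟨g, -, rfl⟩ | hg)
      exacts [g.2, hg.1]
    · rw [Set.disjoint_left]
      rintro _ ⟨g, hg, rfl⟩ ⟨-, y, -, hy⟩
      obtain ⟨b, hb⟩ := (smul_mk_eq (g := g.1) (hv := y.rep_nonzero) (hu := y.rep_nonzero)).1
        (by simpa using hy)
      exact y.rep_nonzero (hg _ b hb)
  have hz0 := Nat.le_of_dvd three_pos hz3
  rcases (h.sing H).main (m := m) (h1 ▸ ((dvd_mul_left m z).mul_left _).mul_right _)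
    (by nlinarith) (hz' ▸ Nat.Coprime.coprime_dvd_right hz3
      ((Nat.Prime.coprime_iff_not_dvd Nat.prime_three).2 hm3).symm) (fun r hr hrm => by
      obtain ⟨a1, a2, a3, a4⟩ := prime_facts hU.pos hm hr (hrm.mul_left z) fun e => hm3 (e ▸ hrm)
      exact ⟨a1, fun g hg => noEig_of_prime hU h.eps h.dim hr a2 a3 a4
        ((Subgroup.orderOf_coe g).trans hg)⟩) with h4 | ⟨g, hg, a, n, ε, b1, ⟨k, rfl⟩, b2, b3, b4⟩
  · exact Or.inl ⟨h4.1, by omega⟩
  refine Or.inr ⟨k, n, ε, ?_, hz' ▸ b2, b3.of_mul_right k, b4.imp_right fun b => ⟨b.1, by omega⟩⟩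
  have key : ∀ S : Set (ℙ F E), (∀ k : SUb B, ∀ x ∈ S, k • x ∈ S) → m * k ∣ S.ncard := fun S hS => by
    have := card_dvd_mul_ncard ((h.sing H).le_cent g) (S := S) (Set.toFinite _)
      (fun k _ => hS k) fun x _ k hk => ⟨fun e1 => by_contra fun hn => ?_, fun ⟨c, hc⟩ => ?_⟩
    · rwa [b1, Nat.mul_dvd_mul_iff_left Nat.card_pos] at this
    · obtain ⟨b, hb⟩ := (smul_mk_eq (g := k.1) (hv := x.rep_nonzero) (hu := x.rep_nonzero)).1
        (by simpa [Subgroup.smul_def] using e1)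
      exact x.rep_nonzero ((h.sing H).mem g hg k (mem_cent.1 hk) hn _ b hb)
    · rw [← x.mk_rep]
      exact (smul_mk_eq (g := k.1)).2 ⟨c, hc _⟩
  have c1 := key _ smul_mem_Om
  have c2 := key Set.univ fun _ _ _ => trivial
  rw [ncard_Om hU h.eps h.dim, hN] at c1
  rw [Set.ncard_univ, card_of_finrank F E h.dim, Nat.card_eq_fintype_card, hU.card,
    show ∑ i ∈ Finset.range 3, (q ^ 2) ^ i = q * ((q + 1) * (z * m)) + m * z by
      simp only [Finset.sum_range_succ, Finset.range_zero, Finset.sum_empty]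
      rw [← hN]; nlinarith] at c2
  exact Nat.dvd_of_mul_dvd_mul_left (by nlinarith) ((Nat.dvd_add_right (c1.mul_left q)).1 c2)

theorem Fr3.fix_le_two (h : Fr3 B e w f) {k : SUb B} {l : F} (hl : suAct B k e = l • e)
    (hn : l * σ l ≠ 1) : (Om B ∩ fixedBy (ℙ F E) k).ncard ≤ 2 := by
  have h0 : ∀ {u : E} {c : F}, B u e = 1 → suAct B k u = c • u → c * σ l = 1 := fun {u c} h1 h2 => by
    have := suAct_pres k u e
    simpa [h1, h2, hl, mul_comm] using this
  have h1 : ((Om B ∩ fixedBy (ℙ F E) k) \ {Projectivization.mk F e h.e0}).Subsingleton := by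
    rintro y ⟨⟨a1, a2⟩, a3⟩ y' ⟨⟨b1, b2⟩, b3⟩
    obtain ⟨u, hu, rfl, a4, a5⟩ := h.exists_rep a1 a3
    obtain ⟨u', hu', rfl, b4, b5⟩ := h.exists_rep b1 b3
    obtain ⟨c, hc⟩ := smul_mk_eq.1 a2
    obtain ⟨d, hd⟩ := smul_mk_eq.1 b2
    have a6 := h0 a5 hc
    have b6 := congrArg σ (h0 b5 hd)
    have a7 := suAct_pres k u u'
    simp only [hc, hd, map_smul, LinearMap.smul_apply, LinearMap.map_smulₛₗ, smul_eq_mul, map_mul,
      h.eps.invol, map_one] at a7 b6
    have a8 : (l * σ l - 1) * B u u' = 0 := by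
      linear_combination -(l * σ l) * a7 + B u u' * σ d * l * a6 + B u u' * b6
    obtain ⟨t, ht⟩ := h.eps.parallel_of_iso h.dim hu' b4 a4
      ((mul_eq_zero.1 a8).resolve_left (sub_ne_zero.2 hn))
    exact (mk_eq_mk_iff' _ _ _ _ _).2 ⟨t, ht.symm⟩
  calc _ ≤ (insert (Projectivization.mk F e h.e0)
        ((Om B ∩ fixedBy (ℙ F E) k) \ {Projectivization.mk F e h.e0})).ncard :=
        Set.ncard_le_ncard (fun y hy => by by_cases e1 : y = Projectivization.mk F e h.e0 <;>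
          simp_all) ((((Om_finite B).inter_of_left _).subset Set.sdiff_subset).insert _)
    _ ≤ _ := (Set.ncard_insert_le _ _).trans (Nat.succ_le_succ ((Set.ncard_le_one
        (((Om_finite B).inter_of_left _).subset Set.sdiff_subset)).2 fun _ a _ b => h1 a b))

theorem Fr3.fix_eq_one (hU : UF σ q) (h : Fr3 B e w f) {k : SUb B} {l : F}
    (hl : suAct B k e = l • e) (h1 : l ^ 3 = 1) (h2 : l * σ l = 1) (hZ : k ∉ Zs B) :
    (Om B ∩ fixedBy (ℙ F E) k).ncard = 1 := by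
  obtain ⟨s, hs⟩ := exists_scalar_su h.eps h.dim h1 h2
  refine Set.ncard_eq_one.2 ⟨_, Set.eq_singleton_iff_unique_mem.2
    ⟨⟨(mk_mem_Om h.e0).2 h.ee, smul_mk_eq.2 ⟨l, hl⟩⟩, fun y hy => ?_⟩⟩
  refine (h.semireg hU (g := s⁻¹ * k) (by rw [act_mul_apply, hl]; exact act_inv_eq (hs e)) hy.1
    ?_).resolve_right fun e1 => hZ (inv_mul_eq_one.1 e1 ▸ ⟨l, hs⟩)
  rw [mul_smul, show k • y = y from hy.2, inv_smul_eq_iff, ← y.mk_rep]
  exact (smul_mk_eq.2 ⟨l, hs _⟩).symm

/-- Elements with eigenvalue a `j`-th root of unity on `e`. -/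
def Hj (H : Subgroup (SUb B)) (e : E) (j : ℕ) : Subgroup (SUb B) where
  carrier := {k | k ∈ H ∧ ∃ l : F, l ^ j = 1 ∧ suAct B k e = l • e}
  one_mem' := ⟨H.one_mem, 1, by simp⟩
  mul_mem' := fun ⟨a, l, b, c⟩ ⟨a', l', b', c'⟩ => ⟨H.mul_mem a a', l' * l, by
    rw [mul_pow, b, b', one_mul], by rw [act_mul_apply, c', map_smul, c, smul_smul]⟩
  inv_mem' := fun {k} ⟨a, l, b, c⟩ => ⟨H.inv_mem a, l⁻¹, by rw [inv_pow, b, inv_one], by
    by_cases h0 : l = 0
    · rw [← act_inv_apply (suAct B) k e, c, h0]; simp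
    · exact act_inv_eq (by rw [map_smul, c, inv_smul_smul₀ h0])⟩

theorem Fr3.card_Hj (h : Fr3 B e w f) (j : ℕ) : Nat.card (Hj H e j) = Nat.card (Dg (Hj H e j) e) *
    Nat.card (H ⊓ stabilizer (SUb B) e : Subgroup (SUb B)) ∧ Nat.card (Dg (Hj H e j) e) ∣ j := by
  refine ⟨?_, card_dvd_of_pow fun l hl => ?_⟩
  · have h1 := h.card_stab1 (Hj H e j)
    rw [inf_eq_left.2 fun k ⟨_, l, _, hl⟩ => smul_mk_eq.2 ⟨l, hl⟩] at h1
    rw [h1]
    congr 3
    exact le_antisymm (inf_le_inf_right _ fun _ hk => hk.1) fun k hk =>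
      ⟨⟨hk.1, 1, one_pow _, by simpa [su_smul] using hk.2⟩, hk.2⟩
  · obtain ⟨k, ⟨-, l', h1, h2⟩, h3⟩ := mem_Dg.1 hl
    rwa [smul_left_injective F h.e0 (h3.symm.trans h2)]

end Cfsg.Agent.H5
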