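import Cfsg.Agent.H5.U3F

/-! Large subgroups of `SU(3, q)`. -/

set_option autoImplicit false
set_option linter.unusedSectionVars false

namespace Cfsg.Agent.H5

open Module H1 MulAction Projectivization
open scoped LinearAlgebra.Projectivization

variable {F : Type*} [Field F] {σ : F →+* F} {E : Type*} [AddCommGroup E] [Module F E]
  [FiniteDimensional F E] {B : Sesq σ E} {H : Subgroup (SUb B)} {e w f : E} [Fintype F] {q : ℕ}

theorem UF.two_pow (hU : UF σ q) (h2 : (2 : F) = 0) : ∃ j, q = 2 ^ j := by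
  have : CharP F 2 := (CharP.charP_iff_prime_eq_zero Nat.prime_two).2 h2
  obtain ⟨-, j, -, hj⟩ := exists_char_pow hU.card 2
  exact ⟨j, hj⟩

theorem UF.not_two_dvd (hU : UF σ q) (h2 : (2 : F) ≠ 0) : ¬ 2 ∣ q := by
  rintro ⟨j, hj⟩
  obtain ⟨p, hp⟩ := CharP.exists F
  obtain ⟨hp', i, -, rfl⟩ := exists_char_pow hU.card p
  obtain rfl := (Nat.prime_dvd_prime_iff_eq Nat.prime_two hp').1
    (Nat.prime_two.dvd_of_dvd_pow ⟨j, hj⟩)
  exact h2 (CharP.cast_eq_zero F 2)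

theorem ncard_pow_eq_one_le {n : ℕ} (hn : 0 < n) : {x : F | x ^ n = 1}.ncard ≤ n := by
  classical
  refine le_trans ?_ ((Multiset.toFinset_card_le _).trans (Polynomial.card_nthRoots n (1 : F)))
  rw [← Set.ncard_coe_finset]
  exact Set.ncard_le_ncard fun x hx => by simpa [Polynomial.mem_nthRoots hn] using hx

theorem Fr3.card_H (hU : UF σ q) (h : Fr3 B e w f) (hT : Tr H) : Nat.card H = (q ^ 3 + 1) *
    Nat.card (H ⊓ stabilizer (SUb B) (Projectivization.mk F e h.e0) : Subgroup (SUb B)) := by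
  have := finite_SUb B
  rw [← ncard_Om hU h.eps h.dim]
  exact card_eq_of_trans H (fun k _ _ => smul_mem_Om k) ((mk_mem_Om h.e0).2 h.ee)
    (hT _ ((mk_mem_Om h.e0).2 h.ee))

theorem Fr3.caseE (hU : UF σ q) (hq : 3 ≤ q) (h : Fr3 B e w f) (hZ : Zs B ≤ H) (hT : Tr H)
    (hH : (q + 1) * (q - 1) ≤ Nat.card (Dg H e))
    (hP : Nat.card (H ⊓ stabilizer (SUb B) e : Subgroup (SUb B)) = 1) : False := by
  have := finite_SUb B
  have h1 := h.card_H hU hT
  have h2 := count_fix H (Om_finite B) (fun k _ _ => smul_mem_Om k) ((mk_mem_Om h.e0).2 h.ee)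
    (hT _ ((mk_mem_Om h.e0).2 h.ee))
  have h3 := le_antisymm (Nat.le_of_dvd (Nat.mul_pos (by omega) (by omega))
    (hU.card_sub_dvd (Dg H e))) hH
  rw [h.card_stab1, hP, mul_one, h3] at h1 h2
  rw [ncard_Om hU h.eps h.dim] at h2
  have h4 : {k | k ∈ H ∧ k • Projectivization.mk F e h.e0 = Projectivization.mk F e h.e0 ∧
      3 ≤ (Om B ∩ fixedBy (ℙ F E) k).ncard}.ncard ≤ q + 1 := by
    obtain ⟨a1, a2⟩ := h.card_Hj (H := H) (q + 1)
    rw [hP, mul_one] at a1
    refine le_trans (Set.ncard_le_ncard (t := (Hj H e (q + 1) : Set (SUb B))) ?_)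
      (Nat.le_of_dvd (by omega) (a1 ▸ a2 : Nat.card (Hj H e (q + 1)) ∣ _))
    rintro k ⟨a, b, c⟩
    obtain ⟨l, hl⟩ := smul_mk_eq.1 b
    refine ⟨a, l, by_contra fun hn => ?_, hl⟩
    have := h.fix_le_two hl (by rwa [hU.norm_eq])
    omega
  obtain ⟨z, m, b1, b2, b3, b4 | ⟨k, n, ε, b4, b5, b6, b7⟩⟩ := h.singer hU hq hZ hT
  · have hz : 1 ≤ z := by rw [b2]; split_ifs <;> omega
    have h10 : 9 ≤ q := by nlinarith [b4.1]
    obtain ⟨t, rfl⟩ : ∃ t, q = t + 9 := ⟨q - 9, by omega⟩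
    have h5 := Nat.mul_le_mul_left ((t + 9) ^ 3 + 1) h4
    have h6 := b4.2
    rw [h1] at h6
    rw [show t + 9 - 1 = t + 8 from rfl] at h2 h6
    generalize (t + 9) ^ 3 + 1 = N at *
    have : 0 < N := by
      rcases Nat.eq_zero_or_pos N with rfl | h0
      · exact absurd (h1.trans (zero_mul _)) Nat.card_pos.ne'
      · exact h0
    nlinarith [Nat.zero_le (N * t), Nat.zero_le (N * t * t)]
  · have hz3 : z ∣ 3 := by rw [b2]; split_ifs <;> simp
    have hz0 : 0 < z := Nat.pos_of_dvd_of_pos hz3 three_pos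
    have hz : z ≤ 3 := Nat.le_of_dvd three_pos hz3
    have hm : 3 ≤ m := by nlinarith
    have hN : q ^ 3 + 1 = (q + 1) * (z * m) := by nlinarith
    have h5 : k * n = (q + 1) * ((q + 1) * (q - 1)) :=
      Nat.eq_of_mul_eq_mul_left (show 0 < z * m by positivity) (by rw [h1, hN] at b5; linarith)
    have h6 : m ∣ k * ε + 3 := by
      rw [← Nat.modEq_zero_iff_dvd]
      refine ((b6.mul_left k).add_right 3).symm.trans (Nat.modEq_zero_iff_dvd.2 ⟨z * (q + 2), ?_⟩)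
      obtain ⟨t, rfl⟩ : ∃ t, q = t + 1 := ⟨q - 1, by omega⟩
      rw [h5, Nat.add_sub_cancel]
      nlinarith
    have h7 : m ∣ 12 := by
      have hk := (Nat.dvd_prime Nat.prime_three).1 (b4.trans hz3)
      have hε : ε = 3 ∨ ε = 1 := b7.imp_right And.left
      rcases hk with rfl | rfl <;> rcases hε with rfl | rfl <;> exact h6.trans (by norm_num)
    have h8 : 2 ∣ m := by
      have := Nat.le_of_dvd (by norm_num) h7
      interval_cases m <;> omega
    have := (prime_facts hU.pos b1 Nat.prime_two (h8.mul_left z) (by norm_num)).1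
    omega

theorem Fr3.caseC (hU : UF σ q) (hq : 3 ≤ q) (h : Fr3 B e w f) (hZ : Zs B ≤ H) (hT : Tr H)
    (hH : (q + 1) * (q - 1) ≤ Nat.card (Dg H e) * (Nat.card (Pt H e w) * Nat.card (P0 H h.ee)))
    (h2 : (2 : F) = 0) {c : F} (hc0 : c ≠ 0) (hc : c ∈ P0 H h.ee)
    (hc' : ∀ d ∈ P0 H h.ee, d ≠ 0 → d = c) : False := by
  have h1 := h.card_H hU hT
  rw [h.card_stab1, h.card_stab2] at h1
  have h3 : Nat.card (P0 H h.ee) = 2 := by
    have : (P0 H h.ee : Set F) = {0, c} := Set.Subset.antisymm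
      (fun d hd => or_iff_not_imp_left.2 (hc' d hd)) (by rintro _ (rfl | rfl); exacts [zero_mem _, hc])
    exact (congrArg Set.ncard this).trans (Set.ncard_pair hc0.symm)
  have h4 : ∀ l ∈ Dg H e, (l : F) * σ l = 1 := fun l hl => by
    obtain ⟨k, hk, e1⟩ := mem_Dg.1 hl
    exact mul_left_cancel₀ hc0 ((hc' _ (P0_conj h.ee h.ee hk e1 hc) (by simp [hc0])).trans
      (mul_one c).symm)
  have h5 : Nat.card (Dg H e) ∣ q + 1 := card_dvd_of_pow fun l hl => hU.norm_eq _ ▸ h4 l hl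
  obtain ⟨j, hj⟩ := hU.two_pow h2
  have hq4 : q = 4 ∨ q = 8 ∨ 16 ≤ q := by
    rcases j with _ | _ | _ | _ | j <;> omega
  rw [h3] at hH h1
  by_cases hP : Pt H e w = ⊥
  · rw [hP, AddSubgroup.card_bot] at hH
    have := Nat.le_of_dvd (by omega) h5
    obtain ⟨t, rfl⟩ : ∃ t, q = t + 4 := ⟨q - 4, by omega⟩
    rw [show t + 4 - 1 = t + 3 from rfl] at hH
    nlinarith
  obtain ⟨⟨a, ha⟩, ha0⟩ := AddSubgroup.ne_bot_iff_exists_ne_zero.1 hP
  have ha0 : a ≠ 0 := by simpa using ha0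
  have hn : ∀ b ∈ Pt H e w, b ≠ 0 → b * σ b = c := fun b hb h0 =>
    hc' _ (h.Pt_sq h2 hb) (by simp [h0])
  have h6 : ∀ b, b * a ∈ Pt H e w → b ≠ 0 → b ^ 3 = 1 := fun b hb h0 => by
    by_cases hb1 : b = 1
    · simp [hb1]
    have a1 := hn a ha ha0
    have a2 := hn _ hb (mul_ne_zero h0 ha0)
    have a3 := hn _ (sub_mem hb ha) fun e1 => hb1 (mul_right_cancel₀ ha0 (by linear_combination e1))
    simp only [map_mul, map_sub] at a2 a3
    have a4 : b * σ b = 1 := mul_right_cancel₀ hc0 (by linear_combination a2 - b * σ b * a1)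
    have a5 : b + σ b = 1 := mul_right_cancel₀ hc0 (by
      linear_combination a2 - a3 + (1 - b - σ b) * a1)
    linear_combination (b + 1) * b * a5 - (b + 1) * a4 - h2
  have h7 : Nat.card (Dg H e) ∣ 9 := card_dvd_of_pow fun l hl => by
    obtain ⟨k, hk, e1⟩ := mem_Dg.1 hl
    have a1 := h6 _ (h.Pt_conj hk e1 ha) (by simp)
    rw [← eq_inv_of_mul_eq_one_right (h4 l hl) |>.symm, div_inv_eq_mul] at a1
    linear_combination a1
  have h8 : Nat.card (Pt H e w) ≤ 4 := by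
    refine le_trans (Set.ncard_le_ncard (s := (Pt H e w : Set F))
      (t := insert 0 ((· * a) '' {x : F | x ^ 3 = 1})) fun b hb => ?_)
      ((Set.ncard_insert_le _ _).trans (Nat.succ_le_succ ((Set.ncard_image_le).trans
        (ncard_pow_eq_one_le three_pos))))
    exact or_iff_not_imp_left.2 fun h0 => ⟨b / a, h6 _ (by rwa [div_mul_cancel₀ _ ha0])
      (div_ne_zero h0 ha0), div_mul_cancel₀ _ ha0⟩
  have h9 := Nat.le_of_dvd (by norm_num) h7
  generalize Nat.card (Dg H e) = d at *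
  generalize Nat.card (Pt H e w) = n at *
  rcases hq4 with rfl | rfl | hq4
  · interval_cases d <;> omega
  · obtain ⟨rfl, rfl⟩ : d = 9 ∧ n = 4 := by interval_cases d <;> omega
    obtain ⟨z, m, b1, b2, -, b4 | ⟨k, n, ε, b4, b5, b6, b7⟩⟩ := h.singer hU hq hZ hT
    · rw [if_pos (by norm_num)] at b2
      subst b2
      omega
    · rw [if_pos (by norm_num)] at b2
      subst b2
      obtain rfl : m = 19 := by omega
      rw [Nat.ModEq] at b6
      rcases (Nat.dvd_prime Nat.prime_three).1 b4 with rfl | rfl <;> omega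
  · obtain ⟨t, rfl⟩ : ∃ t, q = t + 16 := ⟨q - 16, by omega⟩
    rw [show t + 16 - 1 = t + 15 from rfl] at hH
    nlinarith [Nat.mul_le_mul h9 h8]

theorem Fr3.caseD (hU : UF σ q) (hq : 3 ≤ q) (h : Fr3 B e w f) (hZ : Zs B ≤ H) (hT : Tr H)
    (hH : (q + 1) * (q - 1) ≤ Nat.card (Dg H e) * Nat.card (Pt H e w))
    (h0 : P0 H h.ee = ⊥) (hP : Pt H e w ≠ ⊥) : q = 5 ∧ Nat.card H ∣ 7560 := by
  have := finite_SUb B
  have h1 := h.card_H hU hT
  have h2 := count_fix H (Om_finite B) (fun k _ _ => smul_mem_Om k) ((mk_mem_Om h.e0).2 h.ee)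
    (hT _ ((mk_mem_Om h.e0).2 h.ee))
  have h3 := h.card_stab2 H
  rw [h0, AddSubgroup.card_bot, mul_one] at h3
  rw [h.card_stab1, h3] at h1 h2
  rw [ncard_Om hU h.eps h.dim] at h2
  obtain ⟨⟨a, ha⟩, ha0⟩ := AddSubgroup.ne_bot_iff_exists_ne_zero.1 hP
  have ha0 : a ≠ 0 := by simpa using ha0
  have hfix : ∀ b, b * a ∈ Pt H e w → σ b = b := fun b hb => by
    have := h.Pt_comm ha hb
    rw [h0, AddSubgroup.mem_bot, map_mul] at this
    exact mul_left_cancel₀ (mul_ne_zero ha0 ((_root_.map_ne_zero σ).2 ha0))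
      (by linear_combination -this)
  have hq2 := hU.not_two_dvd fun h2 => by
    have := h.Pt_sq h2 ha
    simp [h0, ha0] at this
  have h4 : Nat.card (Pt H e w) ∣ q := by
    rw [← hU.card_fixed]
    exact AddSubgroup.card_dvd_of_injective (α := Pt H e w)
      (H := σ.toAddMonoidHom.eqLocus (AddMonoidHom.id F))
      (((AddMonoidHom.mulRight a⁻¹).comp (Pt H e w).subtype).codRestrict _ fun b =>
        hfix _ (by simp [ha0])) fun b c hbc => Subtype.ext
          (mul_right_cancel₀ (inv_ne_zero ha0) (congrArg Subtype.val hbc))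
  have h5 : ∀ l ∈ Dg H e, (l : F) ^ (3 * (q - 1)) = 1 := fun l hl => by
    obtain ⟨k, hk, e1⟩ := mem_Dg.1 hl
    have a1 := hfix _ (h.Pt_conj hk e1 ha)
    have a2 : σ l ≠ 0 := by simp
    rw [map_div₀, map_pow, hU.invol, div_eq_div_iff l.ne_zero a2] at a1
    refine mul_right_cancel₀ (pow_ne_zero 3 l.ne_zero) ?_
    rw [← pow_add, show 3 * (q - 1) + 3 = q * 3 by omega, pow_mul, ← hU.apply]
    linear_combination a1
  have h6 := card_dvd_of_pow h5
  have h7 := hU.card_sub_dvd (Dg H e)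
  have h8 := Nat.le_of_dvd hU.pos h4
  obtain ⟨t, rfl⟩ : ∃ t, q = t + 1 := ⟨q - 1, by omega⟩
  rw [Nat.add_sub_cancel] at *
  have h9 : 3 ∣ t + 1 + 1 := by
    by_contra hn
    have := Nat.dvd_gcd h6 h7
    rw [Nat.gcd_mul_right, (Nat.Prime.coprime_iff_not_dvd Nat.prime_three).2 hn, one_mul] at this
    nlinarith [Nat.mul_le_mul (Nat.le_of_dvd (by omega) this) h8]
  have h10 : Nat.card (Pt H e w) = t + 1 := by
    obtain ⟨k, hk⟩ := h4
    have a1 : ¬ 2 ∣ k := fun h => hq2 (hk ▸ h.mul_left _)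
    have a2 : ¬ 3 ∣ k := fun h => by have := hk ▸ h.mul_left (Nat.card (Pt H e w)); omega
    obtain rfl | a3 : k = 1 ∨ 5 ≤ k := by omega
    · omega
    · nlinarith [Nat.le_of_dvd (by omega) h6, Nat.mul_le_mul_left (Nat.card (Pt H e w)) a3]
  rw [h10] at h1 h2 h3 hH
  obtain ⟨u, hu⟩ := h6
  have hu2 : u = 1 ∨ u = 2 := by
    by_contra hn
    obtain rfl | a1 : u = 0 ∨ 3 ≤ u := by omega
    · omega
    · nlinarith [Nat.mul_le_mul_left (Nat.card (Dg H e)) a1]
  by_cases h5q : t = 4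
  · subst h5q
    refine ⟨rfl, h1 ▸ ?_⟩
    rcases hu2 with rfl | rfl
    · rw [show Nat.card (Dg H e) = 12 by omega]; norm_num
    · rw [show Nat.card (Dg H e) = 6 by omega]; norm_num
  exfalso
  have hZ3 : Nat.card (Zs B) = 3 := (h.card_Zs hU).trans (if_pos h9)
  have hZH : Zs B ≤ Hj H e 3 := fun k hk => by
    obtain ⟨c, hc⟩ := id hk
    exact ⟨hZ hk, c, (h.scalar hc).1, hc e⟩
  have c3 : Nat.card (Hj H e 3) = 3 * (t + 1) := by
    obtain ⟨a1, a2⟩ := h.card_Hj (H := H) 3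
    rw [h3] at a1
    rcases (Nat.dvd_prime Nat.prime_three).1 a2 with a3 | a3
    · have := Subgroup.card_dvd_of_le hZH
      rw [hZ3, a1, a3] at this
      omega
    · rw [a1, a3]
  have c6 : Nat.card (Hj H e 6) ≤ 6 * (t + 1) := by
    obtain ⟨a1, a2⟩ := h.card_Hj (H := H) 6
    rw [a1, h3]
    exact Nat.mul_le_mul_right _ (Nat.le_of_dvd (by norm_num) a2)
  have hn3 : ∀ l : F, l ^ 3 = 1 → l * σ l = 1 := fun l hl => by
    obtain ⟨j, hj⟩ := h9
    rw [hU.norm_eq, hj, pow_mul, hl, one_pow]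
  have d1 : 3 * (t + 1) ≤ {k | k ∈ H ∧ k • Projectivization.mk F e h.e0 = Projectivization.mk F e h.e0 ∧
      (Om B ∩ fixedBy (ℙ F E) k).ncard = 1}.ncard + 3 := by
    rw [← c3]
    refine le_trans (Set.ncard_le_ncard (s := (Hj H e 3 : Set (SUb B))) ?_ (Set.toFinite _))
      ((Set.ncard_union_le _ (Zs B : Set (SUb B))).trans (Nat.add_le_add_left hZ3.le _))
    rintro k ⟨a1, l, a2, a3⟩
    exact or_iff_not_imp_right.2 fun hk =>
      ⟨a1, smul_mk_eq.2 ⟨l, a3⟩, h.fix_eq_one hU a3 a2 (hn3 l a2) hk⟩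
  have d2 : {k | k ∈ H ∧ k • Projectivization.mk F e h.e0 = Projectivization.mk F e h.e0 ∧
      3 ≤ (Om B ∩ fixedBy (ℙ F E) k).ncard}.ncard ≤ 3 * (t + 1) + 3 := by
    have a1 := Set.ncard_sdiff_add_ncard_of_subset (s := (Hj H e 3 : Set (SUb B)))
      (t := (Hj H e 6 : Set (SUb B))) fun k ⟨a1, l, a2, a3⟩ =>
        ⟨a1, l, by rw [show 6 = 3 * 2 from rfl, pow_mul, a2, one_pow], a3⟩
    have a2 := Set.ncard_union_le ((Hj H e 6 : Set (SUb B)) \ Hj H e 3) (Zs B : Set (SUb B))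
    refine le_trans (Set.ncard_le_ncard ?_) (a2.trans ?_)
    · rintro k ⟨a1, a2, a3⟩
      obtain ⟨l, hl⟩ := smul_mk_eq.1 a2
      have b1 : l * σ l = 1 := by_contra fun hn => by have := h.fix_le_two hl hn; omega
      refine or_iff_not_imp_right.2 fun hk => ⟨⟨a1, l, ?_, hl⟩, fun ⟨_, l', b2, b3⟩ => ?_⟩
      · have b2 := h5 (Units.mk0 l (h.stab hl).1) (mem_Dg.2 ⟨k, a1, hl⟩)
        rw [hU.norm_eq] at b1
        rw [Units.val_mk0] at b2
        rw [← one_mul (l ^ 6), ← b2, ← pow_add, show 3 * t + 6 = (t + 1 + 1) * 3 by ring, pow_mul,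
          b1, one_pow, b2]
      · have := h.fix_eq_one hU b3 b2 (hn3 l' b2) hk
        omega
    · change _ + Nat.card (Hj H e 3) = Nat.card (Hj H e 6) at a1
      change _ + Nat.card (Zs B) ≤ _
      omega
  have hN : 0 < (t + 1) ^ 3 + 1 := by positivity
  have d3 : Nat.card H ≤ 2 * {k | k ∈ H ∧ ∃ y ∈ Om B, k • y = y}.ncard + ((t + 1) ^ 3 + 1) * 6 := by
    rw [h1]
    nlinarith [Nat.mul_le_mul_left ((t + 1) ^ 3 + 1) d1, Nat.mul_le_mul_left ((t + 1) ^ 3 + 1) d2]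
  have ht : 10 ≤ t := by omega
  have d4 : ((t + 1) ^ 3 + 1) * 120 ≤ Nat.card H := by
    rw [h1]
    exact Nat.mul_le_mul_left _ (le_trans (by nlinarith) hH)
  obtain ⟨z, m, b1, b2, b3, b4 | ⟨k, n, ε, b4, b5, b6, rfl | b7⟩⟩ := h.singer hU hq hZ hT
  · omega
  · rw [if_pos h9] at b2
    subst b2
    have hN' : (t + 1) ^ 3 + 1 = (t + 1 + 1) * (3 * m) := by nlinarith
    have hm : 0 < m := Nat.pos_of_ne_zero fun h => b3 (h ▸ dvd_zero 3)
    have e1 : k * n = (t + 2) * (Nat.card (Dg H e) * (t + 1)) :=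
      Nat.eq_of_mul_eq_mul_left (show 0 < 3 * m by positivity) (by rw [h1, hN'] at b5; linarith)
    have e2 : m ∣ 3 * (u * k + (t + 2)) := by
      rw [← Nat.modEq_zero_iff_dvd, show 3 * (u * k + (t + 2)) = u * k * 3 + 3 * (t + 2) by ring]
      refine ((b6.mul_left (u * k)).add_right _).symm.trans
        (Nat.modEq_zero_iff_dvd.2 ⟨9 * (t + 2), ?_⟩)
      rw [mul_assoc, e1]
      nlinarith
    have e3 := Nat.le_of_dvd (by omega) (Nat.Coprime.dvd_of_dvd_mul_left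
      ((Nat.Prime.coprime_iff_not_dvd Nat.prime_three).2 b3).symm e2)
    have e4 := Nat.le_of_dvd three_pos b4
    have e5 : u * k ≤ 6 := by rcases hu2 with rfl | rfl <;> omega
    nlinarith
  · omega

theorem su3_main (hU : UF σ q) (hB : IsEps B 1) (h3 : finrank F E = 3) (hq : 3 ≤ q) (hZ : Zs B ≤ H)
    (hne : H ≠ ⊤) (hH : (q ^ 3 + 1) * ((q + 1) * (q - 1)) ≤ Nat.card H) :
    q = 5 ∧ Nat.card H ∣ 7560 := by
  have hT : Tr H := fun x hx y hy => trans_of_card hU hB h3 hH hx hy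
  obtain ⟨e, -, he0, he⟩ := exists_iso_vec hB hU ⊤ (by rw [finrank_top, h3]; omega)
  obtain ⟨w, f, h⟩ := exists_fr3 hU hB h3 he0 he
  rw [h.card_H hU hT, Nat.mul_le_mul_left_iff (by positivity), h.card_stab1] at hH
  by_cases h0 : P0 H h.ee = ⊥
  · by_cases h1 : Pt H e w = ⊥
    · have h2 := h.card_stab2 H
      rw [h0, h1, AddSubgroup.card_bot, mul_one] at h2
      exact (h.caseE hU hq hZ hT (by rwa [h2, mul_one] at hH) h2).elim
    · exact h.caseD hU hq hZ hT (by rwa [h.card_stab2, h0, AddSubgroup.card_bot, mul_one] at hH) h0 h1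
  obtain ⟨⟨c, hc⟩, hc0⟩ := AddSubgroup.ne_bot_iff_exists_ne_zero.1 h0
  have hc0 : c ≠ 0 := by simpa using hc0
  exfalso
  by_cases h2 : (2 : F) = 0
  · refine h.caseC hU hq hZ hT (by rwa [h.card_stab2] at hH) h2 hc0 hc fun d hd hd0 => ?_
    by_contra hn
    exact hne (h.top_of_lines hU hq hT fun w' f' h' => h'.exists_mult hT h2 hd hc hd0 hc0 hn)
  · exact hne (h.top_of_lines hU hq hT fun w' f' h' => h'.exists_neg hU hT h2 hc hc0)

end Cfsg.Agent.H5
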