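import Cfsg.Agent.H5.U3G

/-! The minimal index of `PSU(3, q)`. -/

set_option autoImplicit false
set_option linter.unusedSectionVars false

namespace Cfsg.Agent.H5

open Module H1 MulAction Projectivization
open scoped LinearAlgebra.Projectivization

variable {F : Type*} [Field F] {σ : F →+* F} {E : Type*} [AddCommGroup E] [Module F E]
  [FiniteDimensional F E] {B : Sesq σ E} {H : Subgroup (SUb B)} {e w f : E} [Fintype F] {q : ℕ}

theorem Fr3.center_eq (hU : UF σ q) (h : Fr3 B e w f) : Subgroup.center (SUb B) = Zs B := by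
  refine le_antisymm (fun g hg => ?_) fun g ⟨c, hc⟩ => Subgroup.mem_center_iff.2 fun k =>
    H1.su_ext fun v => by simp [hc]
  obtain ⟨c, hc0, hc⟩ := hU.exists_trace_zero
  have key : ∀ u v, B u u = 0 → B v u = 1 → ∃ l : F, suAct B g u = l • u := fun u v hu hv => by
    have h1 := congrArg (suAct B · v) (Subgroup.mem_center_iff.1 hg (ut h.eps u c))
    simp only [act_mul_apply, ut_apply h.eps hu hc, hv, mul_one, map_add, map_smul, add_right_inj,
      mul_smul] at h1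
    exact ⟨_, (smul_right_injective E hc0 h1).symm⟩
  obtain ⟨θ, hθ⟩ := hU.exists_trace_one
  obtain ⟨l, h1⟩ := key e f h.ee h.fe
  obtain ⟨m, h2⟩ := key f e h.ff h.ef
  obtain ⟨n, h3⟩ := key (f + w - θ • e) e (by
    simp [h.ee, h.ff, h.fe, h.we, h.wf, h.ww, h.ef, h.ew, h.fw]
    linear_combination -hθ) (by simp [h.ee, h.ef, h.ew])
  obtain ⟨k, h4⟩ := key (f + c • e) e (by simp [h.ee, h.ff, h.fe, h.ef, hc]) (by simp [h.ee, h.ef])
  have a1 := congrArg (B · e) h4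
  have a2 := congrArg (B · f) h4
  have a3 := congrArg (B · e) h3
  have a4 := suAct_pres g w e
  simp [h1, h2, h.ee, h.ff, h.fe, h.we, h.wf, h.ww, h.ef, h.ew, h.fw, hc0, (h.stab h1).1,
    mul_comm c] at a1 a2 a3 a4
  rw [a4, add_zero] at a3
  subst a1 a2 a3
  refine ⟨l, fun v => ?_⟩
  obtain ⟨a, b, d, rfl⟩ := h.exists_dec v
  simp only [map_add, map_sub, map_smul, h1, h2] at h3 ⊢
  linear_combination (norm := module) b • h3

theorem UF.card_SUb3 (hU : UF σ q) :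
    Nat.card (SUb (stdU (Fin 3) σ)) = q ^ 3 * ((q ^ 3 + 1) * ((q + 1) * (q - 1))) := by
  obtain ⟨e⟩ := exists_su_equiv hU 3
  rw [Nat.card_congr e.toEquiv, hU.card_SU 2]
  obtain ⟨t, rfl⟩ : ∃ t, q = t + 1 := ⟨q - 1, by have := hU.pos; omega⟩
  simp only [Finset.prod_range_succ, Finset.range_zero, Finset.prod_empty, uq]
  rw [if_pos (by decide), if_neg (by decide), show (t + 1) ^ (0 + 2) - 1 = (t + 2) * t from
    Nat.sub_eq_of_eq_add (by ring), Nat.add_sub_cancel]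
  ring

theorem UF.psu3_transfer (hU : UF σ q) {N : ℕ}
    (h1 : ∀ H : Subgroup (SUb (stdU (Fin 3) σ)), Zs _ ≤ H → H ≠ ⊤ → N ≤ H.index)
    (h2 : ∃ K : Subgroup (SUb (stdU (Fin 3) σ)), Zs _ ≤ K ∧ K.index = N) :
    (∀ H : Subgroup (Cfsg.PSU 3 F q), H ≠ ⊤ → N ≤ H.index) ∧
      ∃ H : Subgroup (Cfsg.PSU 3 F q), H.index = N := by
  obtain ⟨φ⟩ := exists_su_equiv hU 3
  have hB := hU.isEps_std (Fin 3)
  have h3 : finrank F (Fin 3 → F) = 3 := by simp
  obtain ⟨e, -, he0, he⟩ := exists_iso_vec hB hU ⊤ (by rw [finrank_top, h3]; omega)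
  obtain ⟨w, f, h⟩ := exists_fr3 hU hB h3 he0 he
  rw [← h.center_eq hU] at h1 h2
  let π := (QuotientGroup.mk' (Subgroup.center (Cfsg.SU 3 F q))).comp φ.toMonoidHom
  have hπ : Function.Surjective π := (QuotientGroup.mk'_surjective _).comp φ.surjective
  have hk : π.ker = Subgroup.center _ := by
    ext g
    rw [MonoidHom.mem_ker]
    exact (QuotientGroup.eq_one_iff _).trans (MulEquivClass.apply_mem_center_iff φ)
  refine ⟨fun H hH => ?_, ?_⟩
  · rw [← Subgroup.index_comap_of_surjective H hπ]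
    refine h1 _ (hk ▸ Subgroup.comap_mono bot_le) fun e => hH ?_
    rw [← Subgroup.map_comap_eq_self_of_surjective hπ H, e, ← MonoidHom.range_eq_map,
      MonoidHom.range_eq_top.mpr hπ]
  · obtain ⟨K, hK, e⟩ := h2
    refine ⟨K.map π, ?_⟩
    rw [Subgroup.index_map, sup_eq_left.mpr (hk ▸ hK), MonoidHom.range_eq_top.mpr hπ, e]
    simp

theorem UF.su3_index (hU : UF σ q) (hq : 3 ≤ q) {H : Subgroup (SUb (stdU (Fin 3) σ))}
    (hZ : Zs _ ≤ H) (hne : H ≠ ⊤) : q ^ 3 + 1 ≤ H.index ∨ q = 5 ∧ Nat.card H ∣ 7560 := by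
  have := finite_SUb (stdU (Fin 3) σ)
  refine or_iff_not_imp_left.2 fun hn => su3_main hU (hU.isEps_std _) (by simp) hq hZ hne ?_
  have h1 := H.index_mul_card
  rw [hU.card_SUb3] at h1
  refine Nat.le_of_mul_le_mul_left (h1 ▸ Nat.mul_le_mul_right _ (by omega)) (pow_pos hU.pos 3)

theorem UF.exists_index_pt (hU : UF σ q) (hB : IsEps B 1) (h3 : finrank F E = 3) :
    ∃ K : Subgroup (SUb B), Zs B ≤ K ∧ K.index = q ^ 3 + 1 := by
  obtain ⟨v, -, hv, hvv⟩ := exists_iso_vec hB hU ⊤ (by rw [finrank_top, h3]; omega)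
  refine ⟨stabilizer _ (Projectivization.mk F v hv), fun g ⟨c, hc⟩ => smul_mk_eq.2 ⟨c, hc v⟩, ?_⟩
  rw [index_stabilizer, ← ncard_Om hU hB h3]
  congr 1
  refine Set.Subset.antisymm ?_ fun x hx => ?_
  · rintro _ ⟨g, rfl⟩
    exact smul_mem_Om g ((mk_mem_Om hv).2 hvv)
  · obtain ⟨g, hg⟩ := su_move_iso hB hU h3.ge hvv hv hx x.rep_nonzero
    exact ⟨g, (smul_mk_eq.2 ⟨1, by simp [hg]⟩).trans x.mk_rep⟩

end Cfsg.Agent.H5
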