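import Cfsg.Agent.H5.PStar

/-! Unitary transformations with prescribed elementary divisors; determinants on centralizers. -/

set_option autoImplicit false

namespace Cfsg.Agent.H5

open Module Polynomial

universe u v w

variable {F : Type w} [Field F] {σ : F →+* F}
variable {V : Type u} [AddCommGroup V] [Module F V]

theorem UF.exists_form_mulX [Fintype F] {q : ℕ} (h : UF σ q) {χ : F[X]} (hχ : χ.Monic)
    (h0 : χ.coeff 0 ≠ 0) (hs : pstar σ χ = χ) : ∃ B : Sesq σ (AdjoinRoot χ), IsEps B 1 ∧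
      ∃ g : Isom B, (g.1 : End F (AdjoinRoot χ)) = H4.mulX χ := by
  have := hχ.finite_adjoinRoot
  have : Finite (AdjoinRoot χ) := Module.finite_of_finite F
  obtain ⟨τ, hτ1, hτ2, hτ3⟩ := exists_adjoin_star h.invol h0 (map_eq_of_pstar_eq h0 hs)
  set ρ := AdjoinRoot.root χ with hρ
  let _ : StarRing (AdjoinRoot χ) :=
    { star := τ, star_involutive := hτ1, star_mul := fun x y => by rw [map_mul, mul_comm],
      star_add := map_add τ }
  let B₀ : Bil F (AdjoinRoot χ) := traceForm' (topCoeff hχ) (RingHom.id _) (fun _ _ => rfl)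
  have hB₀ : IsEps B₀ 1 := ⟨fun _ => rfl, fun u v => by simp [B₀, traceForm'_apply, mul_comm],
    topCoeff_nondeg hχ⟩
  let l₁ : AdjoinRoot χ →ₗ[F] F :=
    { toFun := fun a => σ (topCoeff hχ (τ a))
      map_add' := fun x y => by simp
      map_smul' := fun a x => by simp [hτ2, h.invol] }
  obtain ⟨b, hb⟩ := hB₀.exists_rep l₁
  have hb : ∀ a, topCoeff hχ (b * a) = σ (topCoeff hχ (τ a)) := hb
  have hbb : τ b * b = 1 := by
    apply hB₀.ext_left
    intro a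
    change topCoeff hχ (τ b * b * a) = topCoeff hχ (1 * a)
    rw [mul_comm (τ b), mul_assoc, hb, map_mul, hτ1, hb, hτ1, h.invol, one_mul]
  obtain ⟨ω, hω⟩ := h.exists_ne
  obtain ⟨a, ha, hab⟩ := comm_hilbert90 (A := AdjoinRoot χ) (ω := ω • 1) (b := b) (by
    change IsUnit (ω • 1 - τ (ω • 1))
    rw [hτ2, map_one, ← sub_smul, ← Algebra.algebraMap_eq_smul_one]
    exact (IsUnit.mk0 _ (sub_ne_zero.2 hω.symm)).map _) hbb
  have hab : a = τ a * b := hab
  let l : AdjoinRoot χ →ₗ[F] F := (topCoeff hχ).comp (LinearMap.mulLeft F a)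
  let B : Sesq σ (AdjoinRoot χ) := traceForm' l τ hτ2
  have hB : ∀ x y, B x y = topCoeff hχ (a * (x * τ y)) := fun _ _ => rfl
  have hU : IsEps B 1 := by
    refine ⟨h.invol, fun u v => ?_, fun u hu => ?_⟩
    · rw [hB, hB, one_mul]
      nth_rewrite 1 [hab]
      rw [mul_comm (τ a), mul_assoc, hb, map_mul τ, map_mul τ, hτ1, hτ1, mul_comm u]
    · have := topCoeff_nondeg hχ (a * u) fun b => by
        have := hu (τ b)
        rwa [hB, hτ1, ← mul_assoc] at this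
      exact (ha.mul_right_eq_zero).1 this
  exact ⟨B, hU, hU.toIsom (H4.mulX χ) (fun x y => by
    rw [hB, hB]
    congr 2
    simp only [H4.mulX_apply, map_mul]
    linear_combination (x * τ y) * hτ3), rfl⟩

theorem hasType_mulX_pair {φ ψ : F[X]} (hφ : φ.Monic) (hφ' : Irreducible φ) (hψ : ψ.Monic)
    (hψ' : Irreducible ψ) (hne : φ ≠ ψ) {j : ℕ} (hj : 0 < j) :
    H4.HasType (H4.mulX (φ ^ j * ψ ^ j)) ({(φ, j)} + {(ψ, j)}) := by
  have h1 := (H4.hasType_mulX hφ hφ' hj).prodMap (H4.hasType_mulX hψ hψ' hj)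
  have := H4.finite_adjoinRoot (hφ.pow j).ne_zero
  have := H4.finite_adjoinRoot (hψ.pow j).ne_zero
  obtain ⟨u, v, huv⟩ := (H4.isCoprime_of_ne hφ hφ' hψ hψ' hne).pow (m := j) (n := j)
  have hc : H4.IsCyc ((H4.mulX (φ ^ j)).prodMap (H4.mulX (ψ ^ j)) :
      End F (AdjoinRoot (φ ^ j) × AdjoinRoot (ψ ^ j))) (1, 1) := by
    rintro ⟨x, y⟩
    obtain ⟨a, rfl⟩ := AdjoinRoot.mk_surjective x
    obtain ⟨b, rfl⟩ := AdjoinRoot.mk_surjective y
    refine ⟨a * (v * ψ ^ j) + b * (u * φ ^ j), Prod.ext ?_ ?_⟩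
    · refine (H4.intertwine_aeval (f := (H4.mulX (φ ^ j)).prodMap (H4.mulX (ψ ^ j)))
        (LinearMap.fst F _ _) (g := H4.mulX (φ ^ j)) (fun _ => rfl) _ _).trans ?_
      rw [H4.aeval_mulX_apply, LinearMap.fst_apply, mul_one, AdjoinRoot.mk_eq_mk]
      exact ⟨(b - a) * u, by linear_combination a * huv⟩
    · refine (H4.intertwine_aeval (f := (H4.mulX (φ ^ j)).prodMap (H4.mulX (ψ ^ j)))
        (LinearMap.snd F _ _) (g := H4.mulX (ψ ^ j)) (fun _ => rfl) _ _).trans ?_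
      rw [H4.aeval_mulX_apply, LinearMap.snd_apply, mul_one, AdjoinRoot.mk_eq_mk]
      exact ⟨(a - b) * v, by linear_combination b * huv⟩
  have h2 := hc.sim_mulX
  rw [h1.charpoly_eq] at h2
  have h3 : H4.chi ({(φ, j)} + {(ψ, j)}) = φ ^ j * ψ ^ j := by simp [H4.chi]
  rw [h3] at h2
  exact h1.of_sim h2

theorem exists_block (hσ : ∀ x, σ (σ x) = x) {s : Multiset (F[X] × ℕ)} (hs : H4.Good s)
    (h0 : ∀ y ∈ s, y.1.coeff 0 ≠ 0) (hst : s.map (Prod.map (pstar σ) id) = s) {y : F[X] × ℕ}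
    (hy : y ∈ s) : ∃ (χ : F[X]) (t s' : Multiset (F[X] × ℕ)), s = t + s' ∧ y ∈ t ∧ χ.Monic ∧
      χ.coeff 0 ≠ 0 ∧ pstar σ χ = χ ∧ H4.HasType (H4.mulX χ) t ∧
      s'.map (Prod.map (pstar σ) id) = s' := by
  obtain ⟨φ, j⟩ := y
  obtain ⟨h1, h2, h3⟩ := hs _ hy
  have hp : ∀ {p : F[X]}, p.coeff 0 ≠ 0 → (p ^ j).coeff 0 ≠ 0 := fun h => by
    rw [coeff_zero_eq_eval_zero, eval_pow, ← coeff_zero_eq_eval_zero]; exact pow_ne_zero _ h
  obtain ⟨s₁, rfl⟩ := Multiset.exists_cons_of_mem hy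
  by_cases he : pstar σ φ = φ
  · refine ⟨φ ^ j, {(φ, j)}, s₁, by simp, by simp, h1.pow j, hp (h0 _ hy), by rw [pstar_pow, he],
      H4.hasType_mulX h1 h2 h3, ?_⟩
    simpa [he] using hst
  · have hy' : (pstar σ φ, j) ∈ (φ, j) ::ₘ s₁ := by
      have := Multiset.mem_map_of_mem (Prod.map (pstar σ) id) hy
      rwa [hst] at this
    obtain ⟨s₂, rfl⟩ := Multiset.exists_cons_of_mem
      ((Multiset.mem_cons.1 hy').resolve_left fun h => he (congrArg Prod.fst h))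
    obtain ⟨k1, k2, -⟩ := hs _ hy'
    have h4 : pstar σ (pstar σ φ) = φ := pstar_pstar hσ h1
    refine ⟨φ ^ j * pstar σ φ ^ j, {(φ, j)} + {(pstar σ φ, j)}, s₂, by simp, by simp,
      (h1.pow j).mul (k1.pow j), ?_, by rw [pstar_mul, pstar_pow, pstar_pow, h4, mul_comm],
      hasType_mulX_pair h1 h2 k1 k2 (Ne.symm he) h3, ?_⟩
    · rw [mul_coeff_zero]; exact mul_ne_zero (hp (h0 _ hy)) (hp (h0 _ hy'))
    · simp only [Multiset.map_cons, Prod.map_apply, id_eq, h4] at hst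
      rw [Multiset.cons_swap] at hst
      simpa using hst

theorem UF.exists_model [Fintype F] {q : ℕ} (h : UF σ q) (s : Multiset (F[X] × ℕ)) :
    H4.Good s → (∀ y ∈ s, y.1.coeff 0 ≠ 0) → s.map (Prod.map (pstar σ) id) = s →
      ∃ (k : ℕ) (g : Isom (stdU (Fin k) σ)), H4.HasType (g.1 : End F (Fin k → F)) s := by
  induction s using Multiset.strongInductionOn with
  | _ s ih =>
    intro hs h0 hst
    by_cases hs0 : s = 0
    · obtain ⟨A, hA⟩ := H4.exists_matrix_hasType (n := Fin 0) hs (by simp [hs0, H4.size])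
      exact ⟨0, 1, by convert hA using 1; exact Subsingleton.elim _ _⟩
    obtain ⟨y, hy⟩ := Multiset.exists_mem_of_ne_zero hs0
    obtain ⟨χ, t, s', rfl, hyt, h1, h2, h3, h4, h5⟩ := exists_block h.invol hs h0 hst hy
    obtain ⟨k, g', hg'⟩ := ih s' (by
      rw [Multiset.lt_iff_cons_le]
      exact ⟨y, by rw [← Multiset.singleton_add]; gcongr; simpa⟩)
      (fun z hz => hs z (Multiset.mem_add.2 (Or.inr hz)))
      (fun z hz => h0 z (Multiset.mem_add.2 (Or.inr hz))) h5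
    obtain ⟨B, hB, g, hg⟩ := h.exists_form_mulX h1 h2 h3
    have := h1.finite_adjoinRoot
    have hB' := hB.prod (h.isEps_std (Fin k))
    obtain ⟨e, he⟩ := exists_isometry (h.good hB')
      (h.good (h.isEps_std (Fin (finrank F (AdjoinRoot χ × (Fin k → F)))))) (by simp)
    refine ⟨_, Isom.congr e he (Isom.prod g g'), ?_⟩
    have h6 := (hg ▸ h4 : H4.HasType (g.1 : End F (AdjoinRoot χ)) t).prodMap hg'
    exact h6.of_sim ⟨e, fun v => by simp⟩

theorem UF.exists_commute_det_pow [Fintype F] {q : ℕ} (h : UF σ q) [FiniteDimensional F V]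
    {B : Sesq σ V} (hB : IsEps B 1) (g : Isom B) {s : Multiset (F[X] × ℕ)}
    (hs : H4.HasType (g.1 : End F V) s) {y : F[X] × ℕ} (hy : y ∈ s) {δ : F} (hδ : δ * σ δ = 1) :
    ∃ z : Isom B, (∀ v, z.1 (g.1 v) = g.1 (z.1 v)) ∧ LinearMap.det (z.1 : End F V) = δ ^ y.2 := by
  have h0 : ∀ y ∈ s, y.1.coeff 0 ≠ 0 := fun y hy =>
    H4.coeff_zero_ne_zero_of_dvd (hs.good.dvd_chi hy) (type_coeff_zero_ne g.1 hs)
  obtain ⟨χ, t, s', rfl, hyt, h1, h2, h3, h4, h5⟩ :=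
    exists_block h.invol hs.good h0 (type_star_stable hB g hs) hy
  obtain ⟨k, g', hg'⟩ := h.exists_model s' (fun z hz => hs.good z (Multiset.mem_add.2 (Or.inr hz)))
    (fun z hz => h0 z (Multiset.mem_add.2 (Or.inr hz))) h5
  obtain ⟨B₀, hB₀, g₀, hg₀⟩ := h.exists_form_mulX h1 h2 h3
  have := h1.finite_adjoinRoot
  have hB' := hB₀.prod (h.isEps_std (Fin k))
  have h6 := (hg₀ ▸ h4 : H4.HasType (g₀.1 : End F (AdjoinRoot χ)) t).prodMap hg'
  obtain ⟨e, he, he'⟩ := h.isim_of_sim hB' hB (Isom.prod g₀ g') g (h6.sim hs)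
  obtain ⟨d, hd0, hd⟩ := h.hilbert90 hδ
  obtain ⟨c, hc, hc'⟩ := h4.exists_commute_det hyt d
  obtain ⟨z, hz, hz'⟩ := exists_isom_of_cyc hB₀ g₀ (v := 1) (hg₀ ▸ H4.isCyc_mulX χ) (a := c)
    (hg₀ ▸ hc) (hc' ▸ pow_ne_zero _ hd0)
  refine ⟨Isom.congr e he (Isom.prod z 1), fun v => ?_, ?_⟩
  · obtain ⟨v, rfl⟩ := e.surjective v
    have h7 : ∀ v, g.1 (e v) = e (g₀.1 v.1, g'.1 v.2) := fun v => (he' v).symm
    simp [h7, hz]
  · have h7 : H4.Sim ((Isom.prod z (1 : Isom (stdU (Fin k) σ))).1 : End F _)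
        ((Isom.congr e he (Isom.prod z 1)).1 : End F V) := ⟨e, fun v => by simp⟩
    rw [← h7.det_eq, Isom.prod_coe, LinearMap.det_prodMap]
    rw [hc'] at hz'
    apply mul_right_cancel₀ ((map_ne_zero σ).2 (pow_ne_zero y.2 hd0))
    have h8 : LinearMap.det ((1 : Isom (stdU (Fin k) σ)).1 : End F (Fin k → F)) = 1 :=
      LinearMap.det_id
    rw [h8, mul_one, hz', map_pow, ← mul_pow, mul_comm, ← hd]

end Cfsg.Agent.H5
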